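import Cfsg.Agent.H791.E8L.Rel2_m3
import Cfsg.Agent.H540.E8C.Centre
import Mathlib
import Cfsg.Agent.ChevFast.E8
import Cfsg.Agent.H238.E8.Frame
import Cfsg.Agent.BpExc.AsmN_m3
import Cfsg.Agent.ChevalleyStructure.SparseEng
import Cfsg.Agent.H65.E8L.Chk_m3
import Cfsg.Agent.H992.E8X.Sig
import Cfsg.Agent.H239.E8P.Tor
import Cfsg.Agent.H857.E8L.Rep_mg_m3
import Cfsg.Agent.H696.GmnThree
import Cfsg.Agent.H736.Co3.Sp
import Cfsg.Agent.FastGrp
import Cfsg.Agent.Prune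
set_option linter.all false

section
prune_inst 0x7f00000000000000000000000000000000000000000000000000000000000000000000000000000000000000000000000000000000000000000000000000000000000000000000000000000000000000003fffffffffdfffffffffffffffffbeffbdffffffff

section
prune_inst 0xfcbdfbaff8a7ffdfff7e7ffedfdffffdf9ffffbffffdcbffe8e1ff0f9f5b0a49c56b898fe850fe0fd6e2b4b0f87b13fffefeffee6bfc7ffffdfff49ffbffcfedf7b588519488340f380ff703f07fce7f000000000020000000000000000000004200000000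

-- part: H238/E8/Cent
section
set_option linter.all false
open scoped Cfsg.Agent.FastGrp

/-!
# The centraliser in `E₈(k)` of the diagonal form of `x₀` (helper238)
-/

set_option autoImplicit false
set_option linter.unusedSectionVars false
set_option maxRecDepth 100000

namespace Cfsg.Agent.H238.E8

open CoxeterSystem Matrix Cfsg Cfsg.Lie Cfsg.Lie.ChevalleyDatum
open Cfsg.Agent.ChevalleyStructure Cfsg.Agent.ChevalleyStructure.Elts Cfsg.Agent.ChevalleyStructure.CoxeterGeom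
  Cfsg.Agent.ChevalleyStructure.CoxeterGeomTypes Cfsg.Agent.ChevalleyStructure.NPerm
  Cfsg.Agent.ChevalleyStructure.RootVec Cfsg.Agent.ChevalleyStructure.RootVecTab
open Cfsg.Agent.Tits.Roots Cfsg.Agent.Tits.Core Cfsg.Agent.Nodes Cfsg.Agent.Nodes.Reps Cfsg.Agent.Nodes.BNOf
  Cfsg.Agent.Nodes.RGDChev Cfsg.Agent.Nodes.Bruhat Cfsg.Agent.Nodes.SubComb Cfsg.Agent.Nodes.Coroot
  Cfsg.Agent.Nodes.NormalForm
open Cfsg.Agent.KFacts.RgdField Cfsg.Agent.KFacts.RgdChevCoord Cfsg.Agent.BpExc.TorCent Cfsg.Agent.BpExc.TorChev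
open Cfsg.Agent.GpExc.Field Cfsg.Agent.BpExc.Tow Cfsg.Agent.BpExc.TowChev Cfsg.Agent.BpExc.Fr
  Cfsg.Agent.BpExc.LangFr Cfsg.Agent.LangThm Cfsg.Agent.BpExc Cfsg.Agent.H129.TorusChar Cfsg.Agent.H129.TorusMain
open Cfsg.Agent.H720.TorusReal Cfsg.Agent.Nodes.Unique Cfsg.Agent.H897.T5Cent
open Cfsg.Agent.BpExc.FamUntw Cfsg.Agent.BpExc.FamInst Cfsg.Agent.BpExc.FamField
open Cfsg.Agent.H942.E8Tab Cfsg.Agent.H942.E8Alc Cfsg.Agent.H942.CB
open Cfsg.Agent.H944.Tab Cfsg.Agent.H944.Kac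
open Cfsg.Agent.H540.E8C (KK)
open Cfsg.Agent.ChevalleyStructure.HMatDiagAll (expo)
open Cfsg.Agent.H992.E8X (X hE8)

instance kkch : CharP KK 3 := charP_of_injective_algebraMap (algebraMap (ZMod 3) KK).injective 3

theorem lf : LocFin KK := locFin_of_isAlgebraic 3 KK

theorem X_eq_xc {s : ℕ} (hs : s < 240) (a : KK) : X s a = xc e8T (vec chevE8 8 s) a :=
  Subtype.ext (coe_xc e8T hs a).symm

theorem mem_XX {s : ℕ} (hs : s < chevE8.nroots) {g : ↥(chevE8.group KK)} :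
    g ∈ XX chevE8 8 KK (vec chevE8 8 s) ↔ ∃ a, xc e8T (vec chevE8 8 s) a = g :=
  ((coordsL (k := KK) e8T cs8 lf 3).coord _ ((isRoot_iff e8T cs8 _).2 ⟨s, hs, rfl⟩)).mem g

section
variable {k : Type} [Field k]

theorem dg_mul (d e : Fin 5 → kˣ) (h : ∏ i, d i = 1) (h' : ∏ i, e i = 1) :
    dg d h * dg e h' = dg (fun i => d i * e i) (by rw [Finset.prod_mul_distrib, h, h', one_mul]) := by
  apply Cfsg.Agent.LieClassical.SLGen.smul_ext
  intro v
  funext i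
  rw [mul_smul, dg_smul, dg_smul, dg_smul, Units.val_mul, mul_assoc]

theorem dg_eq_one {d : Fin 5 → kˣ} {h : ∏ i, d i = 1} (h1 : ∀ i, d i = 1) : dg d h = 1 := by
  apply Cfsg.Agent.LieClassical.SLGen.smul_ext
  intro v
  funext i
  rw [one_smul, dg_smul, h1, Units.val_one, one_mul]

theorem dg_pow (d : Fin 5 → kˣ) (h : ∏ i, d i = 1) (n : ℕ) :
    dg d h ^ n = dg (fun i => d i ^ n) (by rw [Finset.prod_pow, h, one_pow]) := by
  induction n with
  | zero => rw [pow_zero, dg_eq_one fun i => pow_zero _]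
  | succ n ih =>
    rw [pow_succ, ih, dg_mul]
    congr 1
    funext i
    rw [pow_succ]

end

/-- the exponent of `η` -/
def ex (s : ℕ) : ℤ := expo chevE8 (rt2 0 1) s + 4 * expo chevE8 (rt2 1 2) s + 13 * expo chevE8 (rt2 2 3) s +
  40 * expo chevE8 (rt2 3 4) s

theorem tab11 : ∀ s : Fin 240, (11 : ℤ) ∣ ex s.val → ∃ i j, i ≠ j ∧ s.val = rt1 i j := by (delta Cfsg.Agent.ChevalleyStructure.HMatDiagAll.expo Cfsg.Agent.H238.E8.ex; rewrite [Cfsg.Agent.ChevFast.E8.chainEntry, Cfsg.Agent.ChevFast.E8.neg]; decide +kernel)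

/-- the powers `η^(3^i)` -/
noncomputable def d3 (η : KKˣ) : Fin 5 → KKˣ := fun i => η ^ 3 ^ (i : ℕ)

theorem prod_d3 {η : KKˣ} (h : η ^ 121 = 1) : ∏ i, d3 η i = 1 := by
  rw [Fin.prod_univ_five]
  unfold d3
  rw [← pow_add, ← pow_add, ← pow_add, ← pow_add]
  exact h

theorem wv_d3 (η : KKˣ) (s : ℕ) : wv rt2 (d3 η) s = η ^ ex s := by
  unfold wv ex pp d3
  simp only [Matrix.cons_val_zero, Matrix.cons_val_one, Matrix.cons_val]
  have e : ∀ (n : ℕ) (m : ℤ), (η ^ n) ^ m = η ^ ((n : ℤ) * m) := fun n m => by rw [_root_.zpow_mul, zpow_natCast]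
  rw [show η ^ 3 ^ ((0 : Fin 5) : ℕ) * η ^ 3 ^ ((1 : Fin 5) : ℕ) = η ^ 4 by rw [← pow_add]; rfl,
    show η ^ 4 * η ^ 3 ^ ((2 : Fin 5) : ℕ) = η ^ 13 by rw [← pow_add]; rfl,
    show η ^ 13 * η ^ 3 ^ ((3 : Fin 5) : ℕ) = η ^ 40 by rw [← pow_add]; rfl,
    show η ^ 3 ^ ((0 : Fin 5) : ℕ) = η ^ 1 from rfl, e, e, e, e, ← _root_.zpow_add, ← _root_.zpow_add, ← _root_.zpow_add]
  congr 1
  push_cast
  ring

theorem con11 : Con e8T cs8 lf 3 11 :=
  con_of_frm' (p := 3) e8T cs8 lf frm8 invC_E8 (N := 11) (Nat.coprime_one_left 11) (by norm_num) (by norm_num)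

theorem XX_le_range {i j : Fin 5} (hij : i ≠ j) : XX chevE8 8 KK (vec chevE8 8 (rt1 i j)) ≤ (ph1 KK).range := by
  intro g hg
  obtain ⟨a, rfl⟩ := (mem_XX (rt1_lt i j)).1 hg
  refine ⟨SpecialLinearGroup.transvection hij ((sg1 i j : KK) * a), ?_⟩
  rw [ph1_tv, ← X_eq_xc (rt1_lt i j)]
  congr 1
  have h1 : ((sg1 i j : ℤ) : KK) * (sg1 i j : KK) = 1 := by rw [← Int.cast_mul, td1, Int.cast_one]
  rw [← mul_assoc, h1, one_mul]

/-- **The centraliser of `t = φ₂(diag(η, η³, …))`, `η` of order 11.** -/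
theorem cent_t {η : KKˣ} (hη : orderOf η = 11) (h1 : ∏ i, d3 η i = 1) {c : ↥(chevE8.group KK)}
    (hc : c * ph2 KK (dg (d3 η) h1) = ph2 KK (dg (d3 η) h1) * c) :
    ∃ A : SpecialLinearGroup (Fin 5) KK, ∃ s ∈ TT chevE8 KK, c = ph1 KK A * s := by
  obtain ⟨htT, hX⟩ := ph2_dg (d3 η) h1
  have h11 : η ^ 11 = 1 := by rw [← hη]; exact pow_orderOf_eq_one η
  have ht : (ph2 KK (dg (d3 η) h1)) ^ 11 = 1 := by
    rw [← map_pow]
    rw [dg_pow, dg_eq_one fun i => ?_, map_one]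
    unfold d3
    rw [← pow_mul, mul_comm, pow_mul, h11, one_pow]
  obtain ⟨m, hm, s, hs, rfl⟩ := cent_form e8T cs8 lf 3 con11 htT ht hc
  have h2 : Cfsg.Agent.H795.SetCent.MMZ cs8 e8T.isCartan (XX chevE8 8 KK) (ch e8T) {ph2 KK (dg (d3 η) h1)} ≤
      (ph1 KK).range := by
    refine RGD.Sup_le fun a ha => ?_
    obtain ⟨r, hr, rfl⟩ := (isRoot_iff e8T cs8 a).1 ha.1
    have h3 := ha.2 _ rfl
    rw [← cX_vec e8T htT hr, hX ⟨r, hr⟩, wv_d3] at h3
    have h4 : η ^ ex r = 1 := Units.ext h3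
    have h5 : (11 : ℤ) ∣ ex r := by
      have := orderOf_dvd_iff_zpow_eq_one.2 h4
      rwa [hη] at this
    obtain ⟨i, j, hij, h6⟩ := tab11 ⟨r, hr⟩ h5
    have h7 : r = rt1 i j := h6
    rw [h7]
    exact XX_le_range hij
  obtain ⟨A, hA⟩ := h2 hm
  exact ⟨A, s, hs, by rw [hA]⟩

end Cfsg.Agent.H238.E8
end

-- part: H238/E8/Inj
section
prune_inst 0x200000000008000000010000000100000010000000800000000000000000000000000000000000000000000000020000000000000000000000000000000000000000000000000000000000000000000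
set_option linter.all false
open scoped Cfsg.Agent.FastGrp

-- part: H64/E83/Lang
section
/-!
# Lang's theorem for the diagonal torus of `SL_n` over the algebraic closure of `F₃` (helper64)

`lang_diag` : if `A^(3) = A d` with `d` diagonal, then `A = A' e` with `A'` over `F₃` and `e` diagonal.
-/

set_option autoImplicit false

namespace Cfsg.Agent.H64.E83

open Matrix

variable {k : Type*} [Field k] {n : ℕ}

theorem cube_eq (f : ZMod 3 →+* k) {b : k} (h : b ^ 3 = b) : ∃ c : ZMod 3, f c = b := by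
  have h1 : b * ((b - 1) * (b + 1)) = 0 := by linear_combination h
  rcases mul_eq_zero.1 h1 with h2 | h2
  · exact ⟨0, by rw [map_zero, h2]⟩
  · rcases mul_eq_zero.1 h2 with h3 | h3
    · exact ⟨1, by rw [map_one]; linear_combination -h3⟩
    · exact ⟨-1, by rw [map_neg, map_one]; linear_combination -h3⟩

/-- a diagonal element of `SL_n` -/
def IsDg (d : _root_.Matrix.SpecialLinearGroup (Fin n) k) : Prop := ∀ i j, i ≠ j → (d : Matrix (Fin n) (Fin n) k) i j = 0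

theorem IsDg.eq_diagonal {d : _root_.Matrix.SpecialLinearGroup (Fin n) k} (h : IsDg d) :
    (d : Matrix (Fin n) (Fin n) k) = diagonal fun i => (d : Matrix (Fin n) (Fin n) k) i i := by
  ext i j
  by_cases hij : i = j
  · subst hij; rw [diagonal_apply_eq]
  · rw [diagonal_apply_ne _ hij, h i j hij]

theorem exists_root [IsAlgClosed k] {d : _root_.Matrix.SpecialLinearGroup (Fin (n + 1)) k} (hd : IsDg d) :
    ∃ e : _root_.Matrix.SpecialLinearGroup (Fin (n + 1)) k, IsDg e ∧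
      ∀ i, (e : Matrix (Fin (n + 1)) (Fin (n + 1)) k) i i ^ 2 = (d : Matrix (Fin (n + 1)) (Fin (n + 1)) k) i i := by
  have h0 : ∀ i, ∃ s : k, s ^ 2 = (d : Matrix (Fin (n + 1)) (Fin (n + 1)) k) i i := fun i =>
    IsAlgClosed.exists_pow_nat_eq _ (by norm_num)
  choose s hs using h0
  have hdet : ∏ i, (d : Matrix (Fin (n + 1)) (Fin (n + 1)) k) i i = 1 := by
    have h1 := d.2
    rw [hd.eq_diagonal, det_diagonal] at h1
    exact h1
  set P := ∏ i, s i with hP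
  have hP2 : P * P = 1 := by
    rw [hP, ← Finset.prod_mul_distrib, ← hdet]
    exact Finset.prod_congr rfl fun i _ => by rw [← hs, pow_two]
  have hdetE : (diagonal fun i => if i = 0 then s i * P else s i).det = 1 := by
    rw [det_diagonal]
    have h2 : ∀ i : Fin (n + 1), (if i = 0 then s i * P else s i) = s i * (if i = 0 then P else 1) := by
      intro i; split_ifs <;> simp
    rw [Finset.prod_congr rfl fun i _ => h2 i, Finset.prod_mul_distrib, ← hP, Finset.prod_ite_eq' Finset.univ (0 : Fin (n + 1)),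
      if_pos (Finset.mem_univ _), hP2]
  refine ⟨⟨diagonal fun i => if i = 0 then s i * P else s i, hdetE⟩, ?_, ?_⟩
  · intro i j hij
    exact diagonal_apply_ne _ hij
  · intro i
    show (diagonal fun i => if i = 0 then s i * P else s i) i i ^ 2 = _
    rw [diagonal_apply_eq]
    split_ifs with h
    · rw [mul_pow, hs, pow_two P, hP2, mul_one]
    · exact hs i

theorem map_diag {R : Type*} [CommRing R] {K : Type*} [CommRing K] (f : R →+* K) (A : _root_.Matrix.SpecialLinearGroup (Fin n) R) (i j : Fin n) :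
    (SpecialLinearGroup.map f A : Matrix (Fin n) (Fin n) K) i j = f ((A : Matrix (Fin n) (Fin n) R) i j) := rfl

/-- **Lang's theorem for the diagonal torus**. -/
theorem lang_diag [IsAlgClosed k] [CharP k 3] (f : ZMod 3 →+* k) {A d : _root_.Matrix.SpecialLinearGroup (Fin (n + 1)) k} (hd : IsDg d)
    (hA : SpecialLinearGroup.map (frobenius k 3) A = A * d) :
    ∃ (A' : _root_.Matrix.SpecialLinearGroup (Fin (n + 1)) (ZMod 3)) (e : _root_.Matrix.SpecialLinearGroup (Fin (n + 1)) k), IsDg e ∧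
      A = SpecialLinearGroup.map f A' * e := by
  have : Fact (Nat.Prime 3) := ⟨by norm_num⟩
  obtain ⟨e, he, he2⟩ := exists_root hd
  have h1 : SpecialLinearGroup.map (frobenius k 3) e = e * d := by
    apply Subtype.ext
    show _ = (e : Matrix (Fin (n + 1)) (Fin (n + 1)) k) * (d : Matrix (Fin (n + 1)) (Fin (n + 1)) k)
    ext i j
    rw [map_diag, frobenius_def, he.eq_diagonal, hd.eq_diagonal, diagonal_mul_diagonal]
    by_cases hij : i = j
    · subst hij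
      rw [diagonal_apply_eq, diagonal_apply_eq, ← he2]; ring
    · rw [diagonal_apply_ne _ hij, diagonal_apply_ne _ hij]; ring
  set B := A * e⁻¹ with hB
  have h2 : SpecialLinearGroup.map (frobenius k 3) B = B := by
    rw [hB, map_mul, map_inv, hA, h1]; group
  have h3 : ∀ i j, ∃ c : ZMod 3, f c = (B : Matrix (Fin (n + 1)) (Fin (n + 1)) k) i j := by
    intro i j
    apply cube_eq f
    have h4 := congrArg (fun M : _root_.Matrix.SpecialLinearGroup (Fin (n + 1)) k => (M : Matrix (Fin (n + 1)) (Fin (n + 1)) k) i j) h2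
    simpa [map_diag, frobenius_def] using h4
  choose c hc using h3
  have h5 : (Matrix.of c).map f = (B : Matrix (Fin (n + 1)) (Fin (n + 1)) k) := by
    ext i j
    exact hc i j
  have h6 : (Matrix.of c).det = 1 := by
    apply f.injective
    rw [map_one, RingHom.map_det, RingHom.mapMatrix_apply, h5]
    exact B.2
  refine ⟨⟨Matrix.of c, h6⟩, e, he, ?_⟩
  have h7 : SpecialLinearGroup.map f ⟨Matrix.of c, h6⟩ = B := Subtype.ext h5
  rw [h7, hB]; group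

end Cfsg.Agent.H64.E83
end

-- part: H988/E8/TorAct
section
/-!
# Torus elements act on the matrix frame (helper988; S5925, box B, (T1), (T2))

* `tor_ph1`, `tor_ph2` : a torus element `s` acts on `ph_i (SL₅)` as the conjugation with a diagonal matrix, with
  `χ_r(s) = dl i / dl j` for the root `r = rt_i i j`.
* `dg_of_mem` : `ph1 A` in the torus only for a diagonal matrix `A`.
-/

set_option autoImplicit false
set_option linter.unusedSectionVars false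

namespace Cfsg.Agent.H988.E8

open Matrix Cfsg Cfsg.Lie Cfsg.Agent.ChevalleyStructure Cfsg.Agent.ChevalleyStructure.Elts
open Cfsg.Agent.TitsThree.KExcRT Cfsg.Agent.AGraded
open Cfsg.Agent.H992.E8X Cfsg.Agent.H238.E8 Cfsg.Agent.H64.E83
open CoxeterSystem Cfsg.Lie.ChevalleyDatum
open Cfsg.Agent.ChevalleyStructure.CoxeterGeom
  Cfsg.Agent.ChevalleyStructure.CoxeterGeomTypes Cfsg.Agent.ChevalleyStructure.NPerm
open Cfsg.Agent.Tits.Roots Cfsg.Agent.Tits.Core Cfsg.Agent.Nodes Cfsg.Agent.Nodes.Reps Cfsg.Agent.Nodes.BNOf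
  Cfsg.Agent.Nodes.RGDChev Cfsg.Agent.Nodes.Bruhat
open Cfsg.Agent.KFacts.RgdField Cfsg.Agent.KFacts.RgdChevCoord Cfsg.Agent.BpExc.TorCent Cfsg.Agent.BpExc.TorChev
open Cfsg.Agent.H129.TorusChar

/-- the vectors `E i` with `rt i j = E i - E j` -/
def EE (r : Fin 5 → Fin 5 → ℕ) (i : Fin 5) : Fin 8 → ℤ := if i = 4 then 0 else _root_.Cfsg.Agent.Nodes.RGDChev.vec chevE8 8 (r i 4)

theorem EE1 : ∀ i j, i ≠ j → _root_.Cfsg.Agent.Nodes.RGDChev.vec chevE8 8 (rt1 i j) = EE rt1 i - EE rt1 j := by decide +kernel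
theorem EE2 : ∀ i j, i ≠ j → _root_.Cfsg.Agent.Nodes.RGDChev.vec chevE8 8 (rt2 i j) = EE rt2 i - EE rt2 j := by decide +kernel

section
universe u
variable {k : Type u} [Field k]

/-- conjugation with a diagonal matrix -/
def dconj (dl : Fin 5 → kˣ) : _root_.Matrix.SpecialLinearGroup (Fin 5) k →* _root_.Matrix.SpecialLinearGroup (Fin 5) k where
  toFun A := ⟨diagonal (fun i => (dl i : k)) * (A : Matrix (Fin 5) (Fin 5) k) * diagonal (fun i => (((dl i)⁻¹ : kˣ) : k)), by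
    rw [det_mul, det_mul, A.2, mul_one, ← det_mul, diagonal_mul_diagonal]
    simp⟩
  map_one' := by
    apply Subtype.ext
    simp [diagonal_mul_diagonal]
  map_mul' A B := by
    apply Subtype.ext
    have h : diagonal (fun i => (((dl i)⁻¹ : kˣ) : k)) * diagonal (fun i => (dl i : k)) = 1 := by
      rw [diagonal_mul_diagonal]
      simp
    show diagonal (fun i => (dl i : k)) * ((A : Matrix (Fin 5) (Fin 5) k) * (B : Matrix (Fin 5) (Fin 5) k)) *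
      diagonal (fun i => (((dl i)⁻¹ : kˣ) : k)) = (diagonal (fun i => (dl i : k)) * (A : Matrix (Fin 5) (Fin 5) k) *
        diagonal (fun i => (((dl i)⁻¹ : kˣ) : k))) * (diagonal (fun i => (dl i : k)) * (B : Matrix (Fin 5) (Fin 5) k) *
        diagonal (fun i => (((dl i)⁻¹ : kˣ) : k)))
    calc _ = diagonal (fun i => (dl i : k)) * (A : Matrix (Fin 5) (Fin 5) k) * 1 * ((B : Matrix (Fin 5) (Fin 5) k) *
      diagonal (fun i => (((dl i)⁻¹ : kˣ) : k))) := by simp only [Matrix.mul_assoc, Matrix.mul_one]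
      _ = _ := by rw [← h]; simp only [Matrix.mul_assoc]

theorem dconj_apply (dl : Fin 5 → kˣ) (A : _root_.Matrix.SpecialLinearGroup (Fin 5) k) (i j : Fin 5) :
    (dconj dl A : Matrix (Fin 5) (Fin 5) k) i j = dl i * (A : Matrix (Fin 5) (Fin 5) k) i j * ((dl j)⁻¹ : kˣ) := by
  show (diagonal (fun i => (dl i : k)) * (A : Matrix (Fin 5) (Fin 5) k) *
        diagonal (fun i => (((dl i)⁻¹ : kˣ) : k))) i j = _
  rw [mul_diagonal, diagonal_mul]

theorem dconj_tv (dl : Fin 5 → kˣ) {i j : Fin 5} (hij : i ≠ j) (c : k) :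
    dconj dl (SpecialLinearGroup.transvection hij c) =
      SpecialLinearGroup.transvection hij ((dl i : k) * c * ((dl j)⁻¹ : kˣ)) := by
  apply Subtype.ext
  ext a b
  rw [dconj_apply]
  show (dl a : k) * (Matrix.transvection i j c) a b * _ = (Matrix.transvection i j _) a b
  simp only [Matrix.transvection, Matrix.add_apply, Matrix.one_apply, Matrix.single_apply]
  by_cases h1 : a = b
  · subst h1
    by_cases h2 : i = a ∧ j = a
    · exact absurd (h2.1.trans h2.2.symm) hij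
    · rw [if_pos rfl, if_neg h2, if_neg h2, add_zero, mul_one, Units.mul_inv]
  · rw [if_neg h1, zero_add, zero_add]
    by_cases h2 : i = a ∧ j = b
    · obtain ⟨rfl, rfl⟩ := h2
      rw [if_pos ⟨rfl, rfl⟩, if_pos ⟨rfl, rfl⟩]
    · rw [if_neg h2, if_neg h2, mul_zero, zero_mul]

/-- the action of the torus on a frame -/
theorem tor_aux {r : Fin 5 → Fin 5 → ℕ} {sg : Fin 5 → Fin 5 → ℤ}
    (hE : ∀ i j, i ≠ j → _root_.Cfsg.Agent.Nodes.RGDChev.vec chevE8 8 (r i j) = EE r i - EE r j) (hlt : ∀ i j, r i j < 240)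
    (φ : _root_.Matrix.SpecialLinearGroup (Fin 5) k →* ↥(chevE8.group k))
    (hφ : ∀ {i j : Fin 5} (hij : i ≠ j) (c : k), φ (SpecialLinearGroup.transvection hij c) =
      X (r i j) ((sg i j : k) * c)) {s : ↥(chevE8.group k)} (hs : s ∈ TT chevE8 k) :
    ∃ dl : Fin 5 → kˣ, (∀ i j, i ≠ j → cX Cfsg.Agent.H942.E8Tab.e8T s (_root_.Cfsg.Agent.Nodes.RGDChev.vec chevE8 8 (r i j)) = dl i / dl j) ∧
      ∀ A, s * φ A * s⁻¹ = φ (dconj dl A) := by
  have hmc := isMC_cX Cfsg.Agent.H942.E8Tab.e8T hs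
  have hX : ∀ i j (c : k), (X (r i j) c : ↥(chevE8.group k)) =
      xc Cfsg.Agent.H942.E8Tab.e8T (_root_.Cfsg.Agent.Nodes.RGDChev.vec chevE8 8 (r i j)) c := by
    intro i j c
    apply Subtype.ext
    rw [coe_xc Cfsg.Agent.H942.E8Tab.e8T (hlt i j)]
    rfl
  let dl : Fin 5 → kˣ := fun i => Units.mk0 (cX Cfsg.Agent.H942.E8Tab.e8T s (EE r i)) (hmc.ne_zero _)
  have hdl : ∀ i j, i ≠ j → cX Cfsg.Agent.H942.E8Tab.e8T s (_root_.Cfsg.Agent.Nodes.RGDChev.vec chevE8 8 (r i j)) = dl i / dl j := by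
    intro i j hij
    rw [hE i j hij, hmc.sub]
    rfl
  refine ⟨dl, hdl, fun A => ?_⟩
  refine tv_ind (fun A => s * φ A * s⁻¹ = φ (dconj dl A)) ?_ ?_ A
  · intro i j hij c
    rw [dconj_tv, hφ, hφ, hX, hX, (_root_.Cfsg.Agent.KFacts.RgdChevCoord.act Cfsg.Agent.H942.E8Tab.e8T (hlt i j) hs).2,
      ← cX_vec Cfsg.Agent.H942.E8Tab.e8T hs (hlt i j), hdl i j hij]
    congr 1
    rw [Units.val_inv_eq_inv_val]
    ring
  · intro A B hA hB
    rw [map_mul, map_mul, map_mul, ← hA, ← hB]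
    group

/-- **(T1)** for the second factor -/
theorem tor_ph2 {s : ↥(chevE8.group k)} (hs : s ∈ TT chevE8 k) :
    ∃ dl : Fin 5 → kˣ, (∀ i j, i ≠ j → cX Cfsg.Agent.H942.E8Tab.e8T s (_root_.Cfsg.Agent.Nodes.RGDChev.vec chevE8 8 (rt2 i j)) = dl i / dl j) ∧
      ∀ A B : _root_.Matrix.SpecialLinearGroup (Fin 5) k, (∀ i j, (B : Matrix (Fin 5) (Fin 5) k) i j =
        dl i * (A : Matrix (Fin 5) (Fin 5) k) i j * (dl j : k)⁻¹) → s * ph2 k A * s⁻¹ = ph2 k B := by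
  obtain ⟨dl, h1, h2⟩ := tor_aux EE2 rt2_lt (ph2 k) (sg := sg2) (fun hij c => ph2_tv k hij c) hs
  refine ⟨dl, h1, fun A B h => ?_⟩
  rw [h2]
  congr 1
  apply Subtype.ext
  ext i j
  rw [dconj_apply, h, Units.val_inv_eq_inv_val]

/-- **(T1)** for the first factor -/
theorem tor_ph1 {s : ↥(chevE8.group k)} (hs : s ∈ TT chevE8 k) :
    ∃ dl : Fin 5 → kˣ, (∀ i j, i ≠ j → cX Cfsg.Agent.H942.E8Tab.e8T s (_root_.Cfsg.Agent.Nodes.RGDChev.vec chevE8 8 (rt1 i j)) = dl i / dl j) ∧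
      ∀ A B : _root_.Matrix.SpecialLinearGroup (Fin 5) k, (∀ i j, (B : Matrix (Fin 5) (Fin 5) k) i j =
        dl i * (A : Matrix (Fin 5) (Fin 5) k) i j * (dl j : k)⁻¹) → s * ph1 k A * s⁻¹ = ph1 k B := by
  obtain ⟨dl, h1, h2⟩ := tor_aux EE1 rt1_lt (ph1 k) (sg := sg1) (fun hij c => ph1_tv k hij c) hs
  refine ⟨dl, h1, fun A B h => ?_⟩
  rw [h2]
  congr 1
  apply Subtype.ext
  ext i j
  rw [dconj_apply, h, Units.val_inv_eq_inv_val]

/-- a matrix which acts on the transvections as a diagonal matrix is diagonal -/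
theorem dg_of_dconj {A : _root_.Matrix.SpecialLinearGroup (Fin 5) k} {dl : Fin 5 → kˣ}
    (h : ∀ B, A * B * A⁻¹ = dconj dl B) : IsDg A := by
  intro a i hai
  obtain ⟨j, hj⟩ : ∃ j : Fin 5, i ≠ j := (by decide : ∀ i : Fin 5, ∃ j, i ≠ j) i
  have h1 : A * SpecialLinearGroup.transvection hj (1 : k) =
      dconj dl (SpecialLinearGroup.transvection hj (1 : k)) * A := by
    rw [← h]; group
  rw [dconj_tv] at h1
  have h2 : (A : Matrix (Fin 5) (Fin 5) k) * Matrix.transvection i j 1 =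
      Matrix.transvection i j ((dl i : k) * 1 * ((dl j)⁻¹ : kˣ)) * (A : Matrix (Fin 5) (Fin 5) k) :=
    congrArg (fun M : _root_.Matrix.SpecialLinearGroup (Fin 5) k => (M : Matrix (Fin 5) (Fin 5) k)) h1
  have h3 := congrFun (congrFun h2 a) j
  rw [Matrix.mul_transvection_apply_same, Matrix.transvection_mul_apply_of_ne _ _ _ _ hai, one_mul] at h3
  exact left_eq_add.1 h3.symm

/-- **(T2)** -/
theorem dg_of_mem (hinj : Function.Injective (ph1 k)) {A : _root_.Matrix.SpecialLinearGroup (Fin 5) k}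
    (h : ph1 k A ∈ TT chevE8 k) : IsDg A := by
  obtain ⟨dl, -, h2⟩ := tor_aux EE1 rt1_lt (ph1 k) (sg := sg1) (fun hij c => ph1_tv k hij c) h
  refine dg_of_dconj (dl := dl) fun B => hinj ?_
  rw [← h2, map_mul, map_mul, map_inv]

end

end Cfsg.Agent.H988.E8
end

-- part: H238/E8/Tor
section
/-!
# The torus fixed by the twisted Frobenius map (helper238)
-/

set_option autoImplicit false
set_option linter.unusedSectionVars false
set_option maxRecDepth 100000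

namespace Cfsg.Agent.H238.E8

open CoxeterSystem Matrix Cfsg Cfsg.Lie Cfsg.Lie.ChevalleyDatum
open Cfsg.Agent.ChevalleyStructure Cfsg.Agent.ChevalleyStructure.Elts Cfsg.Agent.ChevalleyStructure.CoxeterGeom
  Cfsg.Agent.ChevalleyStructure.CoxeterGeomTypes Cfsg.Agent.ChevalleyStructure.NPerm
  Cfsg.Agent.ChevalleyStructure.RootVec Cfsg.Agent.ChevalleyStructure.RootVecTab
open Cfsg.Agent.Tits.Roots Cfsg.Agent.Tits.Core Cfsg.Agent.Nodes Cfsg.Agent.Nodes.Reps Cfsg.Agent.Nodes.BNOf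
  Cfsg.Agent.Nodes.RGDChev
open Cfsg.Agent.KFacts.RgdField Cfsg.Agent.KFacts.RgdChevCoord Cfsg.Agent.BpExc.TorCent Cfsg.Agent.BpExc.TorChev
open Cfsg.Agent.H129.TorusChar
open Cfsg.Agent.BpExc.FamUntw Cfsg.Agent.BpExc.FamInst Cfsg.Agent.BpExc.FamField
open Cfsg.Agent.H942.E8Tab Cfsg.Agent.H942.E8Alc Cfsg.Agent.H942.CB
open Cfsg.Agent.H540.E8C (KK)
open Cfsg.Agent.ChevalleyStructure.HMatDiagAll (expo)
open Cfsg.Agent.H992.E8X (X hE8)

theorem ppow {G : Type} [CommGroup G] (a b c d : G) (e0 e1 e2 e3 : ℤ) :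
    a ^ e0 * (a * b) ^ e1 * (a * b * c) ^ e2 * (a * b * c * d) ^ e3 =
      a ^ (e0 + e1 + e2 + e3) * b ^ (e1 + e2 + e3) * c ^ (e2 + e3) * d ^ e3 := by
  simp only [mul_zpow, _root_.zpow_add]
  simp only [mul_left_comm, mul_assoc]

theorem cyc5 {G : Type} [CommGroup G] (a0 a1 a2 a3 a4 : G) :
    a1 / a0 * (a2 / a1) * (a3 / a2) * (a4 / a3) * (a0 / a4) = 1 := by
  rw [div_mul_div_cancel', div_mul_div_cancel', div_mul_div_cancel', div_mul_div_cancel', div_self']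

section W
variable {k : Type} [Field k]

/-- exponents of `d₀, …, d₄` -/
def me (rt : Fin 5 → Fin 5 → ℕ) (s : ℕ) : Fin 5 → ℤ :=
  ![expo chevE8 (rt 0 1) s + expo chevE8 (rt 1 2) s + expo chevE8 (rt 2 3) s + expo chevE8 (rt 3 4) s,
    expo chevE8 (rt 1 2) s + expo chevE8 (rt 2 3) s + expo chevE8 (rt 3 4) s,
    expo chevE8 (rt 2 3) s + expo chevE8 (rt 3 4) s, expo chevE8 (rt 3 4) s, 0]

theorem wv_eq (rt : Fin 5 → Fin 5 → ℕ) (d : Fin 5 → kˣ) (s : ℕ) : wv rt d s = ∏ a, d a ^ me rt s a := by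
  rw [Fin.prod_univ_five]
  show d 0 ^ expo chevE8 (rt 0 1) s * (d 0 * d 1) ^ expo chevE8 (rt 1 2) s *
    (d 0 * d 1 * d 2) ^ expo chevE8 (rt 2 3) s * (d 0 * d 1 * d 2 * d 3) ^ expo chevE8 (rt 3 4) s =
    d 0 ^ (expo chevE8 (rt 0 1) s + expo chevE8 (rt 1 2) s + expo chevE8 (rt 2 3) s + expo chevE8 (rt 3 4) s) *
    d 1 ^ (expo chevE8 (rt 1 2) s + expo chevE8 (rt 2 3) s + expo chevE8 (rt 3 4) s) *
    d 2 ^ (expo chevE8 (rt 2 3) s + expo chevE8 (rt 3 4) s) * d 3 ^ expo chevE8 (rt 3 4) s * d 4 ^ (0 : ℤ)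
  generalize expo chevE8 (rt 0 1) s = e0
  generalize expo chevE8 (rt 1 2) s = e1
  generalize expo chevE8 (rt 2 3) s = e2
  generalize expo chevE8 (rt 3 4) s = e3
  rw [zpow_zero, mul_one]
  exact ppow _ _ _ _ _ _ _ _

/-- the correction -/
def cc (i j : Fin 5) : ℤ := (if j = 4 then 1 else 0) - (if i = 4 then 1 else 0)

theorem me11 : ∀ i j : Fin 5, i ≠ j → ∀ a : Fin 5, me rt1 (rt1 i j) a =
    (if a = i then 1 else 0) - (if a = j then 1 else 0) + cc i j := by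
  delta me Cfsg.Agent.ChevalleyStructure.HMatDiagAll.expo
  rewrite [Cfsg.Agent.ChevFast.E8.chainEntry, Cfsg.Agent.ChevFast.E8.neg]
  decide +kernel
theorem me22 : ∀ i j : Fin 5, i ≠ j → ∀ a : Fin 5, me rt2 (rt2 i j) a =
    (if a = i then 1 else 0) - (if a = j then 1 else 0) + cc i j := by
  delta me Cfsg.Agent.ChevalleyStructure.HMatDiagAll.expo
  rewrite [Cfsg.Agent.ChevFast.E8.chainEntry, Cfsg.Agent.ChevFast.E8.neg]
  decide +kernel
theorem me12 : ∀ i j : Fin 5, i ≠ j → ∀ a : Fin 5, me rt1 (rt2 i j) a = 0 := by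
  delta me Cfsg.Agent.ChevalleyStructure.HMatDiagAll.expo
  rewrite [Cfsg.Agent.ChevFast.E8.chainEntry, Cfsg.Agent.ChevFast.E8.neg]
  decide +kernel
theorem prod_me {d : Fin 5 → kˣ} (h : ∏ i, d i = 1) {m : Fin 5 → ℤ} {i j : Fin 5}
    (hm : ∀ a : Fin 5, m a = (if a = i then 1 else 0) - (if a = j then 1 else 0) + cc i j) :
    ∏ a, d a ^ m a = d i / d j := by
  have h1 : ∀ a, d a ^ m a = (if a = i then d a else 1) * (if a = j then d a else 1)⁻¹ * d a ^ cc i j := by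
    intro a
    rw [hm, _root_.zpow_add, _root_.zpow_sub]
    congr 1
    congr 1
    · split_ifs <;> simp
    · split_ifs <;> simp
  simp only [h1]
  rw [Finset.prod_mul_distrib, Finset.prod_mul_distrib, Finset.prod_inv_distrib, Finset.prod_zpow, h, _root_.one_zpow, mul_one]
  simp [div_eq_mul_inv]

theorem wv11 {d : Fin 5 → kˣ} (h : ∏ i, d i = 1) {i j : Fin 5} (hij : i ≠ j) : wv rt1 d (rt1 i j) = d i / d j := by
  rw [wv_eq]; exact prod_me h (me11 i j hij)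

theorem wv22 {d : Fin 5 → kˣ} (h : ∏ i, d i = 1) {i j : Fin 5} (hij : i ≠ j) : wv rt2 d (rt2 i j) = d i / d j := by
  rw [wv_eq]; exact prod_me h (me22 i j hij)

theorem wv12 (d : Fin 5 → kˣ) {i j : Fin 5} (hij : i ≠ j) : wv rt1 d (rt2 i j) = 1 := by
  rw [wv_eq]
  exact Finset.prod_eq_one fun a _ => by rw [me12 i j hij, zpow_zero]

/-- a torus element that is trivial on both `A₄` and of square one is trivial -/
theorem tt_eq_one {s : ↥(chevE8.group k)} (hs : s ∈ TT chevE8 k)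
    (h1 : ∀ i j, i ≠ j → cX e8T s (_root_.Cfsg.Agent.Nodes.RGDChev.vec chevE8 8 (rt1 i j)) = 1)
    (h2 : ∀ i j, i ≠ j → cX e8T s (_root_.Cfsg.Agent.Nodes.RGDChev.vec chevE8 8 (rt2 i j)) = 1)
    (h3 : cX e8T s (_root_.Cfsg.Agent.Nodes.RGDChev.vec chevE8 8 126) ^ 2 = 1) : s = 1 := by
  have hM := isMC_cX e8T hs
  have hv : ∀ i : Fin 8, sr i = _root_.Cfsg.Agent.Nodes.RGDChev.vec chevE8 8 (![162, 141, 135, 130, 126, 123, 121, 120] i) := by
    intro i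
    rw [← vec_simple e8T i]
    fin_cases i <;> rfl
  have hθ : (5 : ℤ) • _root_.Cfsg.Agent.Nodes.RGDChev.vec chevE8 8 126 = -(_root_.Cfsg.Agent.Nodes.RGDChev.vec chevE8 8 (rt2 0 1) + (2 : ℤ) • _root_.Cfsg.Agent.Nodes.RGDChev.vec chevE8 8 (rt1 0 1) +
      (3 : ℤ) • _root_.Cfsg.Agent.Nodes.RGDChev.vec chevE8 8 (rt1 3 4) + (4 : ℤ) • _root_.Cfsg.Agent.Nodes.RGDChev.vec chevE8 8 (rt1 1 2) + (6 : ℤ) • _root_.Cfsg.Agent.Nodes.RGDChev.vec chevE8 8 (rt1 2 3) +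
      (4 : ℤ) • _root_.Cfsg.Agent.Nodes.RGDChev.vec chevE8 8 (rt2 3 4) + (3 : ℤ) • _root_.Cfsg.Agent.Nodes.RGDChev.vec chevE8 8 (rt2 2 3) + (2 : ℤ) • _root_.Cfsg.Agent.Nodes.RGDChev.vec chevE8 8 (rt2 1 2)) := by
    decide +kernel
  have hz : ∀ (m : ℤ) (x : Fin 8 → ℤ), cX e8T s (m • x) = cX e8T s x ^ m := fun m x => hM.zsmul m x
  have h5 : cX e8T s (_root_.Cfsg.Agent.Nodes.RGDChev.vec chevE8 8 126) ^ (5 : ℤ) = 1 := by
    rw [← hz, hθ, hM.neg, hM.add, hM.add, hM.add, hM.add, hM.add, hM.add, hM.add, hz, hz, hz, hz, hz, hz, hz,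
      h2 0 1 (by decide), h1 0 1 (by decide), h1 3 4 (by decide), h1 1 2 (by decide), h1 2 3 (by decide),
      h2 3 4 (by decide), h2 2 3 (by decide), h2 1 2 (by decide)]
    simp
  have h6 : cX e8T s (_root_.Cfsg.Agent.Nodes.RGDChev.vec chevE8 8 126) = 1 := by
    have h7 : cX e8T s (_root_.Cfsg.Agent.Nodes.RGDChev.vec chevE8 8 126) ^ 5 = 1 := by exact_mod_cast h5
    calc cX e8T s (_root_.Cfsg.Agent.Nodes.RGDChev.vec chevE8 8 126) = cX e8T s (_root_.Cfsg.Agent.Nodes.RGDChev.vec chevE8 8 126) ^ 5 * ((cX e8T s (_root_.Cfsg.Agent.Nodes.RGDChev.vec chevE8 8 126) ^ 2)⁻¹) ^ 2 := by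
          rw [h3, h7]
          have h8 : cX e8T s (_root_.Cfsg.Agent.Nodes.RGDChev.vec chevE8 8 126) ^ 5 = (cX e8T s (_root_.Cfsg.Agent.Nodes.RGDChev.vec chevE8 8 126) ^ 2) ^ 2 * cX e8T s (_root_.Cfsg.Agent.Nodes.RGDChev.vec chevE8 8 126) := by
            ring
          rw [h7, h3, one_pow, one_mul] at h8
          rw [← h8]; simp
      _ = 1 := by rw [h7, h3]; simp
  refine cX_inj e8T hs (one_mem _) fun i => ?_
  rw [cX_one, hv]
  fin_cases i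
  · exact h1 0 1 (by decide)
  · exact h1 3 4 (by decide)
  · exact h1 1 2 (by decide)
  · exact h1 2 3 (by decide)
  · exact h6
  · exact h2 3 4 (by decide)
  · exact h2 2 3 (by decide)
  · exact h2 1 2 (by decide)

end W

section Fix


/-- Frobenius -/
noncomputable abbrev sg : MulAut ↥(chevE8.group KK) := phi chevE8 KK 3 1

theorem sg_TT {s : ↥(chevE8.group KK)} (hs : s ∈ TT chevE8 KK) : sg s ∈ TT chevE8 KK :=
  ((phi_fr e8T cs8 3 lf 1).tor s).2 hs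

theorem cX_sg {s : ↥(chevE8.group KK)} (hs : s ∈ TT chevE8 KK) (x : Fin 8 → ℤ) :
    cX e8T (sg s) x = cX e8T s x ^ 3 := by
  have h1 := cX_sigma e8T cs8 (phi_isFrob 3 1) (phi_fr e8T cs8 3 lf 1) hs x
  rwa [pow_one] at h1

theorem d3_succ {η : KKˣ} (h : η ^ 121 = 1) (i : Fin 5) : d3 η (i + 1) = d3 η i ^ 3 := by
  have key : ∀ a b : ℕ, (b = 3 * a ∨ b + 242 = 3 * a) → η ^ b = (η ^ a) ^ 3 := by
    intro a b hab
    rw [← pow_mul]
    rcases hab with h1 | h1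
    · rw [h1, mul_comm]
    · rw [mul_comm a 3, ← h1, pow_add, show (242 : ℕ) = 121 * 2 by norm_num, pow_mul η 121 2, h, one_pow, mul_one]
  have hp : ∀ i : Fin 5, (3 ^ ((i + 1 : Fin 5) : ℕ) = 3 * 3 ^ (i : ℕ) ∨ 3 ^ ((i + 1 : Fin 5) : ℕ) + 242 = 3 * 3 ^ (i : ℕ)) := by
    decide
  exact key _ _ (hp i)

theorem d3_eq {u : Fin 5 → KKˣ} (h : ∀ j, u (j + 1) = u j ^ 3) : u = d3 (u 0) := by
  have f1 : u 1 = u 0 ^ 3 := h 0
  have f2 : u 2 = u 0 ^ 9 := by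
    have : u 2 = u 1 ^ 3 := h 1
    rw [this, f1, ← pow_mul]
  have f3 : u 3 = u 0 ^ 27 := by
    have : u 3 = u 2 ^ 3 := h 2
    rw [this, f2, ← pow_mul]
  have f4 : u 4 = u 0 ^ 81 := by
    have : u 4 = u 3 ^ 3 := h 3
    rw [this, f3, ← pow_mul]
  funext i
  fin_cases i
  · exact (pow_one _).symm
  · exact f1
  · exact f2
  · exact f3
  · exact f4

/-- **The torus elements fixed by the twisted Frobenius map.** -/
theorem fix_tor {ζ : KKˣ} (hζ : orderOf ζ = 121) (hp : ∏ i, d3 ζ i = 1)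
    {M : _root_.Matrix.SpecialLinearGroup (Fin 5) KK} (hM : ∀ i j, i ≠ j + 1 → M i j = 0)
    {s : ↥(chevE8.group KK)} (hs : s ∈ TT chevE8 KK) (hfix : ph2 KK M * sg s * (ph2 KK M)⁻¹ = s) :
    ∃ (e : Fin 5 → KKˣ) (he : ∏ i, e i = 1) (n : ℕ), (∀ i, e i = 1 ∨ e i = -1) ∧
      s = ph1 KK (dg e he) * ph2 KK (dg (d3 ζ) hp ^ n) := by
  obtain ⟨dl, h1, h2⟩ := Cfsg.Agent.H988.E8.tor_ph2 hs
  -- the multiplier
  obtain ⟨u, hud⟩ : ∃ u : Fin 5 → KKˣ, ∀ j, u j = dl (j + 1) / dl j := ⟨fun j => dl (j + 1) / dl j, fun _ => rfl⟩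
  have hu : ∏ i, u i = 1 := by
    rw [Fin.prod_univ_five, hud, hud, hud, hud, hud]
    exact cyc5 _ _ _ _ _
  have h3 : s * ph2 KK M * s⁻¹ = ph2 KK (M * dg u hu) := by
    refine h2 M _ fun i j => ?_
    show (M.1 * (Matrix.diagonal fun i => ((u i : KKˣ) : KK))) i j = _
    rw [Matrix.mul_diagonal]
    by_cases hij : i = j + 1
    · subst hij
      rw [hud, Units.val_div_eq_div_val, div_eq_mul_inv]
      show M (j + 1) j * _ = _
      ring
    · show M i j * _ = _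
      rw [hM i j hij, zero_mul, mul_zero, zero_mul]
  have h4 : sg s = ph2 KK (dg u hu) * s := by
    rw [map_mul] at h3
    have e1 : ph2 KK M * sg s = s * ph2 KK M := by
      have : ph2 KK M * sg s = ph2 KK M * sg s * (ph2 KK M)⁻¹ * ph2 KK M := by group
      rw [this, hfix]
    have e2 : s * ph2 KK M = ph2 KK M * (ph2 KK (dg u hu) * s) := by
      have : s * ph2 KK M = s * ph2 KK M * s⁻¹ * s := by group
      rw [this, h3]; group
    rw [e2] at e1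
    exact mul_left_cancel e1
  obtain ⟨hdT, hdX⟩ := ph2_dg u hu
  have h5 : ∀ r : Fin 240, cX e8T s (_root_.Cfsg.Agent.Nodes.RGDChev.vec chevE8 8 r) ^ 2 = (wv rt2 u r : KK) := by
    intro r
    have e1 := cX_sg hs (_root_.Cfsg.Agent.Nodes.RGDChev.vec chevE8 8 r)
    rw [h4, cX_mul e8T hdT hs, hdX] at e1
    have hne : cX e8T s (_root_.Cfsg.Agent.Nodes.RGDChev.vec chevE8 8 r) ≠ 0 := (isMC_cX e8T hs).ne_zero _
    have e2 : cX e8T s (_root_.Cfsg.Agent.Nodes.RGDChev.vec chevE8 8 r) * cX e8T s (_root_.Cfsg.Agent.Nodes.RGDChev.vec chevE8 8 r) ^ 2 =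
        cX e8T s (_root_.Cfsg.Agent.Nodes.RGDChev.vec chevE8 8 r) * (wv rt2 u r : KK) := by
      rw [← pow_succ', ← e1, mul_comm]
    exact mul_left_cancel₀ hne e2
  -- `u (j+1) = u j ^ 3`
  have h6 : ∀ i j : Fin 5, i ≠ j → (dl i / dl j) ^ 2 = u i / u j := by
    intro i j hij
    apply Units.ext
    rw [Units.val_pow_eq_pow_val, Units.val_div_eq_div_val, ← h1 i j hij]
    have := h5 ⟨rt2 i j, rt2_lt i j⟩
    rw [wv22 hu hij] at this
    exact this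
  have h7 : ∀ j : Fin 5, u (j + 1) = u j ^ 3 := by
    intro j
    have hne : j + 1 ≠ j := by revert j; decide
    have e1 := h6 (j + 1) j hne
    have e2 : u (j + 1) = (u j) ^ 2 * u j := by
      conv_rhs => rw [hud j]
      rw [← hud j]
      rw [hud j, e1, ← hud j]; simp
    rw [e2, ← pow_succ]
  have h8 : u = d3 (u 0) := d3_eq h7
  have h9 : u 0 ^ 121 = 1 := by
    have e1 : ∏ i, d3 (u 0) i = 1 := by rw [← h8]; exact hu
    rw [Fin.prod_univ_five] at e1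
    unfold d3 at e1
    rw [← pow_add, ← pow_add, ← pow_add, ← pow_add] at e1
    exact e1
  -- `u 0 = ζ ^ m`
  have hprim : IsPrimitiveRoot (ζ : KK) 121 := by
    rw [IsPrimitiveRoot.coe_units_iff, ← hζ]
    exact IsPrimitiveRoot.orderOf ζ
  obtain ⟨m, -, hm⟩ := hprim.eq_pow_of_pow_eq_one (ξ := ((u 0 : KKˣ) : KK)) (by
    rw [← Units.val_pow_eq_pow_val, h9, Units.val_one])
  have hm' : u 0 = ζ ^ m := by
    apply Units.ext
    rw [Units.val_pow_eq_pow_val]; exact hm.symm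
  have hζ1 : ζ ^ 121 = 1 := by rw [← hζ]; exact pow_orderOf_eq_one ζ
  -- the correction
  obtain ⟨n, hn⟩ : ∃ n : ℕ, n = m * 61 := ⟨_, rfl⟩
  have hzn : (ζ ^ n) ^ 2 = u 0 := by
    rw [← pow_mul, hm', hn]
    have : m * 61 * 2 = 121 * m + m := by ring
    rw [this, pow_add, pow_mul, hζ1, one_pow, one_mul]
  have hd3n : ∀ i, d3 ζ i ^ n = d3 (ζ ^ n) i := by
    intro i
    unfold d3
    rw [← pow_mul, ← pow_mul, mul_comm]
  have hpn : ∏ i, d3 (ζ ^ n) i = 1 := by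
    simp only [← hd3n]
    rw [Finset.prod_pow, hp, one_pow]
  have hdgn : dg (d3 ζ) hp ^ n = dg (d3 (ζ ^ n)) hpn := by
    rw [dg_pow]
    congr 1
    funext i
    exact hd3n i
  obtain ⟨a, ha⟩ : ∃ a, a = ph2 KK (dg (d3 ζ) hp ^ n) := ⟨_, rfl⟩
  have ha' : a = ph2 KK (dg (d3 (ζ ^ n)) hpn) := by rw [ha, hdgn]
  obtain ⟨haT, haX⟩ := ph2_dg (d3 (ζ ^ n)) hpn
  rw [← ha'] at haT haX
  have hsq : ∀ r : Fin 240, cX e8T a (_root_.Cfsg.Agent.Nodes.RGDChev.vec chevE8 8 r) ^ 2 = cX e8T s (_root_.Cfsg.Agent.Nodes.RGDChev.vec chevE8 8 r) ^ 2 := by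
    intro r
    have e1 : ((ζ ^ n) ^ ex r) ^ 2 = u 0 ^ ex r := by
      rw [← zpow_natCast, ← _root_.zpow_mul, mul_comm, _root_.zpow_mul, zpow_natCast, hzn]
    have e2 : wv rt2 u r = u 0 ^ ex r := by
      conv_lhs => rw [h8]
      exact wv_d3 _ _
    rw [haX, h5, wv_d3, e2, ← e1, Units.val_pow_eq_pow_val]
  -- `b = a⁻¹ s`
  obtain ⟨b, hb⟩ : ∃ b, b = a⁻¹ * s := ⟨_, rfl⟩
  have haT' : a⁻¹ ∈ TT chevE8 KK := inv_mem haT
  have hbT : b ∈ TT chevE8 KK := by rw [hb]; exact mul_mem haT' hs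
  have hsab : s = a * b := by rw [hb]; group
  have hmulX : ∀ x, cX e8T s x = cX e8T a x * cX e8T b x := fun x => by
    conv_lhs => rw [hsab]
    exact cX_mul e8T haT hbT x
  have hbsq : ∀ r : Fin 240, cX e8T b (_root_.Cfsg.Agent.Nodes.RGDChev.vec chevE8 8 r) ^ 2 = 1 := by
    intro r
    have e1 := hsq r
    rw [hmulX, mul_pow] at e1
    have hne : cX e8T a (_root_.Cfsg.Agent.Nodes.RGDChev.vec chevE8 8 r) ^ 2 ≠ 0 := pow_ne_zero 2 ((isMC_cX e8T haT).ne_zero _)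
    have e2 : cX e8T a (_root_.Cfsg.Agent.Nodes.RGDChev.vec chevE8 8 r) ^ 2 * 1 = cX e8T a (_root_.Cfsg.Agent.Nodes.RGDChev.vec chevE8 8 r) ^ 2 * cX e8T b (_root_.Cfsg.Agent.Nodes.RGDChev.vec chevE8 8 r) ^ 2 := by
      rw [mul_one]; exact e1
    exact (mul_left_cancel₀ hne e2).symm
  have hb2 : ∀ i j, i ≠ j → cX e8T b (_root_.Cfsg.Agent.Nodes.RGDChev.vec chevE8 8 (rt2 i j)) = 1 := by
    -- the ratios agree
    have key : ∀ i : Fin 5, cX e8T b (_root_.Cfsg.Agent.Nodes.RGDChev.vec chevE8 8 (rt2 (i + 1) i)) = 1 := by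
      intro i
      have hne : i + 1 ≠ i := by revert i; decide
      have e1 := hmulX (_root_.Cfsg.Agent.Nodes.RGDChev.vec chevE8 8 (rt2 (i + 1) i))
      have e2 := haX ⟨rt2 (i + 1) i, rt2_lt _ _⟩
      rw [wv22 hpn hne] at e2
      rw [h1 _ _ hne] at e1
      have e3 : ((dl (i + 1) : KKˣ) : KK) / dl i = ((d3 (ζ ^ n) (i + 1) / d3 (ζ ^ n) i : KKˣ) : KK) := by
        rw [← Units.val_div_eq_div_val]
        congr 1
        rw [← hud, h8]
        have hstep : d3 (ζ ^ n) (i + 1) = d3 (ζ ^ n) i ^ 3 :=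
          d3_succ (by rw [← pow_mul, mul_comm, pow_mul, hζ1, one_pow]) i
        rw [hstep, pow_succ, mul_div_assoc, div_self', mul_one]
        unfold d3
        rw [← pow_mul, mul_comm, pow_mul, hzn]
      rw [e3] at e1
      have e4 : cX e8T a (_root_.Cfsg.Agent.Nodes.RGDChev.vec chevE8 8 (rt2 (i + 1) i)) = ((d3 (ζ ^ n) (i + 1) / d3 (ζ ^ n) i : KKˣ) : KK) := e2
      rw [e4] at e1
      have hne2 : ((d3 (ζ ^ n) (i + 1) / d3 (ζ ^ n) i : KKˣ) : KK) ≠ 0 := Units.ne_zero _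
      have e5 : ((d3 (ζ ^ n) (i + 1) / d3 (ζ ^ n) i : KKˣ) : KK) * 1 =
          ((d3 (ζ ^ n) (i + 1) / d3 (ζ ^ n) i : KKˣ) : KK) * cX e8T b (_root_.Cfsg.Agent.Nodes.RGDChev.vec chevE8 8 (rt2 (i + 1) i)) := by
        rw [mul_one]; exact e1
      exact (mul_left_cancel₀ hne2 e5).symm
    obtain ⟨dl', h1', -⟩ := Cfsg.Agent.H988.E8.tor_ph2 hbT
    have hst : ∀ i : Fin 5, dl' (i + 1) = dl' i := by
      intro i
      have hne : i + 1 ≠ i := by revert i; decide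
      have e1 := key i
      rw [h1' _ _ hne, ← Units.val_div_eq_div_val] at e1
      have e2 : dl' (i + 1) / dl' i = 1 := Units.ext e1
      exact div_eq_one.1 e2
    have hall : ∀ i : Fin 5, dl' i = dl' 0 := by
      have g1 : dl' 1 = dl' 0 := hst 0
      have g2 : dl' 2 = dl' 1 := hst 1
      have g3 : dl' 3 = dl' 2 := hst 2
      have g4 : dl' 4 = dl' 3 := hst 3
      intro i
      fin_cases i
      · rfl
      · exact g1
      · exact g2.trans g1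
      · exact g3.trans (g2.trans g1)
      · exact g4.trans (g3.trans (g2.trans g1))
    intro i j hij
    rw [h1' i j hij, hall i, hall j, div_self (Units.ne_zero _)]
  -- the signs on the first factor
  obtain ⟨f, g1, -⟩ := Cfsg.Agent.H988.E8.tor_ph1 hbT
  have hf2 : ∀ i j, (f i / f j) ^ 2 = 1 := by
    intro i j
    by_cases hij : i = j
    · rw [hij, div_self', one_pow]
    · have e1 := hbsq ⟨rt1 i j, rt1_lt i j⟩
      have e2 : cX e8T b (_root_.Cfsg.Agent.Nodes.RGDChev.vec chevE8 8 (rt1 i j)) ^ 2 = 1 := e1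
      rw [g1 i j hij, ← Units.val_div_eq_div_val, ← Units.val_pow_eq_pow_val] at e2
      exact Units.ext e2
  obtain ⟨π, hπ⟩ : ∃ π : KKˣ, π = ∏ i, f i / f 4 := ⟨_, rfl⟩
  have hπ2 : π ^ 2 = 1 := by
    rw [hπ, ← Finset.prod_pow]
    exact Finset.prod_eq_one fun i _ => hf2 i 4
  obtain ⟨e, he⟩ : ∃ e : Fin 5 → KKˣ, ∀ i, e i = π * (f i / f 4) := ⟨fun i => π * (f i / f 4), fun _ => rfl⟩
  have he2 : ∀ i, e i ^ 2 = 1 := fun i => by rw [he, mul_pow, hπ2, hf2, one_mul]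
  have hprod : ∏ i, e i = 1 := by
    simp only [he]
    rw [Finset.prod_mul_distrib, ← hπ, Finset.prod_const, Finset.card_univ, Fintype.card_fin, ← pow_succ,
      show 5 + 1 = 2 * 3 from rfl, pow_mul, hπ2, one_pow]
  have hediv : ∀ i j, e i / e j = f i / f j := by
    intro i j
    rw [he, he, mul_div_mul_left_eq_div, div_div_div_cancel_right]
  have hpm : ∀ i, e i = 1 ∨ e i = -1 := by
    intro i
    have e1 : ((e i : KKˣ) : KK) * e i = 1 := by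
      rw [← Units.val_mul, ← sq, he2, Units.val_one]
    rcases mul_self_eq_one_iff.1 e1 with e2 | e2
    · exact Or.inl (Units.ext (by rw [e2, Units.val_one]))
    · exact Or.inr (Units.ext (by rw [e2, Units.val_neg, Units.val_one]))
  refine ⟨e, hprod, n, hpm, ?_⟩
  obtain ⟨hcT, hcX⟩ := ph1_dg e hprod
  obtain ⟨c, hc⟩ : ∃ c, c = ph1 KK (dg e hprod) := ⟨_, rfl⟩
  rw [← hc] at hcT hcX
  have hcT' : c⁻¹ ∈ TT chevE8 KK := inv_mem hcT
  have hdT2 : c⁻¹ * b ∈ TT chevE8 KK := mul_mem hcT' hbT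
  have hbX : ∀ x, cX e8T b x = cX e8T c x * cX e8T (c⁻¹ * b) x := fun x => by
    have : b = c * (c⁻¹ * b) := by group
    conv_lhs => rw [this]
    exact cX_mul e8T hcT hdT2 x
  have hfin : c⁻¹ * b = 1 := by
    refine tt_eq_one hdT2 (fun i j hij => ?_) (fun i j hij => ?_) ?_
    · have e1 := hbX (_root_.Cfsg.Agent.Nodes.RGDChev.vec chevE8 8 (rt1 i j))
      have e2 : cX e8T c (_root_.Cfsg.Agent.Nodes.RGDChev.vec chevE8 8 (rt1 i j)) = _ := hcX ⟨rt1 i j, rt1_lt i j⟩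
      rw [wv11 hprod hij, hediv] at e2
      rw [g1 i j hij, e2, ← Units.val_div_eq_div_val] at e1
      have hne : ((f i / f j : KKˣ) : KK) ≠ 0 := Units.ne_zero _
      exact (mul_left_cancel₀ hne ((mul_one _).trans e1)).symm
    · have e1 := hbX (_root_.Cfsg.Agent.Nodes.RGDChev.vec chevE8 8 (rt2 i j))
      have e2 : cX e8T c (_root_.Cfsg.Agent.Nodes.RGDChev.vec chevE8 8 (rt2 i j)) = _ := hcX ⟨rt2 i j, rt2_lt i j⟩
      rw [wv12 e hij, Units.val_one] at e2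
      rw [hb2 i j hij, e2, one_mul] at e1
      exact e1.symm
    · have e1 := hbX (_root_.Cfsg.Agent.Nodes.RGDChev.vec chevE8 8 126)
      have e2 : cX e8T c (_root_.Cfsg.Agent.Nodes.RGDChev.vec chevE8 8 126) = _ := hcX 126
      have e3 : cX e8T c (_root_.Cfsg.Agent.Nodes.RGDChev.vec chevE8 8 126) ^ 2 = 1 := by
        rw [e2, ← Units.val_pow_eq_pow_val, wv_eq, ← Finset.prod_pow]
        rw [Finset.prod_eq_one fun a _ => ?_, Units.val_one]
        rw [← zpow_natCast, ← _root_.zpow_mul, mul_comm, _root_.zpow_mul, zpow_natCast, he2, _root_.one_zpow]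
      have e4 : cX e8T b (_root_.Cfsg.Agent.Nodes.RGDChev.vec chevE8 8 126) ^ 2 = 1 := hbsq 126
      rw [e1, mul_pow, e3, one_mul] at e4
      exact e4
  have hbc : b = c := by
    have : c * (c⁻¹ * b) = c := by rw [hfin, mul_one]
    rw [← this]; group
  rw [hsab, hbc, hc, ha]
  exact ((ph_comm KK (dg e hprod) (dg (d3 ζ) hp ^ n)).eq).symm

end Fix

end Cfsg.Agent.H238.E8
end

-- part: H518/E83/Singer
section
/-!
# The Singer element of `SL₅(3)` (S5925, box B (a'))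

* `Mo` : the element of order 11 of the frame (`tools/plans/S5925_code/frame.txt`);
* `Si` : the Singer element, `Si ^ 11 = Mo`, `Si ^ 121 = 1`, `orderOf Si = 121`;
* `singer` : over every field `k` of characteristic 3 in which `X ^ 5 + X ^ 3 + X - 1` has a root there are a primitive
  121st root of unity `ζ` and `Z : SL₅(k)` with `Z⁻¹ Si Z = diag (ζ ^ 3 ^ i)`, and `Z⁻¹ Z^(3)` maps the line `i` to the
  line `i + 1` (`IsMono`).
-/

set_option autoImplicit false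
set_option linter.unusedSectionVars false

namespace Cfsg.Agent.H518.E83

open Matrix

/-- the element of order 11 (matrix) -/
def mMo : Matrix (Fin 5) (Fin 5) (ZMod 3) :=
  !![1, 0, 1, 1, 2; 1, 1, 2, 0, 2; 2, 1, 1, 2, 0; 2, 2, 1, 1, 2; 0, 2, 2, 1, 1]

/-- the Singer matrix -/
def mSi : Matrix (Fin 5) (Fin 5) (ZMod 3) :=
  !![0, 0, 0, 2, 0; 0, 0, 0, 1, 2; 1, 0, 0, 0, 1; 0, 1, 0, 0, 0; 0, 0, 1, 0, 0]

/-- the Krylov basis -/
def mB : Matrix (Fin 5) (Fin 5) (ZMod 3) :=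
  !![0, 0, 0, 1, 0; 0, 2, 0, 1, 0; 0, 1, 0, 1, 1; 0, 0, 2, 0, 1; 1, 0, 1, 0, 1]

/-- its inverse -/
def mC : Matrix (Fin 5) (Fin 5) (ZMod 3) :=
  !![1, 1, 1, 1, 1; 1, 2, 0, 0, 0; 1, 1, 1, 2, 0; 1, 0, 0, 0, 0; 1, 1, 1, 0, 0]

/-- the companion matrix of `X ^ 5 + X ^ 3 + X - 1` -/
def mK : Matrix (Fin 5) (Fin 5) (ZMod 3) :=
  !![0, 0, 0, 0, 1; 1, 0, 0, 0, 2; 0, 1, 0, 0, 0; 0, 0, 1, 0, 2; 0, 0, 0, 1, 0]

/-- the inverse of `mMo - 1` -/
def mJ : Matrix (Fin 5) (Fin 5) (ZMod 3) :=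
  !![1, 1, 2, 1, 1; 2, 0, 2, 1, 0; 2, 2, 0, 2, 1; 1, 2, 2, 0, 2; 2, 1, 2, 2, 0]

theorem mC_mSi : mC * mSi = mK * mC := by decide +kernel
theorem mC_mB : mC * mB = 1 := by decide +kernel
theorem mSi_det : mSi.det = 1 := by
  rw [mSi]
  simp only [Matrix.det_succ_row_zero, Fin.sum_univ_succ, _root_.Nat.succ_eq_add_one, _root_.Nat.reduceAdd, _root_.Fin.isValue, _root_.Matrix.of_apply, _root_.Matrix.cons_val', _root_.Matrix.cons_val_fin_one, _root_.Matrix.cons_val_zero, _root_.Matrix.submatrix_apply, _root_.Fin.succ_zero_eq_one, _root_.Matrix.cons_val_one, _root_.Matrix.submatrix_submatrix, _root_.Function.comp_apply, _root_.Fin.succ_one_eq_two, _root_.Matrix.cons_val, _root_.Fin.reduceSucc, _root_.Matrix.det_unique, _root_.Fin.default_eq_zero, _root_.Fin.coe_ofNat_eq_mod, _root_.Nat.zero_mod, _root_.pow_zero, _root_.one_mul, _root_.Fin.zero_succAbove, _root_.Finset.univ_unique, _root_.Fin.val_succ,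 _root_.Fin.val_eq_zero, _root_.zero_add, _root_.pow_one, _root_.neg_mul, _root_.ne_eq, _root_.Fin.succ_ne_zero, _root_.not_false_eq_true, _root_.Fin.succAbove_ne_zero_zero, _root_.Finset.sum_neg_distrib, _root_.Finset.sum_singleton, _root_.Fin.succ_succAbove_one, _root_.even_two, _root_.Even.neg_pow, _root_.one_pow, _root_.ZMod.pow_card, _root_.MulZeroClass.mul_zero, _root_.neg_zero, _root_.add_zero, _root_.mul_one, _root_.Matrix.cons_val_succ, _root_.MulZeroClass.zero_mul, _root_.mul_neg, _root_.neg_neg, _root_.Finset.sum_const_zero]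
  decide +kernel

theorem mMo_det : mMo.det = 1 := by
  rw [mMo]
  simp only [Matrix.det_succ_row_zero, Fin.sum_univ_succ, _root_.Nat.succ_eq_add_one, _root_.Nat.reduceAdd, _root_.Fin.isValue, _root_.Matrix.of_apply, _root_.Matrix.cons_val', _root_.Matrix.cons_val_fin_one, _root_.Matrix.cons_val_zero, _root_.Matrix.submatrix_apply, _root_.Fin.succ_zero_eq_one, _root_.Matrix.cons_val_one, _root_.Matrix.submatrix_submatrix, _root_.Function.comp_apply, _root_.Fin.succ_one_eq_two, _root_.Matrix.cons_val, _root_.Fin.reduceSucc, _root_.Matrix.det_unique, _root_.Fin.default_eq_zero, _root_.Fin.coe_ofNat_eq_mod, _root_.Nat.zero_mod, _root_.pow_zero, _root_.one_mul, _root_.Fin.zero_succAbove, _root_.Finset.univ_unique, _root_.Fin.val_succ, _root_.Fin.val_eq_zero, _root_.zero_add, _root_.pow_one, _root_.neg_mul, _root_.ne_eq, _root_.Fin.succ_ne_zero, _root_.not_false_eq_true, _root_.Fin.succAbove_ne_zero_zero,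 _root_.Finset.sum_neg_distrib, _root_.Finset.sum_singleton, _root_.Fin.succ_succAbove_one, _root_.even_two, _root_.Even.neg_pow, _root_.one_pow, _root_.ZMod.pow_card, _root_.mul_one, _root_.MulZeroClass.zero_mul, _root_.add_zero, _root_.Matrix.cons_val_succ, _root_.add_neg_cancel, _root_.MulZeroClass.mul_zero, _root_.neg_add_rev, _root_.neg_neg, _root_.neg_zero]
  decide +kernel

theorem mSi_pow : mSi ^ 11 = mMo := by decide +kernel
theorem mMo_pow : mMo ^ 11 = 1 := by decide +kernel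

/-- the element of order 11 of the frame -/
def Mo : _root_.Matrix.SpecialLinearGroup (Fin 5) (ZMod 3) := ⟨mMo, mMo_det⟩

/-- the Singer element -/
def Si : _root_.Matrix.SpecialLinearGroup (Fin 5) (ZMod 3) := ⟨mSi, mSi_det⟩

theorem Si_pow : Si ^ 11 = Mo := Subtype.ext ((Matrix.SpecialLinearGroup.coe_pow Si 11).trans mSi_pow)
theorem Mo_pow : Mo ^ 11 = 1 := Subtype.ext ((Matrix.SpecialLinearGroup.coe_pow Mo 11).trans mMo_pow)
theorem Si_pow' : Si ^ 121 = 1 := by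
  rw [show 121 = 11 * 11 from rfl, pow_mul, Si_pow, Mo_pow]
theorem mK_pow : mK ^ 121 = 1 := by
  have h : mK ^ 11 = mC * mMo * mB := by decide +kernel
  have h1 : mK ^ 121 = (mK ^ 11) ^ 11 := by rw [← pow_mul]
  rw [h1, h]
  decide +kernel

theorem mK_inv : (mK ^ 11 - 1) * (mC * mJ * mB) = 1 := by decide +kernel

section

variable {k : Type*} [Field k] [CharP k 3] (f : ZMod 3 →+* k)

/-- the equation of `ζ` -/
def Root (x : k) : Prop := x ^ 5 = 1 + 2 * x + 2 * x ^ 3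

theorem Root.cube {x : k} (h : Root x) : Root (x ^ 3) := by
  have h1 := congrArg (frobenius k 3) h
  simp only [map_add, map_mul, map_pow, map_one, map_ofNat, frobenius_def] at h1
  exact h1

theorem Root.pow3 {x : k} (h : Root x) (i : ℕ) : Root (x ^ 3 ^ i) := by
  induction i with
  | zero => simpa using h
  | succ i ih =>
    rw [pow_succ, pow_mul]
    exact ih.cube

omit [CharP k 3] in
/-- the row vector `(1, x, .., x⁴)` is a left eigenvector of the companion matrix -/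
theorem Root.vec {x : k} (h : Root x) (j : Fin 5) : ∑ l : Fin 5, x ^ (l : ℕ) * f (mK l j) = x * x ^ (j : ℕ) := by
  unfold Root at h
  rw [Fin.sum_univ_five]
  (revert j; simp only [mK, map_ofNat, _root_.Fin.forall_fin_succ, Fin.isValue, _root_.Fin.coe_ofNat_eq_mod, _root_.Nat.zero_mod, _root_.pow_zero, _root_.Matrix.of_apply, _root_.Matrix.cons_val', _root_.Matrix.cons_val_fin_one, _root_.Matrix.cons_val_zero, _root_.one_mul, _root_.Nat.one_mod, _root_.pow_one, _root_.Matrix.cons_val_one, Nat.reduceMod, _root_.Matrix.cons_val, _root_.Nat.mod_succ, _root_.map_zero, _root_.map_one, _root_.mul_one, _root_.zero_add, _root_.MulZeroClass.mul_zero, _root_.add_zero, _root_.Matrix.cons_val_succ, _root_.Fin.val_succ, Nat.reduceAdd, _root_.Fin.val_eq_zero, _root_.forall_const, _root_.true_and]) <;> (repeat' with_reducible apply And.intro) <;> first | ring1 | linear_combination (-1 : k) * h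

omit [CharP k 3] in
/-- the row vector is an eigenvector of the powers -/
theorem Root.vec_pow {x : k} (h : Root x) (n : ℕ) (j : Fin 5) :
    ∑ l : Fin 5, x ^ (l : ℕ) * f ((mK ^ n) l j) = x ^ n * x ^ (j : ℕ) := by
  induction n generalizing j with
  | zero =>
    rw [pow_zero, pow_zero, one_mul, Finset.sum_eq_single j]
    · rw [Matrix.one_apply_eq, map_one, mul_one]
    · intro l _ hl
      rw [Matrix.one_apply_ne hl, map_zero, mul_zero]
    · intro h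
      exact absurd (Finset.mem_univ j) h
  | succ n ih =>
    have e1 : ∀ l : Fin 5, x ^ (l : ℕ) * f ((mK ^ (n + 1)) l j) =
        ∑ m : Fin 5, (x ^ (l : ℕ) * f ((mK ^ n) l m)) * f (mK m j) := by
      intro l
      rw [pow_succ, Matrix.mul_apply, map_sum, Finset.mul_sum]
      exact Finset.sum_congr rfl fun m _ => by rw [map_mul]; ring
    calc ∑ l : Fin 5, x ^ (l : ℕ) * f ((mK ^ (n + 1)) l j)
        = ∑ l : Fin 5, ∑ m : Fin 5, (x ^ (l : ℕ) * f ((mK ^ n) l m)) * f (mK m j) :=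
          Finset.sum_congr rfl fun l _ => e1 l
      _ = ∑ m : Fin 5, (∑ l : Fin 5, x ^ (l : ℕ) * f ((mK ^ n) l m)) * f (mK m j) := by
          rw [Finset.sum_comm]
          exact Finset.sum_congr rfl fun m _ => by rw [Finset.sum_mul]
      _ = x ^ n * ∑ m : Fin 5, x ^ (m : ℕ) * f (mK m j) := by
          rw [Finset.mul_sum]
          exact Finset.sum_congr rfl fun m _ => by rw [ih m]; ring
      _ = _ := by rw [h.vec f j]; ring

theorem Root.pow_eq {x : k} (f : ZMod 3 →+* k) (h : Root x) : x ^ 121 = 1 := by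
  have h1 := h.vec_pow f 121 0
  rw [mK_pow, Finset.sum_eq_single 0] at h1
  · rw [Matrix.one_apply_eq, map_one, mul_one] at h1
    simpa using h1.symm
  · intro l _ hl
    rw [Matrix.one_apply_ne hl, map_zero, mul_zero]
  · intro h
    exact absurd (Finset.mem_univ _) h

theorem Root.pow_ne {x : k} (f : ZMod 3 →+* k) (h : Root x) : x ^ 11 ≠ 1 := by
  intro h0
  have h1 : ∀ j : Fin 5, ∑ l : Fin 5, x ^ (l : ℕ) * f ((mK ^ 11 - 1 : Matrix (Fin 5) (Fin 5) (ZMod 3)) l j) = 0 := by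
    intro j
    have h2 := h.vec_pow f 11 j
    rw [h0, one_mul] at h2
    have h3 : ∑ l : Fin 5, x ^ (l : ℕ) * f ((1 : Matrix (Fin 5) (Fin 5) (ZMod 3)) l j) = x ^ (j : ℕ) := by
      rw [Finset.sum_eq_single j]
      · rw [Matrix.one_apply_eq, map_one, mul_one]
      · intro l _ hl
        rw [Matrix.one_apply_ne hl, map_zero, mul_zero]
      · intro h
        exact absurd (Finset.mem_univ _) h
    calc ∑ l : Fin 5, x ^ (l : ℕ) * f ((mK ^ 11 - 1 : Matrix (Fin 5) (Fin 5) (ZMod 3)) l j)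
        = ∑ l : Fin 5, (x ^ (l : ℕ) * f ((mK ^ 11) l j) -
            x ^ (l : ℕ) * f ((1 : Matrix (Fin 5) (Fin 5) (ZMod 3)) l j)) :=
          Finset.sum_congr rfl fun l _ => by rw [Matrix.sub_apply, map_sub, mul_sub]
      _ = 0 := by rw [Finset.sum_sub_distrib, h2, h3, sub_self]
  have h4 : ∑ l : Fin 5, x ^ (l : ℕ) *
      f (((mK ^ 11 - 1 : Matrix (Fin 5) (Fin 5) (ZMod 3)) * (mC * mJ * mB)) l 0) = 0 := by
    calc _ = ∑ l : Fin 5, ∑ m : Fin 5, (x ^ (l : ℕ) * f ((mK ^ 11 - 1 : Matrix (Fin 5) (Fin 5) (ZMod 3)) l m)) *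
          f ((mC * mJ * mB) m 0) := by
          refine Finset.sum_congr rfl fun l _ => ?_
          rw [Matrix.mul_apply, map_sum, Finset.mul_sum]
          exact Finset.sum_congr rfl fun m _ => by rw [map_mul]; ring
      _ = ∑ m : Fin 5, (∑ l : Fin 5, x ^ (l : ℕ) * f ((mK ^ 11 - 1 : Matrix (Fin 5) (Fin 5) (ZMod 3)) l m)) *
          f ((mC * mJ * mB) m 0) := by
          rw [Finset.sum_comm]
          exact Finset.sum_congr rfl fun m _ => by rw [Finset.sum_mul]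
      _ = 0 := Finset.sum_eq_zero fun m _ => by rw [h1 m, zero_mul]
  rw [mK_inv, Finset.sum_eq_single 0] at h4
  · rw [Matrix.one_apply_eq, map_one, mul_one] at h4
    simp at h4
  · intro l _ hl
    rw [Matrix.one_apply_ne hl, map_zero, mul_zero]
  · intro h
    exact absurd (Finset.mem_univ _) h

theorem Root.prim {x : k} (f : ZMod 3 →+* k) (h : Root x) : IsPrimitiveRoot x 121 := by
  have h1 : orderOf x ∣ 11 ^ 2 := orderOf_dvd_of_pow_eq_one (h.pow_eq f)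
  obtain ⟨m, hm, h2⟩ := (Nat.dvd_prime_pow (by norm_num)).1 h1
  have h3 : orderOf x = 121 := by
    interval_cases m
    · rw [pow_zero, orderOf_eq_one_iff] at h2
      exact absurd (by rw [h2, one_pow]) (h.pow_ne f)
    · rw [pow_one] at h2
      exact absurd (by rw [← h2, pow_orderOf_eq_one]) (h.pow_ne f)
    · rw [h2]; norm_num
  rw [← h3]
  exact IsPrimitiveRoot.orderOf x

omit [CharP k 3] in
theorem exists_root [IsAlgClosed k] : ∃ x : k, Root x := by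
  have hdeg : (Polynomial.X ^ 5 - (2 * Polynomial.X ^ 3 + 2 * Polynomial.X + 1) : Polynomial k).degree = 5 := by
    have h1 : (2 * Polynomial.X ^ 3 + 2 * Polynomial.X + 1 : Polynomial k).degree < 5 := by
      compute_degree!
    rw [Polynomial.degree_sub_eq_left_of_degree_lt] <;> rw [Polynomial.degree_X_pow]
    · rfl
    · exact_mod_cast h1
  obtain ⟨x, hx⟩ := IsAlgClosed.exists_root
    (Polynomial.X ^ 5 - (2 * Polynomial.X ^ 3 + 2 * Polynomial.X + 1) : Polynomial k) (by rw [hdeg]; decide)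
  refine ⟨x, ?_⟩
  simp only [Polynomial.IsRoot.def, _root_.Polynomial.eval_sub, _root_.Polynomial.eval_pow, _root_.Polynomial.eval_X, _root_.Polynomial.eval_add, _root_.Polynomial.eval_mul, _root_.Polynomial.eval_ofNat, _root_.Polynomial.eval_one] at hx
  unfold Root
  linear_combination hx

/-! ### the eigenbasis -/

/-- the conjugates -/
def zt (x : k) (i : Fin 5) : k := x ^ 3 ^ (i : ℕ)

theorem zt_inj {x : k} (f : ZMod 3 →+* k) (h : Root x) : Function.Injective (zt x) := by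
  intro i j hij
  have hlt : ∀ i : Fin 5, 3 ^ (i : ℕ) < 121 := by decide
  have h1 := (h.prim f).pow_inj (hlt i) (hlt j) hij
  exact Fin.ext (Nat.pow_right_injective (le_refl 2 |>.trans (by norm_num)) h1)

theorem zt_cube {x : k} (f : ZMod 3 →+* k) (h : Root x) (i : Fin 5) : zt x i ^ 3 = zt x (i + 1) := by
  have h1 : x ^ 3 ^ 5 = x := by
    have : x ^ (3 ^ 5) = (x ^ 121) ^ 2 * x := by ring
    rw [this, h.pow_eq f]; ring
  unfold zt
  rw [← pow_mul, ← pow_succ]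
  fin_cases i
  · rfl
  · rfl
  · rfl
  · rfl
  · simpa using h1

/-- the eigenbasis (rows) -/
noncomputable def Ym (x : k) : Matrix (Fin 5) (Fin 5) k := Matrix.vandermonde (zt x) * mC.map f

theorem Ym_mul {x : k} (h : Root x) : Ym f x * mSi.map f = Matrix.diagonal (zt x) * Ym f x := by
  have h1 : Matrix.vandermonde (zt x) * mK.map f = Matrix.diagonal (zt x) * Matrix.vandermonde (zt x) := by
    ext i j
    rw [Matrix.mul_apply, Matrix.diagonal_mul, Matrix.vandermonde_apply]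
    have h2 := (show Root (zt x i) from h.pow3 i).vec f j
    simpa only [Matrix.vandermonde_apply, Matrix.map_apply] using h2
  have h3 : mC.map f * mSi.map f = mK.map f * mC.map f := by
    rw [← Matrix.map_mul, ← Matrix.map_mul, mC_mSi]
  rw [Ym, Matrix.mul_assoc, h3, ← Matrix.mul_assoc, h1, Matrix.mul_assoc]

theorem Ym_det {x : k} (h : Root x) : (Ym f x).det ≠ 0 := by
  rw [Ym, Matrix.det_mul]
  refine mul_ne_zero (Matrix.det_vandermonde_ne_zero_iff.2 (zt_inj f h)) ?_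
  have h1 : (mC.map f * mB.map f).det = 1 := by
    rw [← Matrix.map_mul, mC_mB, Matrix.map_one f (map_zero f) (map_one f), Matrix.det_one]
  rw [Matrix.det_mul] at h1
  exact left_ne_zero_of_mul_eq_one h1

theorem Ym_cube {x : k} (h : Root x) (i j : Fin 5) : Ym f x i j ^ 3 = Ym f x (i + 1) j := by
  have hf : (frobenius k 3).comp f = f := Subsingleton.elim _ _
  have h1 : ∀ a : ZMod 3, f a ^ 3 = f a := fun a => by
    have := congrArg (fun g : ZMod 3 →+* k => g a) hf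
    simpa [frobenius_def] using this
  rw [Ym, Matrix.mul_apply, Matrix.mul_apply]
  have h2 : (∑ l, Matrix.vandermonde (zt x) i l * mC.map f l j) ^ 3 =
      ∑ l, (Matrix.vandermonde (zt x) i l * mC.map f l j) ^ 3 := by
    rw [← frobenius_def, map_sum]
    rfl
  rw [h2]
  refine Finset.sum_congr rfl fun l _ => ?_
  rw [mul_pow, Matrix.map_apply, h1, Matrix.vandermonde_apply, Matrix.vandermonde_apply, ← pow_mul, mul_comm (l : ℕ) 3,
    pow_mul, zt_cube f h]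

/-- the scaling -/
noncomputable def sc (x : k) (i : Fin 5) : k := if i = 0 then (Ym f x).det⁻¹ else 1

theorem sc_ne {x : k} (h : Root x) (i : Fin 5) : sc f x i ≠ 0 := by
  unfold sc
  split_ifs
  · exact inv_ne_zero (Ym_det f h)
  · exact one_ne_zero

/-- the normalised eigenbasis -/
noncomputable def Wm (x : k) : Matrix (Fin 5) (Fin 5) k := Matrix.diagonal (sc f x) * Ym f x

theorem Wm_det {x : k} (h : Root x) : (Wm f x).det = 1 := by
  rw [Wm, Matrix.det_mul, Matrix.det_diagonal, Fin.prod_univ_five]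
  simp [sc, Ym_det f h]

theorem Wm_mul {x : k} (h : Root x) : Wm f x * mSi.map f = Matrix.diagonal (zt x) * Wm f x := by
  rw [Wm, Matrix.mul_assoc, Ym_mul f h, ← Matrix.mul_assoc, ← Matrix.mul_assoc, Matrix.diagonal_mul_diagonal,
    Matrix.diagonal_mul_diagonal]
  congr 2
  funext i
  exact mul_comm _ _

/-- the monomial coefficients -/
noncomputable def cf (x : k) (j : Fin 5) : k := sc f x (j + 1) * (sc f x j ^ 3)⁻¹

theorem cf_ne {x : k} (h : Root x) (j : Fin 5) : cf f x j ≠ 0 :=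
  mul_ne_zero (sc_ne f h _) (inv_ne_zero (pow_ne_zero _ (sc_ne f h _)))

/-- `Z⁻¹` as an element of `SL₅` -/
noncomputable def Ws {x : k} (h : Root x) : _root_.Matrix.SpecialLinearGroup (Fin 5) k := ⟨Wm f x, Wm_det f h⟩

theorem Ws_mul {x : k} (h : Root x) :
    (Ws f h * SpecialLinearGroup.map f Si * (Ws f h)⁻¹ : _root_.Matrix.SpecialLinearGroup (Fin 5) k).1 = Matrix.diagonal (zt x) := by
  rw [Matrix.SpecialLinearGroup.coe_mul, Matrix.SpecialLinearGroup.coe_mul]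
  have h1 : (Ws f h).1 * (SpecialLinearGroup.map f Si).1 = Matrix.diagonal (zt x) * (Ws f h).1 := Wm_mul f h
  rw [h1, Matrix.mul_assoc, ← Matrix.SpecialLinearGroup.coe_mul, mul_inv_cancel, Matrix.SpecialLinearGroup.coe_one,
    Matrix.mul_one]

theorem Ws_frob {x : k} (h : Root x) :
    (Ws f h * (SpecialLinearGroup.map (frobenius k 3) (Ws f h))⁻¹ : _root_.Matrix.SpecialLinearGroup (Fin 5) k).1 =
      Matrix.of fun i j => if i = j + 1 then cf f x j else 0 := by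
  set N : Matrix (Fin 5) (Fin 5) k := Matrix.of fun i j => if i = j + 1 then cf f x j else 0 with hN
  set F := SpecialLinearGroup.map (frobenius k 3) (Ws f h) with hF
  have h1 : N * F.1 = (Ws f h).1 := by
    ext i j
    rw [Matrix.mul_apply, Finset.sum_eq_single (i - 1)]
    · rw [hN, Matrix.of_apply, if_pos (sub_add_cancel i 1).symm]
      show cf f x (i - 1) * (Wm f x (i - 1) j) ^ 3 = Wm f x i j
      rw [Wm, Matrix.diagonal_mul, Matrix.diagonal_mul, mul_pow, Ym_cube f h, sub_add_cancel, cf, sub_add_cancel]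
      have h2 := sc_ne f h (i - 1)
      field_simp
    · intro l _ hl
      rw [hN, Matrix.of_apply, if_neg, zero_mul]
      intro hil
      exact hl (by rw [hil, add_sub_cancel_right])
    · intro h
      exact absurd (Finset.mem_univ _) h
  rw [Matrix.SpecialLinearGroup.coe_mul, ← h1, Matrix.mul_assoc, ← Matrix.SpecialLinearGroup.coe_mul, mul_inv_cancel,
    Matrix.SpecialLinearGroup.coe_one, Matrix.mul_one]

/-- **The Singer element over the algebraic closure.** -/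
theorem singer [IsAlgClosed k] : ∃ (Z : _root_.Matrix.SpecialLinearGroup (Fin 5) k) (ζ : k) (c : Fin 5 → k),
    IsPrimitiveRoot ζ 121 ∧
    (Z⁻¹ * SpecialLinearGroup.map f Si * Z : _root_.Matrix.SpecialLinearGroup (Fin 5) k).1 =
      Matrix.diagonal (fun i : Fin 5 => ζ ^ 3 ^ (i : ℕ)) ∧
    (∀ j, c j ≠ 0) ∧
    (Z⁻¹ * SpecialLinearGroup.map (frobenius k 3) Z : _root_.Matrix.SpecialLinearGroup (Fin 5) k).1 =
      Matrix.of fun i j => if i = j + 1 then c j else 0 := by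
  obtain ⟨x, h⟩ := exists_root (k := k)
  refine ⟨(Ws f h)⁻¹, x, cf f x, h.prim f, ?_, cf_ne f h, ?_⟩
  · rw [inv_inv]
    exact Ws_mul f h
  · have h1 := Ws_frob f h
    rw [← map_inv] at h1
    rw [inv_inv]
    exact h1

end

end Cfsg.Agent.H518.E83
end

-- part: H518/E83/Bridge
section
/-!
# The matrices of `H518.E83` are those of `H908.E8L`
-/

set_option autoImplicit false

namespace Cfsg.Agent.H518.E83

theorem Si_eq : Si = Cfsg.Agent.H908.E8L.Sg := Subtype.ext (show mSi = Cfsg.Agent.H908.E8L.SgM by decide +kernel)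

open Matrix in
/-- `singer` for `H908.E8L.Sg` -/
theorem singer' {k : Type*} [Field k] [CharP k 3] [IsAlgClosed k] (f : ZMod 3 →+* k) :
    ∃ (Z : _root_.Matrix.SpecialLinearGroup (Fin 5) k) (ζ : k) (c : Fin 5 → k),
    IsPrimitiveRoot ζ 121 ∧
    (Z⁻¹ * SpecialLinearGroup.map f Cfsg.Agent.H908.E8L.Sg * Z : _root_.Matrix.SpecialLinearGroup (Fin 5) k).1 =
      Matrix.diagonal (fun i : Fin 5 => ζ ^ 3 ^ (i : ℕ)) ∧
    (∀ j, c j ≠ 0) ∧
    (Z⁻¹ * SpecialLinearGroup.map (frobenius k 3) Z : _root_.Matrix.SpecialLinearGroup (Fin 5) k).1 =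
      Matrix.of fun i j => if i = j + 1 then c j else 0 := by
  rw [← Si_eq]
  exact singer f

end Cfsg.Agent.H518.E83
end

-- part: H238/E8/B
section
/-!
# The centraliser of `x₀ = φ₂(Mo)` in `E₈(3)` (helper238; S5925 box B)

`cent_x0` : `g x₀ = x₀ g → ∃ e i, g = φ₁(e) φ₂(Sg)^i`.
-/

set_option autoImplicit false
set_option linter.unusedSectionVars false
set_option maxRecDepth 100000

namespace Cfsg.Agent.H238.E8

open CoxeterSystem Matrix Cfsg Cfsg.Lie Cfsg.Lie.ChevalleyDatum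
open Cfsg.Agent.ChevalleyStructure Cfsg.Agent.ChevalleyStructure.Elts Cfsg.Agent.ChevalleyStructure.CoxeterGeom
  Cfsg.Agent.ChevalleyStructure.CoxeterGeomTypes
open Cfsg.Agent.Nodes.RGDChev
open Cfsg.Agent.KFacts.RgdChevCoord
open Cfsg.Agent.H129.TorusChar
open Cfsg.Agent.BpExc.FamUntw Cfsg.Agent.BpExc.FamInst Cfsg.Agent.BpExc.FamField
open Cfsg.Agent.H942.E8Tab Cfsg.Agent.H942.CB
open Cfsg.Agent.H540.E8C (KK)
open Cfsg.Agent.H992.E8X (X hE8)
open Cfsg.Agent.GpExc.Field (emb emb_injective)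
open Cfsg.Agent.H64.E83 (IsDg lang_diag)
open Cfsg.Agent.H908.E8L (Mo Sg sg_pow11)

/-- the field embedding -/
noncomputable abbrev f3 : ZMod 3 →+* KK := algebraMap (ZMod 3) KK

theorem dg_of_isDg {k : Type} [Field k] {e : _root_.Matrix.SpecialLinearGroup (Fin 5) k} (he : IsDg e) :
    ∃ (d : Fin 5 → kˣ) (h : ∏ i, d i = 1), e = dg d h := by
  have h1 := he.eq_diagonal
  have h2 : (e : Matrix (Fin 5) (Fin 5) k).det = 1 := e.2
  rw [h1, Matrix.det_diagonal] at h2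
  have h3 : ∀ i, (e : Matrix (Fin 5) (Fin 5) k) i i ≠ 0 := by
    intro i h0
    rw [Finset.prod_eq_zero (f := fun i => (e : Matrix (Fin 5) (Fin 5) k) i i) (Finset.mem_univ i) h0] at h2
    exact zero_ne_one h2
  refine ⟨fun i => Units.mk0 _ (h3 i), ?_, ?_⟩
  · apply Units.ext
    rw [Units.coe_prod, Units.val_one]
    exact h2
  · apply Subtype.ext
    exact h1

theorem dg_map {k k' : Type} [Field k] [Field k'] (f : k →+* k') {d : Fin 5 → kˣ} {d' : Fin 5 → k'ˣ}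
    (h : ∏ i, d i = 1) (h' : ∏ i, d' i = 1) (hh : ∀ i, f (d i : k) = (d' i : k')) :
    SpecialLinearGroup.map f (dg d h) = dg d' h' := by
  apply Subtype.ext
  ext i j
  show f (Matrix.diagonal (fun i => (d i : k)) i j) = Matrix.diagonal (fun i => (d' i : k')) i j
  by_cases hij : i = j
  · subst hij
    rw [Matrix.diagonal_apply_eq, Matrix.diagonal_apply_eq, hh]
  · rw [Matrix.diagonal_apply_ne _ hij, Matrix.diagonal_apply_ne _ hij, map_zero]

theorem map_frob_f3 (A : _root_.Matrix.SpecialLinearGroup (Fin 5) (ZMod 3)) :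
    SpecialLinearGroup.map (frobenius KK 3) (SpecialLinearGroup.map f3 A) = SpecialLinearGroup.map f3 A := by
  apply Subtype.ext
  ext i j
  show frobenius KK 3 (f3 (A i j)) = f3 (A i j)
  rw [frobenius_def, ← map_pow, ZMod.pow_card]

theorem sg_ph1 (A : _root_.Matrix.SpecialLinearGroup (Fin 5) KK) : sg (ph1 KK A) = ph1 KK (SpecialLinearGroup.map (frobenius KK 3) A) := by
  rw [phi_ph1]
  congr 1

theorem sg_ph2 (A : _root_.Matrix.SpecialLinearGroup (Fin 5) KK) : sg (ph2 KK A) = ph2 KK (SpecialLinearGroup.map (frobenius KK 3) A) := by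
  rw [phi_ph2]
  congr 1

theorem sg_emb (g : ↥(chevE8.group (ZMod 3))) : sg (emb hE8 f3 g) = emb hE8 f3 g :=
  Cfsg.Agent.H378.TorFin.phi_emb' e8T f3 3 (n := 1) (by rw [Nat.card_eq_fintype_card, ZMod.card]; rfl) g

/-- monomial conjugation preserves the torus -/
theorem mono_TT {M : _root_.Matrix.SpecialLinearGroup (Fin 5) KK} (hM : ∀ i j, i ≠ j + 1 → M i j = 0)
    {s : ↥(chevE8.group KK)} (hs : s ∈ TT chevE8 KK) : ph2 KK M * s * (ph2 KK M)⁻¹ ∈ TT chevE8 KK := by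
  obtain ⟨dl, h1, h2⟩ := Cfsg.Agent.H988.E8.tor_ph2 (inv_mem hs)
  obtain ⟨u, hud⟩ : ∃ u : Fin 5 → KKˣ, ∀ j, u j = dl j / dl (j - 1) := ⟨fun j => dl j / dl (j - 1), fun _ => rfl⟩
  have hu : ∏ i, u i = 1 := by
    rw [Fin.prod_univ_five, hud, hud, hud, hud, hud]
    have := cyc5 (dl 4) (dl 0) (dl 1) (dl 2) (dl 3)
    exact this
  have h3 : s⁻¹ * ph2 KK M * s = ph2 KK (dg u hu * M) := by
    have := h2 M (dg u hu * M) fun i j => ?_
    · rwa [inv_inv] at this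
    show ((Matrix.diagonal fun i => ((u i : KKˣ) : KK)) * M.1) i j = _
    rw [Matrix.diagonal_mul]
    by_cases hij : i = j + 1
    · subst hij
      rw [hud, add_sub_cancel_right, Units.val_div_eq_div_val, div_eq_mul_inv]
      show _ * M (j + 1) j = _
      ring
    · show _ * M i j = _
      rw [hM i j hij, mul_zero, mul_zero, zero_mul]
  have h4 : ph2 KK M * s * (ph2 KK M)⁻¹ = s * ph2 KK (dg u hu) := by
    have e1 : ph2 KK M * s = s * (s⁻¹ * ph2 KK M * s) := by group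
    rw [e1, h3, map_mul]
    group
  rw [h4]
  exact mul_mem hs (ph2_dg u hu).1

/-- **The centraliser of `x₀`.** -/
theorem cent_x0 (hinj : Function.Injective (ph1 KK)) {g : ↥(chevE8.group (ZMod 3))}
    (hg : g * ph2 (ZMod 3) Mo = ph2 (ZMod 3) Mo * g) :
    ∃ (e : _root_.Matrix.SpecialLinearGroup (Fin 5) (ZMod 3)) (i : ℕ), g = ph1 (ZMod 3) e * ph2 (ZMod 3) Sg ^ i := by
  obtain ⟨Z, ζ0, cM, hζ0, hD, -, hM0⟩ := Cfsg.Agent.H518.E83.singer' (k := KK) f3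
  have hz0 : ζ0 ≠ 0 := hζ0.ne_zero (by norm_num)
  obtain ⟨ζ, hζv⟩ : ∃ ζ : KKˣ, (ζ : KK) = ζ0 := ⟨Units.mk0 ζ0 hz0, rfl⟩
  have hζp : IsPrimitiveRoot ζ 121 := by rw [← IsPrimitiveRoot.coe_units_iff, hζv]; exact hζ0
  have hζ : orderOf ζ = 121 := hζp.eq_orderOf.symm
  have hζ1 : ζ ^ 121 = 1 := hζp.pow_eq_one
  have hp : ∏ i, d3 ζ i = 1 := prod_d3 hζ1
  have hDg : Z⁻¹ * SpecialLinearGroup.map f3 Sg * Z = dg (d3 ζ) hp := by
    apply Subtype.ext
    rw [hD]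
    show _ = Matrix.diagonal _
    congr 1
    funext i
    unfold d3
    rw [Units.val_pow_eq_pow_val, hζv]
  obtain ⟨M, hMd⟩ : ∃ M : _root_.Matrix.SpecialLinearGroup (Fin 5) KK, M = Z⁻¹ * SpecialLinearGroup.map (frobenius KK 3) Z := ⟨_, rfl⟩
  have hM : ∀ i j, i ≠ j + 1 → M i j = 0 := by
    intro i j hij
    show M.1 i j = 0
    rw [hMd, hM0, Matrix.of_apply, if_neg hij]
  -- the element `η`
  obtain ⟨η, hηd⟩ : ∃ η : KKˣ, η = ζ ^ 11 := ⟨_, rfl⟩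
  have hη : orderOf η = 11 := by
    rw [hηd, orderOf_pow' ζ (by norm_num), hζ]
    rfl
  have hη1 : η ^ 121 = 1 := by rw [hηd, ← pow_mul, mul_comm, pow_mul, hζ1, one_pow]
  have hpη : ∏ i, d3 η i = 1 := prod_d3 hη1
  have hD11 : dg (d3 ζ) hp ^ 11 = dg (d3 η) hpη := by
    rw [dg_pow]
    congr 1
    funext i
    unfold d3
    rw [hηd, ← pow_mul, ← pow_mul, mul_comm]
  obtain ⟨z, hz⟩ : ∃ z, z = ph2 KK Z := ⟨_, rfl⟩
  obtain ⟨G, hG⟩ : ∃ G, G = emb hE8 f3 g := ⟨_, rfl⟩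
  -- `z⁻¹ x₀ z = t`
  have hx0 : emb hE8 f3 (ph2 (ZMod 3) Mo) = z * ph2 KK (dg (d3 η) hpη) * z⁻¹ := by
    rw [← sg_pow11, map_pow, map_pow, emb_ph2, ← hD11, ← hDg, map_pow, map_mul, map_mul, map_inv, ← hz, ← conj_pow]
    congr 1
    group
  have hgt : G * (z * ph2 KK (dg (d3 η) hpη) * z⁻¹) = z * ph2 KK (dg (d3 η) hpη) * z⁻¹ * G := by
    rw [← hx0, hG, ← map_mul, ← map_mul, hg]
  obtain ⟨c, hc⟩ : ∃ c, c = z⁻¹ * G * z := ⟨_, rfl⟩
  have hct : c * ph2 KK (dg (d3 η) hpη) = ph2 KK (dg (d3 η) hpη) * c := by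
    rw [hc]
    have this : z⁻¹ * (G * (z * ph2 KK (dg (d3 η) hpη) * z⁻¹)) * z =
        z⁻¹ * (z * ph2 KK (dg (d3 η) hpη) * z⁻¹ * G) * z := by rw [hgt]
    calc z⁻¹ * G * z * ph2 KK (dg (d3 η) hpη) = z⁻¹ * (G * (z * ph2 KK (dg (d3 η) hpη) * z⁻¹)) * z := by group
      _ = z⁻¹ * (z * ph2 KK (dg (d3 η) hpη) * z⁻¹ * G) * z := this
      _ = _ := by group
  -- the twisted Frobenius map
  obtain ⟨n1, hn1⟩ : ∃ n1, n1 = ph2 KK M := ⟨_, rfl⟩
  have hn1z : sg z = z * n1 := by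
    rw [hz, sg_ph2, hn1, hMd, ← map_mul]
    congr 1
    group
  have hcf : n1 * sg c * n1⁻¹ = c := by
    have e1 : sg c = (sg z)⁻¹ * G * sg z := by
      rw [hc, map_mul, map_mul, map_inv, hG, sg_emb]
    rw [e1, hn1z, hc]
    group
  have hcomm1 : ∀ A, n1 * ph1 KK A = ph1 KK A * n1 := fun A => by rw [hn1]; exact ((ph_comm KK A M).eq).symm
  obtain ⟨A, s, hs, hcA⟩ := cent_t hη hpη hct
  have hsgs : sg s ∈ TT chevE8 KK := sg_TT hs
  -- step: `A` modulo the diagonal is rational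
  have step : ∀ (A : _root_.Matrix.SpecialLinearGroup (Fin 5) KK) (s : ↥(chevE8.group KK)), c = ph1 KK A * s →
      ph1 KK (SpecialLinearGroup.map (frobenius KK 3) A) * (n1 * sg s * n1⁻¹) = ph1 KK A * s := by
    intro A s h
    have e1 := hcf
    rw [h, map_mul, sg_ph1] at e1
    rw [← e1]
    calc ph1 KK (SpecialLinearGroup.map (frobenius KK 3) A) * (n1 * sg s * n1⁻¹)
        = (ph1 KK (SpecialLinearGroup.map (frobenius KK 3) A) * n1) * sg s * n1⁻¹ := by group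
      _ = (n1 * ph1 KK (SpecialLinearGroup.map (frobenius KK 3) A)) * sg s * n1⁻¹ := by rw [hcomm1]
      _ = _ := by group
  have hst := step A s hcA
  have hs1 : n1 * sg s * n1⁻¹ ∈ TT chevE8 KK := by rw [hn1]; exact mono_TT hM hsgs
  have hd : IsDg (A⁻¹ * SpecialLinearGroup.map (frobenius KK 3) A) := by
    apply Cfsg.Agent.H988.E8.dg_of_mem hinj
    have e1 : ph1 KK (A⁻¹ * SpecialLinearGroup.map (frobenius KK 3) A) = s * (n1 * sg s * n1⁻¹)⁻¹ := by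
      rw [map_mul, map_inv, eq_mul_inv_iff_mul_eq, mul_assoc, hst]
      group
    rw [e1]
    exact mul_mem hs (inv_mem hs1)
  obtain ⟨A', e, he, hAe⟩ := lang_diag f3 hd (A := A) (by group)
  obtain ⟨de, hde, rfl⟩ := dg_of_isDg he
  obtain ⟨s2, hs2⟩ : ∃ s2, s2 = ph1 KK (dg de hde) * s := ⟨_, rfl⟩
  have hs2T : s2 ∈ TT chevE8 KK := by rw [hs2]; exact mul_mem (ph1_dg de hde).1 hs
  have hcA' : c = ph1 KK (SpecialLinearGroup.map f3 A') * s2 := by
    rw [hcA, hAe, hs2, map_mul, mul_assoc]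
  have hst2 := step _ s2 hcA'
  rw [map_frob_f3] at hst2
  have hfix : ph2 KK M * sg s2 * (ph2 KK M)⁻¹ = s2 := by
    rw [← hn1]; exact mul_left_cancel hst2
  obtain ⟨ep, hep, n, hpm, hs2e⟩ := fix_tor hζ hp hM hs2T hfix
  -- the signs are rational
  obtain ⟨e', he'⟩ : ∃ e' : Fin 5 → (ZMod 3)ˣ, ∀ i, f3 (e' i : ZMod 3) = (ep i : KK) := by
    have : ∀ i, ∃ x : (ZMod 3)ˣ, f3 (x : ZMod 3) = (ep i : KK) := by
      intro i
      rcases hpm i with h | h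
      · exact ⟨1, by rw [h, Units.val_one, map_one, Units.val_one]⟩
      · exact ⟨-1, by rw [h, Units.val_neg, Units.val_one, map_neg, map_one, Units.val_neg, Units.val_one]⟩
    choose e' he' using this
    exact ⟨e', he'⟩
  have hprod' : ∏ i, e' i = 1 := by
    apply Units.ext
    apply f3.injective
    rw [Units.coe_prod, map_prod, Units.val_one, map_one]
    simp only [he']
    rw [← Units.coe_prod, hep, Units.val_one]
  have hdge : dg ep hep = SpecialLinearGroup.map f3 (dg e' hprod') := (dg_map f3 _ _ he').symm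
  have hGc : G = z * c * z⁻¹ := by rw [hc]; group
  have hDn0 : Z * dg (d3 ζ) hp ^ n * Z⁻¹ = SpecialLinearGroup.map f3 Sg ^ n := by
    have e1 : dg (d3 ζ) hp = Z⁻¹ * SpecialLinearGroup.map f3 Sg * Z⁻¹⁻¹ := by rw [← hDg, inv_inv]
    rw [e1, conj_pow]
    group
  have hDn : z * ph2 KK (dg (d3 ζ) hp ^ n) * z⁻¹ = ph2 KK (SpecialLinearGroup.map f3 Sg) ^ n := by
    rw [hz, ← map_inv, ← map_mul, ← map_mul, hDn0, map_pow]
  have hz1 : ∀ B, z * ph1 KK B = ph1 KK B * z := fun B => by rw [hz]; exact ((ph_comm KK B Z).eq).symm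
  have hfin : G = ph1 KK (SpecialLinearGroup.map f3 A') * ph1 KK (dg ep hep) * ph2 KK (SpecialLinearGroup.map f3 Sg) ^ n := by
   rw [hGc, hcA', hs2e]
   calc z * (ph1 KK (SpecialLinearGroup.map f3 A') * (ph1 KK (dg ep hep) * ph2 KK (dg (d3 ζ) hp ^ n))) * z⁻¹
      = (z * ph1 KK (SpecialLinearGroup.map f3 A')) * ph1 KK (dg ep hep) * ph2 KK (dg (d3 ζ) hp ^ n) * z⁻¹ := by group
    _ = ph1 KK (SpecialLinearGroup.map f3 A') * (z * ph1 KK (dg ep hep)) * ph2 KK (dg (d3 ζ) hp ^ n) * z⁻¹ := by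
        rw [hz1]; group
    _ = ph1 KK (SpecialLinearGroup.map f3 A') * ph1 KK (dg ep hep) * (z * ph2 KK (dg (d3 ζ) hp ^ n) * z⁻¹) := by
        rw [hz1]; group
    _ = _ := by rw [hDn]
  have hfin2 : emb hE8 f3 (ph1 (ZMod 3) (A' * dg e' hprod') * ph2 (ZMod 3) Sg ^ n) =
      ph1 KK (SpecialLinearGroup.map f3 A') * ph1 KK (dg ep hep) * ph2 KK (SpecialLinearGroup.map f3 Sg) ^ n := by
    rw [map_mul, map_pow, emb_ph1, emb_ph2, map_mul, map_mul, ← hdge]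
  exact ⟨A' * dg e' hprod', n, emb_injective hE8 f3 (by rw [← hG, hfin, hfin2])⟩

end Cfsg.Agent.H238.E8
end

-- part: H238/E8/Inj
section
/-!
# Injectivity of `φ₁` over the algebraic closure (helper238)
-/

set_option autoImplicit false
set_option linter.unusedSectionVars false
set_option maxRecDepth 100000

namespace Cfsg.Agent.H238.E8

open Matrix Cfsg Cfsg.Lie
open Cfsg.Agent.ChevalleyStructure.HMatDiagAll (expo)
open Cfsg.Agent.H540.E8C (KK)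
open Cfsg.Agent.H992.E8X (X hE8 X_eq_one)
open Cfsg.Agent.H129.TorusChar Cfsg.Agent.KFacts.RgdChevCoord Cfsg.Agent.Nodes.RGDChev
open Cfsg.Agent.H942.E8Tab
open Cfsg.Agent.H64.E83 (IsDg)

theorem ker_central {F : Type} [Field F] {G : Type} [Group G] (π : _root_.Matrix.SpecialLinearGroup (Fin 5) F →* G)
    (h : ∃ (i j : Fin 5) (hij : i ≠ j) (a : F), π (SpecialLinearGroup.transvection hij a) ≠ 1) :
    π.ker ≤ Subgroup.center (_root_.Matrix.SpecialLinearGroup (Fin 5) F) := by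
  obtain ⟨i, j, hij, a, ha⟩ := h
  have hsimple : IsSimpleGroup (Matrix.ProjectiveSpecialLinearGroup (Fin 5) F) :=
    Cfsg.Agent.LieClassical.SLGen.psl_isSimpleGroup (by simp)
  let ψ : _root_.Matrix.SpecialLinearGroup (Fin 5) F →* Matrix.ProjectiveSpecialLinearGroup (Fin 5) F := QuotientGroup.mk' _
  have hψsurj : Function.Surjective ψ := QuotientGroup.mk'_surjective _
  have hψker : ∀ s, ψ s = 1 → s ∈ Subgroup.center (_root_.Matrix.SpecialLinearGroup (Fin 5) F) := fun s hs =>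
    (QuotientGroup.eq_one_iff _).1 hs
  have hnorm : (π.ker.map ψ).Normal := Subgroup.Normal.map inferInstance ψ hψsurj
  rcases hnorm.eq_bot_or_eq_top with h1 | h1
  · rw [Subgroup.map_eq_bot_iff] at h1
    intro s hs
    exact hψker s (h1 hs)
  · exfalso
    have h2 : ∀ s t : _root_.Matrix.SpecialLinearGroup (Fin 5) F, π s * π t = π t * π s := by
      intro s t
      have h3 : ψ s ∈ π.ker.map ψ := by rw [h1]; exact Subgroup.mem_top _
      obtain ⟨k, hk, hks⟩ := h3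
      have h4 : k⁻¹ * s ∈ Subgroup.center (_root_.Matrix.SpecialLinearGroup (Fin 5) F) := by
        apply hψker
        rw [map_mul, map_inv, hks, inv_mul_cancel]
      have h5 := congrArg π (Subgroup.mem_center_iff.1 h4 t)
      have h6 : π (k⁻¹ * s) = π s := by
        rw [map_mul, map_inv, MonoidHom.mem_ker.1 hk, inv_one, one_mul]
      rw [map_mul π t, map_mul π (k⁻¹ * s), h6] at h5
      exact h5.symm
    apply ha
    obtain ⟨l, hli, hlj⟩ : ∃ l : Fin 5, i ≠ l ∧ l ≠ j :=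
      (by decide : ∀ i j : Fin 5, ∃ l : Fin 5, i ≠ l ∧ l ≠ j) i j
    have h7 := Cfsg.Agent.LieClassical.SLGen.commutator_transvection (F := F) hij hli hlj a 1
    rw [mul_one] at h7
    rw [← h7, map_commutatorElement, commutatorElement_eq_one_iff_mul_comm]
    exact h2 _ _

theorem ex126 : expo chevE8 (rt1 0 1) 126 = 0 ∧ expo chevE8 (rt1 1 2) 126 = 0 ∧ expo chevE8 (rt1 2 3) 126 = -1 ∧
    expo chevE8 (rt1 3 4) 126 = 0 := by decide +kernel

/-- **Injectivity of `φ₁`.** -/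
theorem inj1 : Function.Injective (ph1 KK) := by
  rw [← MonoidHom.ker_eq_bot_iff, Subgroup.eq_bot_iff_forall]
  intro A hA
  have h1 : A ∈ Subgroup.center (_root_.Matrix.SpecialLinearGroup (Fin 5) KK) := by
    refine ker_central (ph1 KK) ⟨0, 1, by decide, 1, fun h => ?_⟩ hA
    rw [ph1_tv] at h
    have := X_eq_one (rt1_lt 0 1) h
    rw [mul_one] at this
    have h2 : ((sg1 0 1 : ℤ) : KK) * (sg1 0 1 : KK) = 1 := by rw [← Int.cast_mul, td1, Int.cast_one]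
    rw [this, zero_mul] at h2
    exact zero_ne_one h2
  rw [Matrix.SpecialLinearGroup.mem_center_iff] at h1
  obtain ⟨c, hc5, hcA⟩ := h1
  have hc0 : c ≠ 0 := by
    intro h0
    rw [h0, zero_pow (by simp)] at hc5
    exact zero_ne_one hc5
  obtain ⟨u, hu⟩ : ∃ u : KKˣ, (u : KK) = c := ⟨Units.mk0 c hc0, rfl⟩
  have hu5 : u ^ 5 = 1 := by
    apply Units.ext
    rw [Units.val_pow_eq_pow_val, hu, Units.val_one]
    simpa using hc5
  have hp : ∏ _i : Fin 5, u = 1 := by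
    rw [Finset.prod_const, Finset.card_univ, Fintype.card_fin, hu5]
  have hAd : A = dg (fun _ => u) hp := by
    apply Subtype.ext
    rw [← hcA]
    show Matrix.scalar (Fin 5) c = Matrix.diagonal fun _ => (u : KK)
    rw [hu]
    rfl
  obtain ⟨-, hX⟩ := ph1_dg (fun _ : Fin 5 => u) hp
  have h3 := hX 126
  rw [← hAd, MonoidHom.mem_ker.1 hA] at h3
  have h4 : wv rt1 (fun _ => u) 126 = 1 := by
    apply Units.ext
    rw [Units.val_one]
    exact h3.symm.trans (cX_one _ _)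
  unfold wv at h4
  obtain ⟨e0, e1, e2, e3⟩ := ex126
  rw [e0, e1, e2, e3] at h4
  have h5 : u ^ 3 = 1 := by
    have : (pp (fun _ : Fin 5 => u) 2) = u ^ 3 := by
      show u * u * u = u ^ 3
      rw [pow_succ, pow_two]
    rw [this] at h4
    simpa only [_root_.Fin.isValue, _root_.zpow_ofNat, _root_.pow_zero, _root_.mul_one, _root_.Int.reduceNeg, _root_.zpow_neg, _root_.pow_one, _root_.one_mul, _root_.inv_eq_one] using h4
  have h6 : u = 1 := by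
    calc u = (u ^ 3) ^ 2 * (u ^ 5)⁻¹ := by rw [← pow_mul]; group
      _ = 1 := by rw [h5, hu5]; simp
  rw [hAd]
  exact dg_eq_one fun _ => h6

/-- **The centraliser of `x₀`, unconditional.** -/
theorem cent_x0' {g : ↥(chevE8.group (ZMod 3))}
    (hg : g * ph2 (ZMod 3) Cfsg.Agent.H908.E8L.Mo = ph2 (ZMod 3) Cfsg.Agent.H908.E8L.Mo * g) :
    ∃ (e : _root_.Matrix.SpecialLinearGroup (Fin 5) (ZMod 3)) (i : ℕ),
      g = ph1 (ZMod 3) e * ph2 (ZMod 3) Cfsg.Agent.H908.E8L.Sg ^ i := cent_x0 inj1 hg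

end Cfsg.Agent.H238.E8
end

private theorem dce_41b04f7a4b8f : _root_.True := by
  try have : _root_.True := by simp only [_root_.Cfsg.Agent.H518.E83.Ym.eq_1]
  try have : _root_.True := by simp only [_root_.Cfsg.Agent.H518.E83.cf.eq_1]
  try have : _root_.True := by simp only [_root_.Cfsg.Agent.H518.E83.Wm.eq_1]
  try have : _root_.True := by simp only [_root_.Cfsg.Agent.H518.E83.mK.eq_1]
  try have : _root_.True := by simp only [_root_.Cfsg.Agent.H518.E83.mMo.eq_1]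
  try have : _root_.True := by simp only [_root_.Cfsg.Agent.H238.E8.dg.congr_simp]
  try have : _root_.True := by simp only [_root_.Cfsg.Agent.H518.E83.mSi.eq_1]
  try have : _root_.True := by simp only [_root_.Cfsg.Agent.H518.E83.sc.eq_1]
  exact _root_.True.intro
end
end

-- part: H671/E83/Tbl
section
set_option linter.all false
open scoped Cfsg.Agent.FastGrp

namespace Cfsg.Agent.H90F

private noncomputable def frc {α : Type} (x : ℕ) (f : ℕ → α) : α := Nat.rec (f 0) (fun k _ => f (Nat.succ k)) x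

private theorem frc_eq {α : Type} (x : ℕ) (f : ℕ → α) : frc x f = f x := by cases x <;> rfl

private noncomputable def nth {α : Type} (d : α) (l : List α) : ℕ → α :=
  List.rec (fun _ => d) (fun a _ ih n => Nat.rec a (fun k _ => ih k) n) l

private theorem nth_eq {α : Type} (d : α) (l : List α) (n : ℕ) : nth d l n = l.getD n d := by
  induction l generalizing n with
  | nil => rfl
  | cons a l ih => cases n with
    | zero => rfl
    | succ k => exact ih k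

private theorem nth_arr {α : Type} (d : α) (a : Array α) (n : ℕ) : a.getD n d = nth d a.toList n := by
  rw [nth_eq, List.getD_eq_getElem?_getD, Array.getD_eq_getD_getElem?, Array.getElem?_toList]

private noncomputable def fgd {α : Type} (a : Array α) (n : ℕ) (d : α) : α := frc n (nth d a.toList)

private theorem gd_eq {α : Type} (a : Array α) (n : ℕ) (d : α) : a.getD n d = fgd a n d := by
  rw [fgd, frc_eq, nth_arr]

private theorem gd_fun : @Array.getD.{0} = @fgd := by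
  funext α a n d; exact gd_eq a n d

private noncomputable def flb {α : Type} (e : α → α → Bool) (l : List α) : List α → Bool :=
  List.rec (motive := fun _ => List α → Bool) (fun m => List.rec true (fun _ _ _ => false) m)
    (fun a _ ih m => List.rec false (fun b m _ => Bool.rec false (ih m) (e a b)) m) l

private theorem lb_fun : @List.instBEq.{0} = fun α H => (⟨flb H.beq⟩ : BEq (List α)) := by
  funext α H
  refine congrArg BEq.mk (funext fun l => funext fun m => ?_)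
  induction l generalizing m with
  | nil => cases m <;> rfl
  | cons a l ih =>
    cases m with
    | nil => rfl
    | cons b m =>
      show (a == b && List.beq l m) = (Bool.rec false (flb H.beq l m) (a == b) : Bool)
      rw [ih]; cases a == b <;> rfl

private noncomputable def fal {α : Type} (l : List α) (p : α → Bool) : Bool :=
  List.rec true (fun a _ ih => Bool.rec false ih (p a)) l

private theorem al_fun : @List.all.{0} = @fal := by
  funext α l p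
  induction l with
  | nil => rfl
  | cons a l ih => rw [List.all_cons, ih]; show _ = (Bool.rec false (fal l p) (p a) : Bool); cases p a <;> rfl

private noncomputable def fmp {α β : Type} (f : α → β) (l : List α) : List β := List.rec [] (fun a _ ih => f a :: ih) l

private theorem mp_fun : @List.map.{0, 0} = @fmp := by
  funext α β f l
  induction l with
  | nil => rfl
  | cons a l ih => rw [List.map_cons, ih]; rfl

private noncomputable def ffl {α : Type} (p : α → Bool) (l : List α) : List α :=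
  List.rec [] (fun a _ ih => Bool.rec ih (a :: ih) (p a)) l

private theorem fl_fun : @List.filter.{0} = @ffl := by
  funext α p l
  induction l with
  | nil => rfl
  | cons a l ih =>
    rw [List.filter_cons, ih]; show _ = (Bool.rec (ffl p l) (a :: ffl p l) (p a) : List α); cases p a <;> rfl

private noncomputable def fap {α : Type} (l m : List α) : List α := List.rec m (fun a _ ih => a :: ih) l

private theorem fap_eq {α : Type} (l m : List α) : l ++ m = fap l m := by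
  induction l with
  | nil => rfl
  | cons a l ih => rw [List.cons_append, ih]; rfl

private theorem ap_fun : @List.instAppend.{0} = fun α => (⟨fap⟩ : Append (List α)) := by
  funext α; exact congrArg Append.mk (funext fun l => funext fun m => fap_eq l m)

private noncomputable def ffm {α β : Type} (f : α → List β) (l : List α) : List β := List.rec [] (fun a _ ih => fap (f a) ih) l

private theorem fm_fun : @List.flatMap.{0, 0} = @ffm := by
  funext α β f l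
  induction l with
  | nil => rfl
  | cons a l ih => rw [List.flatMap_cons, ih, fap_eq]; rfl

private noncomputable def dOf {P : Prop} (b : Bool) (h : b = true ↔ P) : Decidable P :=
  Bool.rec (motive := fun c => b = c → Decidable P) (fun e => isFalse fun hp => Bool.noConfusion (e.symm.trans (h.2 hp)))
    (fun e => isTrue (h.1 e)) b rfl

private theorem dn_fun : instDecidableEqNat = fun a b => dOf (Nat.beq a b) Nat.beq_eq.to_iff := by
  funext a b; exact Subsingleton.elim _ _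

private noncomputable def ibq (a b : ℤ) : Bool :=
  Int.rec (fun m => Int.rec (fun n => Nat.beq m n) (fun _ => false) b) (fun m => Int.rec (fun _ => false) (fun n => Nat.beq m n) b) a

private theorem ibq_iff (a b : ℤ) : ibq a b = true ↔ a = b := by
  rcases a with m | m <;> rcases b with n | n
  · exact Nat.beq_eq.to_iff.trans ⟨fun h => h ▸ rfl, Int.ofNat.inj⟩
  · exact ⟨fun h => Bool.noConfusion h, fun h => nomatch h⟩
  · exact ⟨fun h => Bool.noConfusion h, fun h => nomatch h⟩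
  · exact Nat.beq_eq.to_iff.trans ⟨fun h => h ▸ rfl, Int.negSucc.inj⟩

private theorem bz_fun : @BEq.beq ℤ instBEqOfDecidableEq = ibq := by
  funext a b; rw [Bool.eq_iff_iff, beq_iff_eq, ibq_iff]

end Cfsg.Agent.H90F

-- part: H671/E83/Q81
section
/-!
# S5925, box G: the field with 81 elements on codes (helper671)

`F₃[g]`, `g⁴ = 1 - g`: the code of `c₀ + c₁ g + c₂ g² + c₃ g³` is `c₀ + 3 c₁ + 9 c₂ + 27 c₃`.

* `val g c` : the element with the code `c`;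
* `mu a c` : the code of `g ^ a` times the element `c` (`a < 80`);
* `ad c d` : the code of the sum.
-/

set_option autoImplicit false

namespace Cfsg.Agent.H671.E83

/-- table of `mu` -/
def MUT : ℕ := 0x9eccd4e6a66834313181796c8b4d62564ad292179394b894654462ac211d58f869c7425236228190120b7e985414a25ea110f11877c8833a3c15ca008ecf836e6c1363a05c1c00cc8bd35190cf5421a9078662a39cb03b41ef8c4745415866039d17867a6270ac86b92d0904b521188c765621f9aa01ad16dca4037252025e29b137e7642602b84b82504e4a4a008ba5af580b6639bc63c51097806a19b541648898927a70441caf78c85351ada2a0268cb3f3308eac09203cb4d394811eed73e6225a0c711cf9244560988871583941a6a5a0a003a5e3d6907645cae6029f0b78c5eb21239b346ed46331ae0f138e5229f8c809177e8a0232a84b418674c1b3310d42381642b92b01aa092a6260c903cd112d2a7034014e513d4805f1c28f3d21d135640fc9765162d8a0dc9254ba304228250a4531f174cc1f867855231801c5a39aca08812865bd2c95b184ed21811c76835880861b9cdcca8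1a727b834a59c2011e6360a28c2f449cf266921f431e5c0930c395b03ae9fd03e91ac97910815045038c58c4dbb813a2cd6e0c5995a8d412103553238e60cf8d2dc04126972152812b394f61112c0263524d8f888e9068a88a8c496415e1c4409ca721057959e98646685259e0ee1f1b090d60990c4d179cb80bb423e0290cdd00e8a949cd66c0cca3a0deab1709fa82341696748c0358c189266f306203f2c7086915b144a91c131a7a6c70ece20460a9f19146e5491275943066163d786959c902c2b1840973f725d4229c44821a1040ad4eecb1552ea78f46be0008cc010688b9a847e98cb96ea8b927ca064a448054e986c8cb3a40749427c4d0680e0c564044435a51ea74a61db65859c2b2a4de294869d1e173e69c1e364230f097b30b023b100c0838052d5c63a5622126b873c0d25484a091f9f34d44ba3304f39682d3039ea80cd2f14e37643df2d1aa0448250d1ca4e1d1148431eaf14ed9ce4a15018806cb4722d98cc580081e94e0ca761043cb16895b92809a423b3c6154cf63035e8668a26a9dc402cc71c9cf0ba55d142c91e814b73019940a034da47c5822d8e7e41134a1b3f10c44a398e892c6b0c01e15425211a4269b32ed22726f9c2a2d0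59840f116b0031c5ce3e8874896708b94a68a3c50acbb66815fc25c20145633d009192519d1f3131874f54922add60380d57868719900147e7d01680f4e128640c1a8a4ca1c8e6913a6e58f207263b349923930652ba26a1ebe28a53bc24a9b152cadbb82eb19bf0611a408215ac410bd6c20c1d74302c634704c9845007d3339eedf8a340c5980881234a0e604e75044990a792b590f620c26210a85e894ad92fa10d28187120e8d3ae94f21912a04eaa6335b4696de38f2c08dab647163098e22902e0134422ce4153ef40bb1075f8c553c9b134be68342d85288c616cb0889b8b531d2421ed249640f81390c6e00d5740a32741ce411cb2712606574c0a8dc094f152c320d65173cf004496e88980e9969c90de09508399a258f63ce022c91f52c040f327522e770a60c2c1553446fe4b826084b1409e7be8abcda59ae619a0c410ab6ada04a0634ba8647a3507828a0096657ba106e20f4a6174d0e75c91490d6cc3471d864d088370a8608c5720b35088db0e5500ab49489c0358fc6b3925e38951389b27a08f0b4f18931a00503c53145309e50fbe00650c75edc4cb0aa042b9c6e093743190f6af52c80510b1e5cd85cd089cc238c760127239887554124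a030caa022d1e4c06a4d228ab5c0a7635806593ce3f2908b9f20cdf26920108b991d70332d94b74e684cd44bc2450b196a830e25a314ac93b9c7468880c20b10c4dcac363a78ca0719077ee95146a0613d485c7ca3f21010050d9a52af8b3c4c788c988d000b76d662b02849425c35e839c9239d2ed980f5222519807d386906a0a06ec484d58091138625cb3093d2c5365578e7d18e165a31e05a098c3f3ce1911501e4a3291053a692d50077223354e705862cad02d026864c82f09100b09bd042c530d0461ecd7eb961e9d0dc2444c819322759a82e243c77325825463c2146d3e2082a2a54574a4db480fa59f5ea8c8e0120c308c352bb048d3bf1e71e846b34a063cd8b2e9e2d64440e042d9c555c3146994a189228144ea09152f019b984da10510029d7c499cb6e1cfd02ebe10954c64994d1c7217200c0820c102890e200d2a152ad3b1a73e042892356cddc396fe5371e683a7647dec5a01061738917cd7508a0112d512a3ca58b6832431132b8da69ef239606396344312639164c0086e7883f5262531401db281f0581a92e0f86809c8c86464ad05c15e9b1b1532d2f3ce8478946479cbcb3e380e3241c2a12c2535a02748558988cca4c4605cc354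2e5b526ed1006eb851e2b0845058fcd9252166907ad252604c46ba31150879eadb2d1280bc41ef19c13a51404986a3a392940b018e4f96861a72a70bc5a7072c8be6b00e136439d998c8a42400b959f141cb379f0ca890d09b4e3cb555088e16205e20b8b36cd3921e0dfbc9614a119b05f293ad5ecc80d141c20109a646c811a1d2a3bb1a04cba93198a54515cc842c121818015a74c7cda35ccd9070608b12342878e9f2e5437f1dbbc762488d0c140952865b3e753a6c9850632d6ac55294a78ea289022b87ae684c9080e215ed182c5090b93302c80c10100271b1130980ac8c53605c230cf4f8572cccd0645662e29201ba4009b1c0ef909292bcd4e685a6b01f1960e84a0541492d89794b49cf6a61fa5171d51086a463c4421d9e08dce801a825c406c53ba2e24e4a80096a66c4c8a19f143b556f8c015efdc124a6e48b0cd23bd34a91ce2015843725949f9a30cac79407a2671841550ee60e3cca1042891bc814757410081f99960560d5ef01a5a0c5c0f884913a16ccb9b8c9e488391caca0ca04b4760954c5af47403479b10644d1c24d38221865278548458370ea6435722a2963af862e307e0ab9a01f954264e43411ca01513d64a0b2c3245eec8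bc12c06b46e96607a0094835521c0e6a3d6b962f45123d151402d10d1d16c9f336c31d105c6e1188c4cf974706484562134d4f380150e2d0a564fe63e38a59c3a0d8c82191e43a280c82054b9435373dc420238c4a731828f26b169f0c28ba4628e5bd82ee2c9224822f3cac49610c112679026b43a9dbc49c34d000e6dd8b5114ab59296111653c92170126185ef809e7e395a98c259ca2c71c88a04d8360a8a18f4c08fbc18b20195b3641768e831d8e2938346dc82488518ce55046ae966903d006c4c876a4b878cd141675159861728eb5111e49c1455ca784c0191a08d2936f3d11024d92320b11c2628121b1423e71878a97828330f8d030171e192df2c343a6a05665ebf5a00483312213c36c152946bcb9104ee8418cde6344a7c3931a58801753e02844b99a43c1890c8ada5ca88f8eb2582c29a10507477135aa640718ab1410cc986f5cce7e9d0ad2a3c0030220c16282480e85023bc74e244f9ac173554a131b448119e38bd9b152915911828106085c919a12e4c18b0ddb67addf39992a74688fd2ac4e7cea168c9693345468b1e1c2800271b8846f819e72598cc28be518673882b8c394c41291fc0149639159086277410fb80475e06433ccb49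a5d94824b574926d681a612caa8863534116aa28f44f43a07614db600712ae6f02481144d1ac6afa3d01044d1e4ec1cc2960c615627d44c750cb041abcea694e2094042d9a15539e4530187ab688a34f7a40c8752c90449aec7170a9169b7f21b0924012a856b98b4387d140871a4cc9eddd3d14348132c640840eb13296abd9233a823c1894254d7ce1d911638d142e201054ea923066b4f21370a2bf973a43978d860f1254c120618028529d5ac549532462c98346acd72f5a7d01e448d09c3a6e1c4851a3c58105fcc9b2e7d09d2654874edcbd7cf1bb86c3470c204478a1624b172a64d1826509040a0c3880c0410053086a7863944418b229055188ab8e3d33f149200b4b044b2965984c2ec66956b38cb39e69a5030be4135b24a2e94490390879d053eec1a3781d0bd1089f063ad809b6e08e380108b201ac9ca996121973c3983a4f302c42a7c63176a26838a651906af164e0f18d2122cdeaa9e22398443da3e574033f267452f6c9a4018050d8b5add249050491c12b9c259400b237e822938464eb27829c905e35ab6961d30459214ce025d0c03d18a43346d83d16e88ad1ccdbcc10902aa929e7822a8a09f8e4a21838c5f09763d70c68e26864a0d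5ca51400238055f9744590c18a50f933d1d0462464dc43b0cc423471e0b622983e64f44905aed7ba1ee48ae6adc6361cd06b3701d24d4d3034b109564907202ab08aa54e04a00a7a0a678080c4395789118b9a5df26442a63f601908997059082cf529476b0f9093156833c3e4475e149ba571970424e55202328d8c9d11a8232dd4436804c364e7475034e149c1b3e13300c561b0e506407739e498890fb52a4010b06666c56e8d6a87d221a63cd0b8f0228298991db225e9d82b3a1898e7eea809086a5c6708572964a8e0824360b99ef65424a819962201643126df046320d14692c6268c1cf3876050ce2eba00f5324c32882953c0a70fb610d6612491c6904f0412272557cf0675e9961285ab85147256e1904d26cd6d02ca1f9146e8043640c4c93ab0c3d7ca8c8488c0d8a9520e0b34f15b10b09a088b2cf8e28d92a624de3350c326203c366b8484c3c766060ad424283b4e58bb950b813f9c8888f9e8d4957501780651408369061885b247213b2c8093f40c2576f4a2758d8b2a6e5cca672f892888197308c082357e2904e943111b9844e4d1e2cf4f90351bc26a55b82a6923a0ace0420ebd8c70114b9c02aa6b26e3da391704c9e069a78851216be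1b0c9231cb9e21884e486532c12b20c1c1d8c54fbf354022412d5d259c15d8a6661040288a127941de8c5ed88b12c6e3ac9800bbc4a7074e8ab82aa26ee6a114062336ea4c0f928190680e5594172d1340508cb84e7884a82c03a62af679d180e32f5069b483e4443f62f92161b40dad091c93a588c4cc86d403c28a12b9345d5b61c8a44e167ce4b22ba1080ad1fc504c49a77cecca454e0b21943451ea13481b881d6b382100b08ea5e923099d372ab248c46827891e766065f0e0036aca30028f94a826f5e2724e521834ed32532e95966ed95152ee16221b26421183a523174101f153e71e132cd8f2334e9c213212d0c2222f5c1e1b40901fb306160b5051d931031a2b000fa4c252896941a1898c10f644450857a746b890e0ef25434881a181611cd080ee7bf4c7d99a140cc890aea7414a79a961e09bcb8eacdb254758952205b4d8ce2645587181720024b42d0920f7c8012208dd69896a45c71b01586726ca506431faa10ece939ec64332b113117a7c0a106d979a9aa05464615c2e33313898a3a0ac0ee8e129cc25352f0d2907878034548cb0c0b25fb8487570f106613b98818a7044c4be9f142151cde44144cd618221e5c474b531c16049477b3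949f6101b4a5685a8d065dccd866d7a50c688508cf19283c50500543a02308d9a1594320ab0add09690d5fac1ae110392ccb9d0ee57189a908c310e8d9996bc7c44aece0698b4d424c41892a09c5c64005e139cc84c75009e9e9ec0a455229f1f0039cb1807492a0f4024d4ed970b4662315868252402d08bc826c9ab113863a64dd789426638596a242504d47bd2d10f2c0d3c6bb60fce14446a28398a5c2d14cc83e2f08fc94c01c9358c60861c6e79d9c3492b77004300ec9fd0187153a29344a24edcd045f15747062d0cc6c6549850e23055a8e58a86099a09040aa57c91e9702d614a1e7c89e92f0b266910013450d64d04e44b382690064f218b7206e2959e1128e5efa703483573d3b1cbab9805d8b6a490c210a65306c3e0193ec9c117e60f07512462d7872316a01533a14d0a2388aa58044919439ce09832335ebf0434c2c5c784970eccea8731e49a023102b5b0663c4ed4e48771830b2cde15020482b1429a2ca745440a36a5a041e512b0473db445e7d53e812c7190090645646a52202ea72d2ae100886ac503786c8c1524e6347a7023f4e3e6b528363253121802768d7169e78336582e217a0bc3b73e2612a3a15f282101992971d30e92c4cb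942006042f15ed0487179a1e1e53f6ec939f02504ba9b0913554b529d2a342ce8cf90305020c10712202b46cc502250ddcb793e39b5c981961d05b4952798910c6664472d1621262c0043af0bad9e312c77a14dd02aba28d4c71f035f38b248c387a8821d03634c24bf20a5b883d28c314f0089f701994832519cc12ae20146e6692690852c74090b5964d5431689d803b04a3c1ecc22898b5b099e1d59741112c9031cd2318c1c855334dbf24f48342a7a12e6e2a80858358ba4d281453085f116a0d3cb39009ce0ca8b1f86bdc0b8c6510e64ed24801066be281489d52d479206ccda778fe5a8687263d80108136d0a7092a1969e541c51656b8fcf6f0d02c5f128382e205c9751808d32958a234087234cca3ca76c10a4731640c30026ce92f9b3a830a3050c048891a50a9952a92b55ac4e9e4448b1a061c10f1438d9f469d5a666b993f871e5cf94f1bbb68bd81c408542c48f5c3981122cca12080b184cb98082004e34d24925f34b306c08e3a0681f0743087288c3d64114903237a04db80a7dc894d006a788455c52aca6196740a2e90aa3904afc5a986316ca26c65976b3cc1e761113c1075b8034f55340d1e7232049c255e05fc9362cb3952c02c39a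7c60280b4e0994d931307118a01b2dd272e1e2b542467be566074c3ca0abb84c820fa08961979199881520ea428de0ae00f568e540a61a807834a511ce156825da32708836653930470c47a5074094444065ac7e80caf1af0d978c2dd33929c4396a29487905a29d0b3d24342518116e7cc4118f974d560168f7239c357ac4502a0a66250ea81c88088b1e2514d443b2960550067869690e198655fa18e80a0978c1daf22d06b72718fc2366119782d998c642df1074b93089a124ab9c9c00f0a4dcca8cb561f713e135506c70130c52231418bbd97068436ca4e33046462542c83951731fbe06508488ee95205c898262c2444079349110915dc93cbd5c46f38eb44e686800ad9113a0c07c34d299968ca44b9382160c807c13c5a666cf644a12522e1084502e29b0eeda959205f1e313178e7ead210888c1b762527067474bc8682a3a796b8d415435ea000d8924453c805651281146c21032695bc308c5338283d0ce671431650ea50b3aa5d97126e4460ed0e491421ac7725538c3d2e0015cb1f1a04be0bc30a8fcc1a655bd9a3902d7e00906189199e6d165cf7500816028942e647564494f828b3444b8246a57d07706148780c498606d525687dbc6984c3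8d0828cb138ae1c97ae23cd28207266a810a75b39cbf1e5400604106111448b9966bd89e467122957160c397424b676f5d3c71021479f226963050083104048e50a932e60d511b4074fa158953b268b654c9cf9bb98919f8b1a3cd132a1438004e0e84747c33c42463ac150128c849cbcd64667b425216af292989698ccc4e4621f1c02dcf0372a4744564232412fe0a6170d40d8aa87d06a6a4ae272d81576802bd441db1b00e25413abd302282dd4c867d8a808586bc9d150b35418c0f8efa82c46d48883501bc94a7170a024e139969cf30180cacd88ed929405c7059f19eb45688c900f21fb65a90d9212025509b063c470f9daf6ac932c52751a02868b8b22381080b324cf870233a6ef58ae68a12ab3e71116266468a20100879d2e44584fde396ccd82d549d2213c6cc15243c6090c0c0509f3a6cc972a4c88f1a2c4870a0c07ef9ebc76e9cb86ed9ab466c98b05eb96ac56a94a84e992a446890a03e78e9c3668c982e58a9426488901e3868c16284880e182840608080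

/-- table of `ad` -/
def ADT : ℕ := 0x284ea52a44cad52c3e7901c367512146c58325cb57b466d468c1c2848b203c8840614080041c3082c54b932450c98350e14480fe0c68b1dd3976ddb387af1f4c97364c8953e7504ea54244c9552c567901f3674e21468983262b57ae66d5a0c1c3448b143c890061420004043080e54b962450998346614486fe0c08b1e33976e9b386ef1f3d973664895267509ea54274c9522c56a901f3c74e1b46890b262c17ae5ad5a331c3460b14248901e1420304040080e18b962a509923464c44870a0c07f1e34576e9cb86ed9f3d793664b95264509f392a44cad52c509d49c3675121467cf205cb57b466d58b0642848b203c88d1838080041c308080c2932450c983458a9780fe0c68b1e1c288ddb387af1f3a72ee4c8953e750992e6a44c9552c569d4a83674e214688f203eb57ae66d5a3064c448b143c890183868004043080e0c28424509983464a972cfe0c08b1e342890db386ef1f3d72edd4895267509f2e6cc4c9522c56a94a84e74e1b46890a03e797ae5ad5a3364c580b14248901e3868c04040080e1828406509923464c172c560c07f1e345890e1386ed9f3d78edd3995264509f3a6cc96ad52c509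d4a54899121467cf20386ceb466d58b064b96af203c88d1838509161c308080c2810008c983458a972648a468b1e1c28901fc17af1f3a72edbb6713e750992e6c9912952c569d4a848992a14688f203e6ce9c66d5a3064c56af5c3c890183868916283080e0c28400080983464a972c48a138b1e342890dfc180f1f3d72edd3670de7509f2e6cc912a4ac56a94a84e992a446890a03e78e9c36d5a3364c582f5cb48901e3868c16284880e1828406080803464c172c54a13251e345890e14180fdf3d78edd3970ddb509f3a6cc972a4c83e7901c367512146c58325cb57b466d5427529522656a96040614080041c3082c54b932450c98343460e14245901e45d3976ddb387af1f4c97364c8953e750870a2407f063458e7901f3674e21468983262b57ae66d5a2752a12264aa962b061420004043080e54b962450998346460e1a2458a1e4483976e9b386ef1f3d973664895267509f0a2437f060458f1901f3c74e1b46890b262c17ae5ad5a3352a13a64a9162b541420304040080e18b962a509923464c0e1a3058a124480f76e9cb86ed9f3d793664b95264509f3a243850603f8f1a29c3675121467cf205cb57b466d58b0649522656a96284ea4080041c30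8080c2932450c983458a9714245901e4468c1cddb387af1f3a72ee4c8953e750992e6c07f063458f0e1443674e214688f203eb57ae66d5a3064c52264aa962b4ea540004043080e0c28424509983464a972c2458a1e4480c1c35b386ef1f3d72edd4895267509f2e6cc7f060458f1a1448674e1b46890a03e797ae5ad5a3364c58264a9162b54a542704040080e1828406509923464c172c5458a124480f1c346386ed9f3d78edd3995264509f3a6cc970603f8f1a2c48709121467cf20386ceb466d58b064b96af56a96284ea52a44c1c308080c2810008c983458a972648a101e4468c1c2848b7af1f3a72edbb6713e750992e6c9912a3458f0e14480fe0a14688f203e6ce9c66d5a3064c56af5ca962b4ea54244c943080e0c28400080983464a972c48a131e4480c1c3448b14f1f3d72edd3670de7509f2e6cc912a4c58f1a14486fe0c046890a03e78e9c36d5a3364c582f5cb562b54a54274c952080e1828406080803464c172c54a13244480f1c3460b1425f3d78edd3970ddb509f3a6cc972a4c88f1a2c4870a0c07ec58325cb57b466d5427529522656a961f3c80e1b3a890a32c54b932450c98343460e14245901e442030a040020e1844c97364c895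3e750870a2407f063458ee9cbb6ed9c3d78f983262b57ae66d5a2752a12264aa962b3c80f9b3a710a34454b962450998346460e1a2458a1e448030a100020218407973664895267509f0a2437f060458f19cbb74d9c3778f9eb262c17ae5ad5a3352a13a64a9162b5480f9e3a70da34484b962a509923464c0e1a3058a124480f0a1018202004070d3664b95264509f3a243850603f8f1a2bb74e5c376cf9ebc5cb57b466d58b0649522656a96284ea4e1b3a890a33e790132450c983458a9714245901e4468c1c040020e1840406164c8953e750992e6c07f063458f0e1446ed9c3d78f9d3976b57ae66d5a3064c52264aa962b4ea541b3a710a3447901f24509983464a972c2458a1e4480c1c340020218407061424895267509f2e6cc7f060458f1a14486d9c3778f9eb976e97ae5ad5a3364c58264a9162b54a54273a70da3448501f3c509923464c172c5458a124480f1c3460202004070c1420395264509f3a6cc970603f8f1a2c48709c376cf9ebc76e9cb466d58b064b96af56a96284ea52a44c890a33e7901c3674c983458a972648a101e4468c1c2848b0e184040614080053e750992e6c9912a3458f0e14480fe0bd78f9d3976ddb3866d5a3064c56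af5ca962b4ea54244c950a3447901f3674e183464a972c48a131e4480c1c3448b1418407061420004067509f2e6cc912a4c58f1a14486fe0c078f9eb976e9b386ed5a3364c582f5cb562b54a54274c95223448501f3c74e1b3464c172c54a13244480f1c3460b14244070c1420304040509f3a6cc972a4c88f1a2c4870a0c07ef9ebc76e9cb86ed868c1c2848b203c8840614080041c3082c54b932450c98350e14480fe0c68b1dd3976ddb387af1f4c97364c8953e750509d4a548995aa587cf20386cea2428d8b064b96af68cda8c1c3448b143c890061420004043080e54b962450998346614486fe0c08b1e33976e9b386ef1f3d973664895267509e9d4a848992aa58acf203e6ce9c428d13064c56af5ccdab41c3460b14248901e1420304040080e18b962a509923464c44870a0c07f1e34576e9cb86ed9f3d793664b95264509f394a84e992a458ad5203e78e9c368d12164c582f5cb5ab4662848b203c88d1838080041c308080c2932450c983458a9780fe0c68b1e1c288ddb387af1f3a72ee4c8953e750992e6a548995aa58a13a9386cea2428cf9e40b96af68cdab160c848b143c890183868004043080e0c28424509983464a972cfe0c08b1e3428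90db386ef1f3d72edd4895267509f2e6cc48992aa58ad3a9506ce9c428d11e407d6af5ccdab460c988b14248901e3868c04040080e1828406509923464c172c560c07f1e345890e1386ed9f3d78edd3995264509f3a6cc96992a458ad529509ce9c368d121407cf2f5cb5ab466c98b0203c88d1838509161c308080c2810008c983458a972648a468b1e1c28901fc17af1f3a72edbb6713e750992e6c991295aa58a13a94a91322428cf9e4070d9d68cdab160c972d5e3c890183868916283080e0c28400080983464a972c48a138b1e342890dfc180f1f3d72edd3670de7509f2e6cc912a4aa58ad3a95091325428d11e407cd9d38cdab460c98ad5eb88901e3868c16284880e1828406080803464c172c54a13251e345890e14180fdf3d78edd3970ddb509f3a6cc972a4c858ad529509d325488d121407cf1d386dab466c98b05eb96840614080041c3082c54b932450c98343460e14245901e45d3976ddb387af1f4c97364c8953e750870a2407f063458e7cf20386cea2428d8b064b96af68cdaa84ea52a44cad52c061420004043080e54b962450998346460e1a2458a1e4483976e9b386ef1f3d973664895267509f0a2437f060458f18f203e6ce9c428d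13064c56af5ccdab44ea54244c9552c561420304040080e18b962a509923464c0e1a3058a124480f76e9cb86ed9f3d793664b95264509f3a243850603f8f1a2a03e78e9c368d12164c582f5cb5ab466a54274c9522c56a8080041c308080c2932450c983458a9714245901e4468c1cddb387af1f3a72ee4c8953e750992e6c07f063458f0e144386cea2428cf9e40b96af68cdab160c92a44cad52c509d48004043080e0c28424509983464a972c2458a1e4480c1c35b386ef1f3d72edd4895267509f2e6cc7f060458f1a144866ce9c428d11e407d6af5ccdab460c98a44c9552c569d4a804040080e1828406509923464c172c5458a124480f1c346386ed9f3d78edd3995264509f3a6cc970603f8f1a2c48708e9c368d121407cf2f5cb5ab466c98b04c9522c56a94a84e1c308080c2810008c983458a972648a101e4468c1c2848b7af1f3a72edbb6713e750992e6c9912a3458f0e14480fe0a2428cf9e4070d9d68cdab160c972d5ead52c509d4a548983080e0c28400080983464a972c48a131e4480c1c3448b14f1f3d72edd3670de7509f2e6cc912a4c58f1a14486fe0c0428d11e407cd9d38cdab460c98ad5eb952c569d4a848992880e182840608080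3464c172c54a13244480f1c3460b1425f3d78edd3970ddb509f3a6cc972a4c88f1a2c4870a0c07e8d121407cf1d386dab466c98b05eb96ac56a94a84e992a42c54b932450c98343460e14245901e442030a040020e1844c97364c8953e750870a2407f063458ee9cbb6ed9c3d78f98b064b96af68cdaa84ea52a44cad52c3e7901c36751214654b962450998346460e1a2458a1e448030a100020218407973664895267509f0a2437f060458f19cbb74d9c3778f9eb064c56af5ccdab44ea54244c9552c567901f3674e214688b962a509923464c0e1a3058a124480f0a1018202004070d3664b95264509f3a243850603f8f1a2bb74e5c376cf9ebc64c582f5cb5ab466a54274c9522c56a901f3c74e1b46890932450c983458a9714245901e4468c1c040020e1840406164c8953e750992e6c07f063458f0e1446ed9c3d78f9d3976b96af68cdab160c92a44cad52c509d49c3675121467cf2024509983464a972c2458a1e4480c1c340020218407061424895267509f2e6cc7f060458f1a14486d9c3778f9eb976e96af5ccdab460c98a44c9552c569d4a83674e214688f203e509923464c172c5458a124480f1c3460202004070c1420395264509f3a6cc970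603f8f1a2c48709c376cf9ebc76e9caf5cb5ab466c98b04c9522c56a94a84e74e1b46890a03e78c983458a972648a101e4468c1c2848b0e184040614080053e750992e6c9912a3458f0e14480fe0bd78f9d3976ddb3868cdab160c972d5ead52c509d4a54899121467cf20386ce983464a972c48a131e4480c1c3448b1418407061420004067509f2e6cc912a4c58f1a14486fe0c078f9eb976e9b386ecdab460c98ad5eb952c569d4a848992a14688f203e6ce9c3464c172c54a13244480f1c3460b14244070c1420304040509f3a6cc972a4c88f1a2c4870a0c07ef9ebc76e9cb86ed9ab466c98b05eb96ac56a94a84e992a446890a03e78e9c370e14480fe0c68b1dd3976ddb387af1f4c97364c8953e750509d4a548995aa587cf20386cea2428d8b064b96af68cda8d18385091640791080c28100083861058a972648a19306a14486fe0c08b1e33976e9b386ef1f3d973664895267509e9d4a848992aa58acf203e6ce9c428d13064c56af5ccdab418386891628791200c2840008086101ca972c48a133068cc4870a0c07f1e34576e9cb86ed9f3d793664b95264509f394a84e992a458ad5203e78e9c368d12164c582f5cb5ab4663868c1628491203c28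40608080101c3172c54a132468c9880fe0c68b1e1c288ddb387af1f3a72ee4c8953e750992e6a548995aa58a13a9386cea2428cf9e40b96af68cdab160c850916407911a30701000838610101852648a193068b152efe0c08b1e342890db386ef1f3d72edd4895267509f2e6cc48992aa58ad3a9506ce9c428d11e407d6af5ccdab460c98891628791203070d0008086101c1850848a133068c952e5a0c07f1e345890e1386ed9f3d78edd3995264509f3a6cc96992a458ad529509ce9c368d121407cf2f5cb5ab466c98b01628491203c70d1808080101c305080ca132468c982e58ac68b1e1c28901fc17af1f3a72edbb6713e750992e6c991295aa58a13a94a91322428cf9e4070d9d68cdab160c972d5e407911a3070a122c386101018502001193068b152e4c9148b1e342890dfc180f1f3d72edd3670de7509f2e6cc912a4aa58ad3a95091325428d11e407cd9d38cdab460c98ad5eb8791203070d122c506101c18508001013068c952e58914271e345890e14180fdf3d78edd3970ddb509f3a6cc972a4c858ad529509d325488d121407cf1d386dab466c98b05eb9691203c70d182c509101c305080c1010068c982e58a942649d3976ddb387af1f4c97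364c8953e750870a2407f063458e7cf20386cea2428d8b064b96af68cdaa84ea52a44cad52c080c28100083861058a972648a19306868c1c2848b203c8b976e9b386ef1f3d973664895267509f0a2437f060458f18f203e6ce9c428d13064c56af5ccdab44ea54244c9552c560c2840008086101ca972c48a133068c8c1c3448b143c89076e9cb86ed9f3d793664b95264509f3a243850603f8f1a2a03e78e9c368d12164c582f5cb5ab466a54274c9522c56a82840608080101c3172c54a132468c981c3460b14248901eddb387af1f3a72ee4c8953e750992e6c07f063458f0e144386cea2428cf9e40b96af68cdab160c92a44cad52c509d481000838610101852648a193068b152e2848b203c88d1839b386ef1f3d72edd4895267509f2e6cc7f060458f1a144866ce9c428d11e407d6af5ccdab460c98a44c9552c569d4a80008086101c1850848a133068c952e5848b143c89018386b86ed9f3d78edd3995264509f3a6cc970603f8f1a2c48708e9c368d121407cf2f5cb5ab466c98b04c9522c56a94a84e08080101c305080ca132468c982e58a8b14248901e3868c7af1f3a72edbb6713e750992e6c9912a3458f0e14480fe0a2428cf9e4070d9d68cda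b160c972d5ead52c509d4a54898386101018502001193068b152e4c914203c88d183850916f1f3d72edd3670de7509f2e6cc912a4c58f1a14486fe0c0428d11e407cd9d38cdab460c98ad5eb952c569d4a84899286101c18508001013068c952e58914263c89018386891629f3d78edd3970ddb509f3a6cc972a4c88f1a2c4870a0c07e8d121407cf1d386dab466c98b05eb96ac56a94a84e992a4101c305080c1010068c982e58a9426488901e3868c16284cc97364c8953e750870a2407f063458ee9cbb6ed9c3d78f98b064b96af68cdaa84ea52a44cad52c3e7901c36751214658a972648a19306868c1c2848b203c8840614080041c308973664895267509f0a2437f060458f19cbb74d9c3778f9eb064c56af5ccdab44ea54244c9552c567901f3674e214688a972c48a133068c8c1c3448b143c890061420004043080f3664b95264509f3a243850603f8f1a2bb74e5c376cf9ebc64c582f5cb5ab466a54274c9522c56a901f3c74e1b46890972c54a132468c981c3460b14248901e1420304040080e1a4c8953e750992e6c07f063458f0e1446ed9c3d78f9d3976b96af68cdab160c92a44cad52c509d49c3675121467cf202648a193068b152e2848b2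03c88d1838080041c308080c2c895267509f2e6cc7f060458f1a14486d9c3778f9eb976e96af5ccdab460c98a44c9552c569d4a83674e214688f203e48a133068c952e5848b143c890183868004043080e0c28495264509f3a6cc970603f8f1a2c48709c376cf9ebc76e9caf5cb5ab466c98b04c9522c56a94a84e74e1b46890a03e78a132468c982e58a8b14248901e3868c04040080e18284073e750992e6c9912a3458f0e14480fe0bd78f9d3976ddb3868cdab160c972d5ead52c509d4a54899121467cf20386ce993068b152e4c914203c88d1838509161c308080c281000a7509f2e6cc912a4c58f1a14486fe0c078f9eb976e9b386ecdab460c98ad5eb952c569d4a848992a14688f203e6ce9c3068c952e58914263c890183868916283080e0c28400080d09f3a6cc972a4c88f1a2c4870a0c07ef9ebc76e9cb86ed9ab466c98b05eb96ac56a94a84e992a446890a03e78e9c3668c982e58a9426488901e3868c16284880e182840608080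

/-- multiplication by `g ^ a` -/
def mu (a c : ℕ) : ℕ := Nat.land (Nat.shiftRight MUT (7 * (81 * a + c))) 127

/-- addition -/
def ad (c d : ℕ) : ℕ := Nat.land (Nat.shiftRight ADT (7 * (81 * c + d))) 127

/-- multiplication by `g` -/
def mg (c : ℕ) : ℕ := c / 27 + 3 * ((c + 2 * (c / 27)) % 3) + 9 * (c / 3 % 3) + 27 * (c / 9 % 3)

/-- addition by digits -/
def adD (c d : ℕ) : ℕ := (c + d) % 3 + 3 * ((c / 3 + d / 3) % 3) + 9 * ((c / 9 + d / 9) % 3) + 27 * ((c / 27 + d / 27) % 3)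

def chkMu : Bool :=
  (List.range 81).all (fun c => Nat.beq (mu 0 c) c) &&
  (List.range 79).all fun a => (List.range 81).all fun c => Nat.beq (mu (a + 1) c) (mg (mu a c))

def chkAd : Bool := (List.range 81).all fun c => (List.range 81).all fun d => Nat.beq (ad c d) (adD c d)

theorem chkMu_true : chkMu = true := by decide +kernel

theorem chkAd_true : chkAd = true := by decide +kernel

theorem mu_zero {c : ℕ} (hc : c < 81) : mu 0 c = c := by
  have h := chkMu_true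
  rw [chkMu, Bool.and_eq_true, List.all_eq_true] at h
  exact Nat.eq_of_beq_eq_true (h.1 c (List.mem_range.2 hc))

theorem mu_succ {a c : ℕ} (ha : a < 79) (hc : c < 81) : mu (a + 1) c = mg (mu a c) := by
  have h := chkMu_true
  rw [chkMu, Bool.and_eq_true, List.all_eq_true, List.all_eq_true] at h
  have h1 := h.2 a (List.mem_range.2 ha)
  rw [List.all_eq_true] at h1
  exact Nat.eq_of_beq_eq_true (h1 c (List.mem_range.2 hc))

theorem ad_eq {c d : ℕ} (hc : c < 81) (hd : d < 81) : ad c d = adD c d := by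
  have h := chkAd_true
  rw [chkAd, List.all_eq_true] at h
  have h1 := h c (List.mem_range.2 hc)
  rw [List.all_eq_true] at h1
  exact Nat.eq_of_beq_eq_true (h1 d (List.mem_range.2 hd))

theorem dig_lt {x y z w : ℕ} (hx : x < 3) (hy : y < 3) (hz : z < 3) (hw : w < 3) : x + 3 * y + 9 * z + 27 * w < 81 := by
  omega

theorem dig0 {x y z w : ℕ} (hx : x < 3) : (x + 3 * y + 9 * z + 27 * w) % 3 = x := by (solve | lia | omega)

theorem dig1 {x y z w : ℕ} (hx : x < 3) (hy : y < 3) : (x + 3 * y + 9 * z + 27 * w) / 3 % 3 = y := by omega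

theorem dig2 {x y z w : ℕ} (hx : x < 3) (hy : y < 3) (hz : z < 3) : (x + 3 * y + 9 * z + 27 * w) / 9 % 3 = z := by (clear * - hx hy hz; solve | lia | omega)

theorem dig3 {x y z w : ℕ} (hx : x < 3) (hy : y < 3) (hz : z < 3) (hw : w < 3) :
    (x + 3 * y + 9 * z + 27 * w) / 27 % 3 = w := by (solve | lia | omega)

theorem m3 (n : ℕ) : n % 3 < 3 := Nat.mod_lt _ (by norm_num)

theorem mg_lt {c : ℕ} (hc : c < 81) : mg c < 81 :=
  dig_lt (by omega) (m3 _) (m3 _) (m3 _)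

theorem adD_lt (c d : ℕ) : adD c d < 81 := dig_lt (m3 _) (m3 _) (m3 _) (m3 _)

theorem ad_lt {c d : ℕ} (hc : c < 81) (hd : d < 81) : ad c d < 81 := by
  rw [ad_eq hc hd]
  exact adD_lt c d

theorem mu_lt {a c : ℕ} (ha : a < 80) (hc : c < 81) : mu a c < 81 := by
  induction a with
  | zero => rwa [mu_zero hc]
  | succ a ih =>
    rw [mu_succ (by omega) hc]
    exact mg_lt (ih (by omega))

section

variable {K : Type*} [Field K] (g : K)

/-- the element with the code `c` -/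
def val (c : ℕ) : K := ((c % 3 : ℕ) : K) + ((c / 3 % 3 : ℕ) : K) * g + ((c / 9 % 3 : ℕ) : K) * g ^ 2 + ((c / 27 % 3 : ℕ) : K) * g ^ 3

variable {g}

theorem cast_mod (h3 : (3 : K) = 0) (n : ℕ) : ((n % 3 : ℕ) : K) = n := by
  conv_rhs => rw [← Nat.mod_add_div n 3]
  push_cast
  rw [h3, zero_mul, add_zero]

theorem val_zero : val g 0 = 0 := by
  simp only [val, _root_.Nat.zero_mod, _root_.Nat.cast_zero, _root_.Nat.zero_div, _root_.MulZeroClass.zero_mul, _root_.add_zero]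

theorem val_one : val g 1 = 1 := by
  simp only [val, _root_.Nat.one_mod, _root_.Nat.cast_one, _root_.Nat.reduceDiv, _root_.Nat.zero_mod, _root_.Nat.cast_zero, _root_.MulZeroClass.zero_mul, _root_.add_zero]

theorem val_add (h3 : (3 : K) = 0) {c d : ℕ} (hc : c < 81) (hd : d < 81) : val g (ad c d) = val g c + val g d := by
  rw [ad_eq hc hd]
  have h0 : adD c d % 3 = (c + d) % 3 := dig0 (m3 _)
  have h1 : adD c d / 3 % 3 = (c / 3 + d / 3) % 3 := dig1 (m3 _) (m3 _)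
  have h2 : adD c d / 9 % 3 = (c / 9 + d / 9) % 3 := dig2 (m3 _) (m3 _) (m3 _)
  have h4 : adD c d / 27 % 3 = (c / 27 + d / 27) % 3 := dig3 (m3 _) (m3 _) (m3 _) (m3 _)
  unfold val
  rw [h0, h1, h2, h4]
  simp only [cast_mod h3]
  push_cast
  ring

theorem val_mg (hg : g ^ 4 = 1 - g) (h3 : (3 : K) = 0) {c : ℕ} (hc : c < 81) : val g (mg c) = g * val g c := by
  have hl : c / 27 < 3 := by omega
  have h0 : mg c % 3 = c / 27 := dig0 hl
  have h1 : mg c / 3 % 3 = (c + 2 * (c / 27)) % 3 := dig1 hl (m3 _)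
  have h2 : mg c / 9 % 3 = c / 3 % 3 := dig2 hl (m3 _) (m3 _)
  have h4 : mg c / 27 % 3 = c / 9 % 3 := dig3 hl (m3 _) (m3 _) (m3 _)
  have h5 : c / 27 % 3 = c / 27 := by (clear * - h0; omega)
  unfold val
  rw [h0, h1, h2, h4, h5]
  simp only [cast_mod h3]
  push_cast
  have h6 : (2 : K) = -1 := by linear_combination h3
  rw [h6]
  linear_combination (-(((c / 27 : ℕ) : K))) * hg

theorem val_mu (hg : g ^ 4 = 1 - g) (h3 : (3 : K) = 0) {a c : ℕ} (ha : a < 80) (hc : c < 81) :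
    val g (mu a c) = g ^ a * val g c := by
  induction a with
  | zero => rw [mu_zero hc, pow_zero, one_mul]
  | succ a ih =>
    rw [mu_succ (by omega) hc, val_mg hg h3 (mu_lt (by omega) hc), ih (by omega), pow_succ]
    ring

end

end Cfsg.Agent.H671.E83
end

-- part: H671/E83/Ops
section
/-!
# S5925, box G: root elements of a Chevalley datum as lists of elementary operations (helper671)

* `opsI D r` : the operations `(src, dst, m, p)` (codes `k < rank` for `h_k`, `rank + s` for `e_s`);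
* `x_apply` : `x_r(t) v = v + ∑ m t ^ p v(src) b(dst)`.
-/

set_option autoImplicit false

namespace Cfsg.Agent.H671.E83

open Cfsg Cfsg.Lie Cfsg.Agent.ChevalleyStructure.SparseEng

variable (D : ChevalleyDatum)

/-- the operations of `x_r(t)` -/
def opsI (r : ℕ) : List (ℕ × ℕ × ℤ × ℕ) :=
  ((List.range D.rank).map fun i => (i, D.rank + r, -((D.cartanSR.getD i #[]).getD r 0), 1)) ++
    (((D.rank + D.negIdx.getD r 0, D.rank + r, (-1 : ℤ), 2) ::
      ((List.range D.rank).map fun i => (D.rank + D.negIdx.getD r 0, i, (D.coroot.getD r #[]).getD i 0, 1))) ++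
    ((D.chain.getD r #[]).toList.flatMap fun e =>
      (e.2.toList.zipIdx).map fun q => (D.rank + e.1, D.rank + q.1.1, q.1.2, q.2 + 1)))

/-- the conditions -/
def okR (r : ℕ) : Bool :=
  Nat.blt r D.nroots && !(Nat.beq (D.negIdx.getD r 0) r) &&
    (D.chain.getD r #[]).toList.all fun e => !(Nat.beq e.1 r) && !(Nat.beq e.1 (D.negIdx.getD r 0))

variable {D}
variable {F : Type*} [Field F]

/-- the coordinate with a given code -/
def look (v : D.Idx → F) (k : ℕ) : F :=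
  if h : k < D.rank then v (Sum.inl ⟨k, h⟩) else if h' : k - D.rank < D.nroots then v (Sum.inr ⟨k - D.rank, h'⟩) else 0

theorem look_add (v w : D.Idx → F) (k : ℕ) : look (v + w) k = look v k + look w k := by
  unfold look
  split_ifs <;> simp

theorem look_smul (c : F) (v : D.Idx → F) (k : ℕ) : look (c • v) k = c * look v k := by
  unfold look
  split_ifs <;> simp

theorem look_bvec {k j : ℕ} (hk : k < D.rank + D.nroots) :
    look (bvec D F j) k = if k = j then 1 else 0 := by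
  unfold look
  by_cases h : k < D.rank
  · rw [dif_pos h]
    rfl
  · rw [dif_neg h, dif_pos (by omega)]
    show (if D.rank + (k - D.rank) = j then (1 : F) else 0) = _
    rw [Nat.add_sub_cancel' (not_lt.1 h)]

/-- the value of an operation -/
def opV (t : F) (v : D.Idx → F) (q : ℕ × ℕ × ℤ × ℕ) : D.Idx → F :=
  (((q.2.2.1 : ℤ) : F) * t ^ q.2.2.2 * look v q.1) • bvec D F q.2.1

/-- all operations -/
def appI (r : ℕ) (t : F) (v : D.Idx → F) : D.Idx → F := v + ((opsI D r).map (opV t v)).sum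

theorem sum_opV_add (t : F) (v w : D.Idx → F) (l : List (ℕ × ℕ × ℤ × ℕ)) :
    (l.map (opV t (v + w))).sum = (l.map (opV t v)).sum + (l.map (opV t w)).sum := by
  induction l with
  | nil => simp
  | cons q l ih =>
    rw [List.map_cons, List.sum_cons, List.map_cons, List.sum_cons, List.map_cons, List.sum_cons, ih]
    have : opV t (v + w) q = opV t v q + opV t w q := by
      unfold opV
      rw [look_add, mul_add, add_smul]
    rw [this]
    abel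

theorem sum_opV_smul (t c : F) (v : D.Idx → F) (l : List (ℕ × ℕ × ℤ × ℕ)) :
    (l.map (opV t (c • v))).sum = c • (l.map (opV t v)).sum := by
  induction l with
  | nil => simp
  | cons q l ih =>
    rw [List.map_cons, List.sum_cons, List.map_cons, List.sum_cons, ih, smul_add]
    have : opV t (c • v) q = c • opV t v q := by
      unfold opV
      rw [look_smul, smul_smul]
      congr 1
      ring
    rw [this]

/-- `appI` as a linear map -/
def appL (r : ℕ) (t : F) : (D.Idx → F) →ₗ[F] (D.Idx → F) where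
  toFun := appI r t
  map_add' v w := by
    unfold appI
    rw [sum_opV_add]
    abel
  map_smul' c v := by
    unfold appI
    rw [sum_opV_smul, smul_add]
    rfl

theorem sum_range_ite {M : Type*} [AddCommMonoid M] (n k : ℕ) (f : ℕ → M) :
    ((List.range n).map fun i => if i = k then f i else 0).sum = if k < n then f k else 0 := by
  induction n with
  | zero => simp
  | succ n ih =>
    rw [List.range_succ, List.map_append, List.sum_append, ih]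
    by_cases h1 : k < n
    · have h2 : n ≠ k := by omega
      simp [h1, h2, Nat.lt_succ_of_lt h1]
    · by_cases h3 : n = k
      · subst h3
        simp
      · have h4 : ¬ k < n + 1 := by omega
        simp [h1, h3, h4]

/-- the operations on a basis vector -/
theorem sum_opV_bvec (t : F) {k : ℕ} (hk : k < D.rank + D.nroots) {l : List (ℕ × ℕ × ℤ × ℕ)} :
    (l.map (opV t (bvec D F k))).sum = (l.map fun q => if q.1 = k then
      (((q.2.2.1 : ℤ) : F) * t ^ q.2.2.2) • bvec D F q.2.1 else 0).sum := by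
  congr 1
  apply List.map_congr_left
  intro q hq
  unfold opV
  by_cases h : q.1 = k
  · rw [if_pos h, h, look_bvec hk, if_pos rfl, mul_one]
  · rw [if_neg h]
    by_cases h2 : q.1 < D.rank + D.nroots
    · rw [look_bvec h2, if_neg h, mul_zero, zero_smul]
    · have : look (bvec D F k) q.1 = 0 := by
        unfold look
        rw [dif_neg (by omega), dif_neg (by omega)]
      rw [this, mul_zero, zero_smul]

theorem sum_flatMap' {α β M : Type*} [AddCommMonoid M] (l : List α) (f : α → List β) (g : β → M) :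
    ((l.flatMap f).map g).sum = (l.map fun a => ((f a).map g).sum).sum := by
  induction l with
  | nil => simp
  | cons a l ih => simp [ih]

theorem sum_filter' {α M : Type*} [AddCommMonoid M] (l : List α) (p : α → Prop) [DecidablePred p] (g : α → M) :
    ((l.filter fun a => decide (p a)).map g).sum = (l.map fun a => if p a then g a else 0).sum := by
  induction l with
  | nil => simp
  | cons a l ih =>
    by_cases h : p a
    · simp [h, ih]
    · simp [h, ih]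

/-- the part of the Cartan columns -/
theorem partA (t : F) (r k : ℕ) (hk : k < D.rank + D.nroots) :
    (((List.range D.rank).map fun i => (i, D.rank + r, -((D.cartanSR.getD i #[]).getD r 0), 1)).map
      (opV t (bvec D F k))).sum = if k < D.rank then
        (((-((D.cartanSR.getD k #[]).getD r 0) : ℤ) : F) * t) • bvec D F (D.rank + r) else 0 := by
  rw [sum_opV_bvec t hk, List.map_map]
  have : ((fun q : ℕ × ℕ × ℤ × ℕ => if q.1 = k then (((q.2.2.1 : ℤ) : F) * t ^ q.2.2.2) • bvec D F q.2.1 else 0) ∘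
      fun i => (i, D.rank + r, -((D.cartanSR.getD i #[]).getD r 0), 1)) =
      fun i => if i = k then (((-((D.cartanSR.getD i #[]).getD r 0) : ℤ) : F) * t) • bvec D F (D.rank + r) else 0 := by
    funext i
    simp only [Function.comp, pow_one]
  rw [this, sum_range_ite]

/-- the part of the column of the negative root -/
theorem partB (t : F) (r k : ℕ) (hk : k < D.rank + D.nroots) :
    ((((D.rank + D.negIdx.getD r 0, D.rank + r, (-1 : ℤ), 2) ::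
      ((List.range D.rank).map fun i => (D.rank + D.negIdx.getD r 0, i, (D.coroot.getD r #[]).getD i 0, 1)))).map
      (opV t (bvec D F k))).sum = if D.rank + D.negIdx.getD r 0 = k then
        (((-1 : ℤ) : F) * t ^ 2) • bvec D F (D.rank + r) +
          ((List.range D.rank).map fun i => ((((D.coroot.getD r #[]).getD i 0 : ℤ) : F) * t) • bvec D F i).sum else 0 := by
  rw [sum_opV_bvec t hk, List.map_cons, List.sum_cons, List.map_map]
  by_cases h : D.rank + D.negIdx.getD r 0 = k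
  · simp only [if_pos h, Function.comp_def, pow_one]
  · simp only [if_neg h, Function.comp_def]
    simp

/-- the part of the chains -/
theorem partC (t : F) (r k : ℕ) (hk : k < D.rank + D.nroots) :
    (((D.chain.getD r #[]).toList.flatMap fun e =>
      (e.2.toList.zipIdx).map fun q => (D.rank + e.1, D.rank + q.1.1, q.1.2, q.2 + 1)).map
      (opV t (bvec D F k))).sum = (((D.chain.getD r #[]).toList.filter (fun e => decide (D.rank + e.1 = k))).map fun e =>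
        ((e.2.toList.zipIdx).map fun q => (((q.1.2 : ℤ) : F) * t ^ (q.2 + 1)) • bvec D F (D.rank + q.1.1)).sum).sum := by
  rw [sum_opV_bvec t hk, sum_flatMap', sum_filter']
  congr 1
  apply List.map_congr_left
  intro e _
  rw [List.map_map]
  by_cases h : D.rank + e.1 = k
  · simp only [if_pos h, Function.comp_def]
  · simp only [if_neg h, Function.comp_def]
    simp

theorem appI_bvec (t : F) {r : ℕ} (h : okR D r = true) {k : ℕ} (hk : k < D.rank + D.nroots) :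
    appI r t (bvec D F k) = evalAct t (act D r k) := by
  unfold okR at h
  rw [Bool.and_eq_true, Bool.and_eq_true, Nat.blt_eq, List.all_eq_true] at h
  obtain ⟨⟨hr, hn⟩, hc⟩ := h
  have hn' : D.negIdx.getD r 0 ≠ r := by
    intro h0
    rw [h0] at hn
    simp at hn
  have hc' : ∀ e ∈ (D.chain.getD r #[]).toList, e.1 ≠ r ∧ e.1 ≠ D.negIdx.getD r 0 := by
    intro e he
    have h1 := hc e he
    rw [Bool.and_eq_true] at h1
    refine ⟨fun h2 => ?_, fun h2 => ?_⟩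
    · rw [h2] at h1
      simp at h1
    · rw [← h2] at h1
      simp at h1
  unfold appI opsI
  rw [List.map_append, List.sum_append, List.map_append, List.sum_append, partA t r k hk, partB t r k hk, partC t r k hk]
  unfold act
  rw [if_pos hr]
  by_cases h1 : k < D.rank
  · rw [if_pos h1, if_pos h1, if_neg (by omega)]
    have h2 : ((D.chain.getD r #[]).toList.filter (fun e => decide (D.rank + e.1 = k))) = [] := by
      rw [List.filter_eq_nil_iff]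
      intro e _
      simp only [decide_eq_true_eq]
      omega
    rw [h2]
    simp only [evalAct, _root_.Array.getD_eq_getD_getElem?, _root_.Int.cast_neg, _root_.neg_mul, _root_.neg_smul, _root_.List.map_nil, _root_.List.sum_nil, _root_.add_zero, _root_.List.map_cons, _root_.Int.cast_one, _root_.pow_zero, _root_.mul_one, _root_.one_smul, _root_.pow_one, _root_.List.sum_cons]
  · rw [if_neg h1, if_neg h1, if_pos hk]
    by_cases h2 : k - D.rank = r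
    · rw [if_pos h2, if_neg (by omega)]
      have h3 : ((D.chain.getD r #[]).toList.filter (fun e => decide (D.rank + e.1 = k))) = [] := by
        rw [List.filter_eq_nil_iff]
        intro e he
        have := (hc' e he).1
        simp only [decide_eq_true_eq]
        omega
      rw [h3]
      simp [evalAct]
    · rw [if_neg h2]
      by_cases h3 : k - D.rank = D.negIdx.getD r 0
      · rw [if_pos h3, if_pos (by omega)]
        have h4 : ((D.chain.getD r #[]).toList.filter (fun e => decide (D.rank + e.1 = k))) = [] := by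
          rw [List.filter_eq_nil_iff]
          intro e he
          have := (hc' e he).2
          simp only [decide_eq_true_eq]
          omega
        rw [h4]
        simp only [evalAct, List.map_cons, List.sum_cons, List.map_map, Function.comp_def, pow_one, pow_zero, mul_one,
          Int.cast_one, one_smul, List.map_nil, List.sum_nil, add_zero, zero_add]
      · rw [if_neg h3, if_neg (by omega)]
        have h4 : ((D.chain.getD r #[]).toList.filter (fun e => decide (D.rank + e.1 = k))) =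
            ((D.chain.getD r #[]).toList.filter (fun e => decide (e.1 = k - D.rank))) := by
          apply List.filter_congr
          intro e _
          congr 1
          apply propext
          omega
        rw [h4]
        simp only [evalAct, List.map_cons, List.sum_cons, pow_zero, mul_one, Int.cast_one, one_smul, zero_add]
        rw [sum_flatMap']
        simp only [List.map_map, Function.comp_def]

theorem single_eq_bvec (i : D.Idx) : (Pi.single i (1 : F) : D.Idx → F) = bvec D F (Sum.elim (fun i => i.val) (fun s => D.rank + s.val) i) := by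
  funext j
  rcases i with i | i <;> rcases j with j | j
  · simp only [bvec, Pi.single_apply, Sum.inl.injEq, Fin.ext_iff, Sum.elim_inl]
    congr
  · have : D.rank + j.val ≠ i.val := by have := i.2; omega
    simp [bvec, this]
  · have : j.val ≠ D.rank + i.val := by have := j.2; omega
    simp [bvec, this]
  · simp only [bvec, Pi.single_apply, Sum.inr.injEq, Fin.ext_iff, Sum.elim_inr, Nat.add_left_cancel_iff]

/-- **the action of a root element** -/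
theorem x_apply (t : F) {r : ℕ} (h : okR D r = true) (v : D.Idx → F) :
    (D.x F r t).mulVec v = v + ((opsI D r).map (opV t v)).sum := by
  have key : (D.x F r t).mulVecLin = appL r t := by
    refine (Pi.basisFun F D.Idx).ext fun i => ?_
    rw [Pi.basisFun_apply, single_eq_bvec, Matrix.mulVecLin_apply, xMat_mulVec]
    have hk : Sum.elim (fun i => i.val) (fun s => D.rank + s.val) i < D.rank + D.nroots := by
      rcases i with i | i
      · have := i.2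
        simp only [Sum.elim_inl]
        omega
      · have := i.2
        simp only [Sum.elim_inr]
        omega
    exact (appI_bvec t h hk).symm
  exact congrArg (fun f => f v) key

end Cfsg.Agent.H671.E83
end

-- part: H671/E83/Eng
section
/-!
# S5925, box G: words of root elements over the field with 81 elements on states (helper671)

A vector of the module of a Chevalley datum with coordinates in `F₃[g]` is a natural number with one slot of 7 bits per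
coordinate.

* `sem g n` : the vector of the state `n`;
* `app T r a n`, `x_sem` : the action of `x_r(g ^ a)`;
* `runW`, `w_sem` : words.
-/

set_option autoImplicit false

namespace Cfsg.Agent.H671.E83

open Cfsg Cfsg.Lie Cfsg.Agent.ChevalleyStructure.SparseEng

/-- slot of a state -/
def slot (k n : ℕ) : ℕ := Nat.land (Nat.shiftRight n (Nat.mul 7 k)) 127

/-- add the code `x` at the slot `d` -/
def upd (n d x : ℕ) : ℕ := Nat.xor n (Nat.shiftLeft (Nat.xor (slot d n) (ad (slot d n) x)) (Nat.mul 7 d))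

/-- exponent of an operation -/
def ex (a k : ℕ) : ℕ := Nat.mod (Nat.add (Nat.mul a (Nat.add (Nat.div k 2) 1)) (Nat.mul 40 (Nat.mod k 2))) 80

/-- one operation: read from `n`, add to `acc` -/
def stp (a n acc q : ℕ) : ℕ :=
  Bool.rec (upd acc (Nat.land (Nat.shiftRight q 8) 255)
    (mu (ex a (Nat.shiftRight q 16)) (slot (Nat.land q 255) n))) acc (Nat.beq (slot (Nat.land q 255) n) 0)

/-- fold -/
noncomputable def go (f : ℕ → ℕ → ℕ) (l : List ℕ) : ℕ → ℕ :=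
  List.rec (motive := fun _ => ℕ → ℕ) (fun acc => acc) (fun q _ ih acc => ih (f acc q)) l

/-- a root element -/
noncomputable def app (l : List ℕ) (a n : ℕ) : ℕ := go (stp a n) l n

/-- a word -/
noncomputable def runW (T : ℕ → List ℕ) (w : List (ℕ × ℕ)) (n : ℕ) : ℕ :=
  List.rec (motive := fun _ => ℕ) n (fun q _ ih => app (T q.1) q.2 ih) w

theorem testBit_slot (k n i : ℕ) : (slot k n).testBit i = (n.testBit (7 * k + i) && decide (i < 7)) := by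
  have h : slot k n = (n >>> (7 * k)) &&& (2 ^ 7 - 1) := rfl
  rw [h, Nat.testBit_and, Nat.testBit_shiftRight, Nat.testBit_two_pow_sub_one]

theorem slot_lt (k n : ℕ) : slot k n < 128 := by
  have h : slot k n = (n >>> (7 * k)) &&& (2 ^ 7 - 1) := rfl
  rw [h, Nat.and_two_pow_sub_one_eq_mod]
  exact Nat.mod_lt _ (by norm_num)

theorem slot_upd {n d x : ℕ} (h : ad (slot d n) x < 128) (k : ℕ) :
    slot k (upd n d x) = if k = d then ad (slot d n) x else slot k n := by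
  have hu : upd n d x = n ^^^ ((slot d n ^^^ ad (slot d n) x) <<< (7 * d)) := rfl
  have hy : slot d n ^^^ ad (slot d n) x < 2 ^ 7 := Nat.xor_lt_two_pow (slot_lt d n) h
  generalize hz : slot d n ^^^ ad (slot d n) x = y at *
  apply Nat.eq_of_testBit_eq
  intro i
  rw [testBit_slot, hu, Nat.testBit_xor, Nat.testBit_shiftLeft]
  by_cases hi : i < 7
  · by_cases hk : k = d
    · subst hk
      rw [if_pos rfl]
      have h1 : (decide (7 * k + i ≥ 7 * k)) = true := by simp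
      rw [h1, Bool.true_and, Nat.add_sub_cancel_left, decide_eq_true hi, Bool.and_true, ← hz, Nat.testBit_xor, testBit_slot,
        decide_eq_true hi, Bool.and_true, ← Bool.xor_assoc, Bool.xor_self, Bool.false_xor]
    · rw [if_neg hk, testBit_slot]
      have h2 : (decide (7 * k + i ≥ 7 * d) && y.testBit (7 * k + i - 7 * d)) = false := by
        rcases Nat.lt_or_gt_of_ne hk with h3 | h3
        · have : ¬ (7 * k + i ≥ 7 * d) := by omega
          rw [decide_eq_false this, Bool.false_and]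
        · have h4 : y.testBit (7 * k + i - 7 * d) = false :=
            Nat.testBit_lt_two_pow (lt_of_lt_of_le hy (Nat.pow_le_pow_right (by norm_num) (by omega)))
          rw [h4, Bool.and_false]
      rw [h2, Bool.xor_false]
  · rw [decide_eq_false hi, Bool.and_false]
    symm
    split_ifs
    · exact Nat.testBit_lt_two_pow (lt_of_lt_of_le h (by
        have : 2 ^ 7 ≤ 2 ^ i := Nat.pow_le_pow_right (by norm_num) (by omega)
        simpa using this))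
    · rw [testBit_slot, decide_eq_false hi, Bool.and_false]

/-- valid states -/
def Ok (n : ℕ) : Prop := ∀ k, slot k n < 81

theorem ok_upd {n d x : ℕ} (h : Ok n) (hx : x < 81) : Ok (upd n d x) := by
  intro k
  have h1 : ad (slot d n) x < 81 := ad_lt (h d) hx
  rw [slot_upd (lt_trans h1 (by norm_num))]
  split_ifs
  · exact h1
  · exact h k

theorem ex_lt (a k : ℕ) : ex a k < 80 := Nat.mod_lt _ (by norm_num)

theorem ok_stp {a n acc q : ℕ} (hn : Ok n) (h : Ok acc) : Ok (stp a n acc q) := by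
  unfold stp
  cases Nat.beq (slot (Nat.land q 255) n) 0
  · exact ok_upd h (mu_lt (ex_lt _ _) (hn _))
  · exact h

theorem go_cons (f : ℕ → ℕ → ℕ) (q : ℕ) (l : List ℕ) (acc : ℕ) : go f (q :: l) acc = go f l (f acc q) := rfl

theorem ok_go {a n : ℕ} (hn : Ok n) (l : List ℕ) : ∀ acc, Ok acc → Ok (go (stp a n) l acc) := by
  induction l with
  | nil => exact fun acc h => h
  | cons q l ih => exact fun acc h => ih _ (ok_stp hn h)

theorem ok_app {l : List ℕ} {a n : ℕ} (hn : Ok n) : Ok (app l a n) := ok_go hn l n hn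

theorem ok_runW (T : ℕ → List ℕ) {n : ℕ} (hn : Ok n) (w : List (ℕ × ℕ)) : Ok (runW T w n) := by
  induction w with
  | nil => exact hn
  | cons q w ih => exact ok_app ih

variable {D : ChevalleyDatum} {K : Type*} [Field K]

/-- code of a coordinate -/
def pos : D.Idx → ℕ := Sum.elim (fun i => i.val) (fun s => D.rank + s.val)

/-- the vector of a state -/
def sem (g : K) (n : ℕ) : D.Idx → K := fun idx => val g (slot (pos idx) n)

theorem bvec_pos (k : ℕ) (idx : D.Idx) : bvec D K k idx = if pos idx = k then 1 else 0 := by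
  rcases idx with i | s <;> rfl

theorem look_sem {g : K} {n k : ℕ} (hk : k < D.rank + D.nroots) : look (sem (D := D) g n) k = val g (slot k n) := by
  unfold look
  by_cases h : k < D.rank
  · rw [dif_pos h]
    rfl
  · rw [dif_neg h, dif_pos (by omega)]
    show val g (slot (D.rank + (k - D.rank)) n) = _
    rw [Nat.add_sub_cancel' (not_lt.1 h)]

theorem sem_upd {g : K} (h3 : (3 : K) = 0) {n d x : ℕ} (hn : Ok n) (hx : x < 81) :
    sem (D := D) g (upd n d x) = sem g n + val g x • bvec D K d := by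
  funext idx
  have h1 : ad (slot d n) x < 81 := ad_lt (hn d) hx
  rw [Pi.add_apply, Pi.smul_apply, bvec_pos, smul_eq_mul]
  show val g (slot (pos idx) (upd n d x)) = val g (slot (pos idx) n) + _
  rw [slot_upd (lt_trans h1 (by norm_num))]
  split_ifs with h
  · rw [h, mul_one, val_add h3 (hn d) hx]
  · rw [mul_zero, add_zero]

/-- the value of a packed operation -/
def opQ (g : K) (a : ℕ) (v : D.Idx → K) (q : ℕ) : D.Idx → K :=
  (g ^ ex a (q / 65536) * look v (q % 256)) • bvec D K (q / 256 % 256)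

theorem dec0 (q : ℕ) : Nat.land q 255 = q % 256 := by
  have : Nat.land q 255 = q &&& (2 ^ 8 - 1) := rfl
  rw [this, Nat.and_two_pow_sub_one_eq_mod]

theorem dec1 (q : ℕ) : Nat.shiftRight q 8 = q / 256 := by
  have : Nat.shiftRight q 8 = q >>> 8 := rfl
  rw [this, Nat.shiftRight_eq_div_pow]

theorem dec2 (q : ℕ) : Nat.shiftRight q 16 = q / 65536 := by
  have : Nat.shiftRight q 16 = q >>> 16 := rfl
  rw [this, Nat.shiftRight_eq_div_pow]

theorem stp_eq (a n acc q : ℕ) : stp a n acc q = if slot (q % 256) n = 0 then acc else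
    upd acc (q / 256 % 256) (mu (ex a (q / 65536)) (slot (q % 256) n)) := by
  unfold stp
  rw [dec0, dec0, dec1, dec2]
  by_cases h : slot (q % 256) n = 0
  · rw [if_pos h, h]
    rfl
  · rw [if_neg h]
    have : Nat.beq (slot (q % 256) n) 0 = false := by
      rw [← Bool.not_eq_true, Nat.beq_eq]
      exact h
    rw [this]

theorem sem_stp {g : K} (hg : g ^ 4 = 1 - g) (h3 : (3 : K) = 0) {a n acc q : ℕ} (hn : Ok n) (hacc : Ok acc)
    (hq : q % 256 < D.rank + D.nroots) :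
    sem (D := D) g (stp a n acc q) = sem g acc + opQ g a (sem g n) q := by
  rw [stp_eq]
  unfold opQ
  rw [look_sem hq]
  split_ifs with h
  · rw [h, val_zero, mul_zero, zero_smul, add_zero]
  · rw [sem_upd h3 hacc (mu_lt (ex_lt _ _) (hn _)), val_mu hg h3 (ex_lt _ _) (hn _)]

theorem sem_go {g : K} (hg : g ^ 4 = 1 - g) (h3 : (3 : K) = 0) {a n : ℕ} (hn : Ok n) (l : List ℕ) :
    ∀ acc, Ok acc → (∀ q ∈ l, q % 256 < D.rank + D.nroots) →
      sem (D := D) g (go (stp a n) l acc) = sem g acc + (l.map (opQ g a (sem g n))).sum := by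
  induction l with
  | nil =>
    intro acc _ _
    simp [go]
  | cons q l ih =>
    intro acc hacc hl
    rw [go_cons, ih _ (ok_stp hn hacc) (fun q hq => hl q (List.mem_cons_of_mem _ hq)),
      sem_stp hg h3 hn hacc (hl q List.mem_cons_self), List.map_cons, List.sum_cons, add_assoc]

/-- nonzero modulo 3 -/
def nz (q : ℕ × ℕ × ℤ × ℕ) : Bool := !(q.2.2.1 % 3 == 0)

/-- packing -/
def enc (q : ℕ × ℕ × ℤ × ℕ) : ℕ := q.1 + 256 * q.2.1 + 65536 * (((q.2.2.1 % 3).toNat - 1) + 2 * (q.2.2.2 - 1))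

/-- bounds -/
def bnd (m : ℕ) (q : ℕ × ℕ × ℤ × ℕ) : Bool := Nat.blt q.1 m && Nat.blt q.1 256 && Nat.blt q.2.1 256 &&
  (Nat.beq q.2.2.2 1 || Nat.beq q.2.2.2 2)

/-- the list of a root -/
def chkT (D : ChevalleyDatum) (r : ℕ) (l : List ℕ) : Bool :=
  okR D r && (((opsI D r).filter nz).map enc == l) && (opsI D r).all (bnd (D.rank + D.nroots))

theorem g40 {g : K} (hg : g ^ 4 = 1 - g) (h3 : (3 : K) = 0) : g ^ 40 = -1 := by
  have h1 := val_mu (g := g) hg h3 (a := 40) (c := 1) (by norm_num) (by norm_num)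
  have h2 : mu 40 1 = 2 := by decide +kernel
  rw [h2, val_one, mul_one] at h1
  rw [← h1]
  unfold val
  norm_num
  linear_combination h3

theorem g80 {g : K} (hg : g ^ 4 = 1 - g) (h3 : (3 : K) = 0) : g ^ 80 = 1 := by
  have : g ^ 80 = (g ^ 40) ^ 2 := by rw [← pow_mul]
  rw [this, g40 hg h3]
  ring

theorem pow_mod80 {g : K} (hg : g ^ 4 = 1 - g) (h3 : (3 : K) = 0) (n : ℕ) : g ^ (n % 80) = g ^ n := by
  conv_rhs => rw [← Nat.mod_add_div n 80]
  rw [pow_add, pow_mul, g80 hg h3, one_pow, mul_one]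

theorem g_ex {g : K} (hg : g ^ 4 = 1 - g) (h3 : (3 : K) = 0) (a k : ℕ) :
    g ^ ex a k = (g ^ a) ^ (k / 2 + 1) * (-1) ^ (k % 2) := by
  have : ex a k = (a * (k / 2 + 1) + 40 * (k % 2)) % 80 := rfl
  rw [this, pow_mod80 hg h3, pow_add, pow_mul, pow_mul, g40 hg h3]

theorem cast_emod (h3 : (3 : K) = 0) (m : ℤ) : ((m % 3 : ℤ) : K) = m := by
  conv_rhs => rw [← Int.emod_add_mul_ediv m 3]
  push_cast
  rw [h3, zero_mul, add_zero]

/-- one packed operation -/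
theorem opQ_enc {g : K} (hg : g ^ 4 = 1 - g) (h3 : (3 : K) = 0) (a : ℕ) (v : D.Idx → K) {m : ℕ} {q : ℕ × ℕ × ℤ × ℕ}
    (hb : bnd m q = true) (hz : nz q = true) : opQ g a v (enc q) = opV (g ^ a) v q := by
  obtain ⟨s, d, c, p⟩ := q
  simp only [bnd, Bool.and_eq_true, Bool.or_eq_true, Nat.blt_eq, Nat.beq_eq] at hb
  simp only [nz, Bool.not_eq_true', beq_eq_false_iff_ne, ne_eq] at hz
  obtain ⟨⟨⟨_, hs⟩, hd⟩, hp⟩ := hb
  have hc : (c % 3).toNat = 1 ∧ c % 3 = 1 ∨ (c % 3).toNat = 2 ∧ c % 3 = 2 := by (clear * - hz; solve | lia | omega)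
  have e1 : enc (s, d, c, p) % 256 = s := by
    unfold enc
    simp only
    omega
  have e2 : enc (s, d, c, p) / 256 % 256 = d := by
    unfold enc
    simp only
    omega
  have e3 : enc (s, d, c, p) / 65536 = ((c % 3).toNat - 1) + 2 * (p - 1) := by
    unfold enc
    simp only
    (solve | lia | omega)
  unfold opQ opV
  rw [e1, e2, e3, g_ex hg h3]
  simp only
  congr 1
  congr 1
  rw [← cast_emod h3 c]
  have h2 : (2 : K) = -1 := by linear_combination h3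
  rcases hc with ⟨h4, h5⟩ | ⟨h4, h5⟩ <;> rcases hp with h6 | h6 <;> subst h6 <;> rw [h4, h5] <;> norm_num only [_root_.pow_one, _root_.mul_one, _root_.one_mul, _root_.mul_neg]
  · rw [h2]; ring
  · rw [h2]; ring

theorem sum_enc {g : K} (hg : g ^ 4 = 1 - g) (h3 : (3 : K) = 0) (a : ℕ) (v : D.Idx → K) {m : ℕ} (l : List (ℕ × ℕ × ℤ × ℕ))
    (hb : ∀ q ∈ l, bnd m q = true) :
    (((l.filter nz).map enc).map (opQ g a v)).sum = (l.map (opV (g ^ a) v)).sum := by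
  induction l with
  | nil => simp
  | cons q l ih =>
    have ih' := ih fun q hq => hb q (List.mem_cons_of_mem _ hq)
    by_cases hz : nz q = true
    · rw [List.filter_cons_of_pos hz, List.map_cons, List.map_cons, List.sum_cons, List.map_cons, List.sum_cons, ih',
        opQ_enc hg h3 a v (hb q List.mem_cons_self) hz]
    · rw [List.filter_cons_of_neg hz, List.map_cons, List.sum_cons, ih']
      have h1 : q.2.2.1 % 3 = 0 := by
        simpa only [nz, _root_.EuclideanDomain.mod_eq_zero, _root_.Bool.not_eq_eq_eq_not, _root_.Bool.not_true, _root_.beq_eq_false_iff_ne, _root_.ne_eq, _root_.Decidable.not_not] using hz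
      have h2 : opV (g ^ a) v q = 0 := by
        unfold opV
        rw [← cast_emod h3, h1]
        simp
      rw [h2, zero_add]

/-- **a root element on a state** -/
theorem x_sem {g : K} (hg : g ^ 4 = 1 - g) (h3 : (3 : K) = 0) {r : ℕ} {l : List ℕ} (h : chkT D r l = true) (a : ℕ)
    {n : ℕ} (hn : Ok n) : (D.x K r (g ^ a)).mulVec (sem g n) = sem g (app l a n) := by
  unfold chkT at h
  rw [Bool.and_eq_true, Bool.and_eq_true, List.all_eq_true] at h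
  obtain ⟨⟨h1, h2⟩, h4⟩ := h
  have h5 : ((opsI D r).filter nz).map enc = l := by simpa using h2
  rw [x_apply _ h1, app, sem_go hg h3 hn l n hn, ← h5, sum_enc hg h3 a _ _ h4]
  intro q hq
  rw [← h5, List.mem_map] at hq
  obtain ⟨p, hp, rfl⟩ := hq
  have h6 := h4 p (List.mem_filter.1 hp).1
  obtain ⟨s, d, c, e⟩ := p
  simp only [bnd, Bool.and_eq_true, Bool.or_eq_true, Nat.blt_eq, Nat.beq_eq] at h6
  have e1 : enc (s, d, c, e) % 256 = s := by
    unfold enc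
    simp only
    omega
  rw [e1]
  omega

/-- the matrix of a word -/
noncomputable def wMat (D : ChevalleyDatum) (g : K) (w : List (ℕ × ℕ)) : Matrix D.Idx D.Idx K :=
  (w.map fun q => D.x K q.1 (g ^ q.2)).prod

/-- **a word on a state** -/
theorem w_sem {g : K} (hg : g ^ 4 = 1 - g) (h3 : (3 : K) = 0) (T : ℕ → List ℕ) (w : List (ℕ × ℕ))
    (h : ∀ q ∈ w, chkT D q.1 (T q.1) = true) {n : ℕ} (hn : Ok n) :
    (wMat D g w).mulVec (sem g n) = sem g (runW T w n) := by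
  induction w with
  | nil =>
    unfold wMat
    rw [List.map_nil, List.prod_nil, Matrix.one_mulVec]
    rfl
  | cons q w ih =>
    unfold wMat at ih ⊢
    rw [List.map_cons, List.prod_cons, ← Matrix.mulVec_mulVec, ih fun q hq => h q (List.mem_cons_of_mem _ hq),
      x_sem hg h3 (h q List.mem_cons_self) _ (ok_runW T hn w)]
    rfl

end Cfsg.Agent.H671.E83
end

-- part: H671/E83/Lin
section
/-!
# S5925, box G: the coordinates `io` of `sl(W₀) ⊕ sl(W₁)` on states (helper671)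

* `mkM f` : the pair of matrices with the entries `f (5 i + j)`, `f (25 + 5 i + j)`;
* `io_val` : `io` of a pair of matrices of codes is the vector of the state `mk 248 (ioc C)`;
* `linC`, `linK` : sparse linear maps on codes and on values;
* `bas_ext` : linear maps which agree on the codes `bas x` agree on pairs of matrices of trace zero.
-/

set_option autoImplicit false
set_option linter.style.longLine false

namespace Cfsg.Agent.H671.E83

open Cfsg Cfsg.Lie Cfsg.Agent.ChevalleyStructure.SparseEng Cfsg.Agent.H576.E8L Matrix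
open Cfsg.Agent.H138.E8L (e0 e1 Dg Di)

theorem slot_xs {y : ℕ} (hy : y < 128) (n d k : ℕ) :
    slot k (Nat.xor n (Nat.shiftLeft y (Nat.mul 7 d))) = if k = d then Nat.xor (slot k n) y else slot k n := by
  have hu : Nat.xor n (Nat.shiftLeft y (Nat.mul 7 d)) = n ^^^ (y <<< (7 * d)) := rfl
  apply Nat.eq_of_testBit_eq
  intro i
  rw [testBit_slot, hu, Nat.testBit_xor, Nat.testBit_shiftLeft]
  by_cases hi : i < 7
  · by_cases hk : k = d
    · subst hk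
      rw [if_pos rfl]
      have h1 : (decide (7 * k + i ≥ 7 * k)) = true := by simp
      have h2 : Nat.xor (slot k n) y = slot k n ^^^ y := rfl
      rw [h1, Bool.true_and, Nat.add_sub_cancel_left, decide_eq_true hi, Bool.and_true, h2, Nat.testBit_xor, testBit_slot,
        decide_eq_true hi, Bool.and_true]
    · rw [if_neg hk, testBit_slot]
      have h2 : (decide (7 * k + i ≥ 7 * d) && y.testBit (7 * k + i - 7 * d)) = false := by
        rcases Nat.lt_or_gt_of_ne hk with h3 | h3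
        · have : ¬ (7 * k + i ≥ 7 * d) := by omega
          rw [decide_eq_false this, Bool.false_and]
        · have h4 : y.testBit (7 * k + i - 7 * d) = false :=
            Nat.testBit_lt_two_pow (lt_of_lt_of_le hy (by
              have : 2 ^ 7 ≤ 2 ^ (7 * k + i - 7 * d) := Nat.pow_le_pow_right (by norm_num) (by omega)
              simpa only [_root_.ge_iff_le, _root_.Nat.reducePow] using this))
          rw [h4, Bool.and_false]
      rw [h2, Bool.xor_false]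
  · rw [decide_eq_false hi, Bool.and_false]
    symm
    have h7 : 2 ^ 7 ≤ 2 ^ i := Nat.pow_le_pow_right (by norm_num) (by omega)
    split_ifs
    · exact Nat.testBit_lt_two_pow (lt_of_lt_of_le (Nat.xor_lt_two_pow (n := 7) (slot_lt k n) hy) h7)
    · rw [testBit_slot, decide_eq_false hi, Bool.and_false]

theorem slot_land (k a b : ℕ) : slot k (Nat.land a b) = Nat.land (slot k a) (slot k b) := by
  apply Nat.eq_of_testBit_eq
  intro i
  have e1 : Nat.land a b = a &&& b := rfl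
  have e2 : Nat.land (slot k a) (slot k b) = slot k a &&& slot k b := rfl
  rw [testBit_slot, e1, e2, Nat.testBit_and, Nat.testBit_and, testBit_slot, testBit_slot]
  cases a.testBit (7 * k + i) <;> cases b.testBit (7 * k + i) <;> cases (decide (i < 7)) <;> rfl

/-- state from slots -/
noncomputable def mk (m : ℕ) (f : ℕ → ℕ) : ℕ :=
  Nat.rec (motive := fun _ => ℕ) 0 (fun k ih => Nat.xor ih (Nat.shiftLeft (f k) (Nat.mul 7 k))) m

theorem slot_zero (k : ℕ) : slot k 0 = 0 := by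
  have : slot k 0 = (0 >>> (7 * k)) &&& (2 ^ 7 - 1) := rfl
  rw [this, Nat.zero_shiftRight, Nat.zero_and]

theorem slot_mk {f : ℕ → ℕ} (hf : ∀ k, f k < 128) (m k : ℕ) : slot k (mk m f) = if k < m then f k else 0 := by
  induction m with
  | zero => exact slot_zero k
  | succ m ih =>
    have h : mk (m + 1) f = Nat.xor (mk m f) (Nat.shiftLeft (f m) (Nat.mul 7 m)) := rfl
    rw [h, slot_xs (hf m), ih]
    by_cases h1 : k = m
    · subst h1
      rw [if_pos rfl, if_neg (lt_irrefl k), if_pos (Nat.lt_succ_self k)]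
      exact Nat.zero_xor _
    · rw [if_neg h1]
      by_cases h2 : k < m
      · rw [if_pos h2, if_pos (Nat.lt_succ_of_lt h2)]
      · rw [if_neg h2, if_neg (by omega)]

theorem ok_mk {f : ℕ → ℕ} (hf : ∀ k, f k < 81) (m : ℕ) : Ok (mk m f) := by
  intro k
  rw [slot_mk (fun k => lt_trans (hf k) (by norm_num))]
  split_ifs
  · exact hf k
  · norm_num

variable {K : Type*} [Field K]

/-- pair of matrices from a list of entries -/
def mkM (f : ℕ → K) : Matrix (Fin 5) (Fin 5) K × Matrix (Fin 5) (Fin 5) K :=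
  (Matrix.of fun i j => f (5 * i.val + j.val), Matrix.of fun i j => f (25 + (5 * i.val + j.val)))

/-! ### Cartan coordinates -/

/-- `hc` modulo 3 -/
def HCT : ℕ := 0x500159455519265a9686829296aa516

def hcN (b k : ℕ) : ℕ := Nat.land (Nat.shiftRight HCT (Nat.mul 2 (Nat.add (Nat.mul 8 b) k))) 3

theorem hcN_eq : ∀ b k : Fin 8, (hc b k % 3) = ((hcN b.val k.val : ℕ) : ℤ) ∧ hcN b.val k.val < 3 := by decide +kernel

/-- multiple of a code -/
def mc (h c : ℕ) : ℕ := Bool.rec (Bool.rec (mu 40 c) c (Nat.beq h 1)) 0 (Nat.beq h 0)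

theorem mc_lt (h : ℕ) {c : ℕ} (hc : c < 81) : mc h c < 81 := by
  unfold mc
  cases Nat.beq h 0
  · cases Nat.beq h 1
    · exact mu_lt (by norm_num) hc
    · exact hc
  · norm_num

theorem val_mc {g : K} (hg : g ^ 4 = 1 - g) (h3 : (3 : K) = 0) {h c : ℕ} (hh : h < 3) (hc : c < 81) :
    val g (mc h c) = (h : K) * val g c := by
  have h2 : (2 : K) = -1 := by linear_combination h3
  rcases (by omega : h = 0 ∨ h = 1 ∨ h = 2) with rfl | rfl | rfl
  · have : mc 0 c = 0 := rfl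
    rw [this, val_zero]
    simp
  · have : mc 1 c = c := rfl
    rw [this]
    simp
  · have : mc 2 c = mu 40 c := rfl
    rw [this, val_mu hg h3 (by norm_num) hc, g40 hg h3]
    push_cast
    rw [h2]

/-- partial sums of the diagonal -/
noncomputable def pst (C : ℕ → ℕ) (t b : ℕ) : ℕ :=
  Nat.rec (motive := fun _ => ℕ) (C (Nat.mul 25 t)) (fun b ih => ad ih (C (Nat.add (Nat.mul 25 t) (Nat.mul 6 (Nat.succ b))))) b

/-- the eight partial sums -/
noncomputable def p8 (C : ℕ → ℕ) (b : ℕ) : ℕ := Bool.rec (pst C 1 (Nat.sub b 4)) (pst C 0 b) (Nat.blt b 4)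

/-- Cartan coordinate -/
noncomputable def cc (C : ℕ → ℕ) (m k : ℕ) : ℕ :=
  Nat.rec (motive := fun _ => ℕ) 0 (fun b ih => ad ih (mc (hcN b k) (p8 C b))) m

theorem pst_lt {C : ℕ → ℕ} (hC : ∀ x, C x < 81) (t b : ℕ) : pst C t b < 81 := by
  induction b with
  | zero => exact hC _
  | succ b ih => exact ad_lt ih (hC _)

theorem p8_lt {C : ℕ → ℕ} (hC : ∀ x, C x < 81) (b : ℕ) : p8 C b < 81 := by
  unfold p8
  cases Nat.blt b 4
  · exact pst_lt hC _ _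
  · exact pst_lt hC _ _

theorem cc_lt {C : ℕ → ℕ} (hC : ∀ x, C x < 81) (m k : ℕ) : cc C m k < 81 := by
  induction m with
  | zero =>
    show 0 < 81
    norm_num
  | succ b ih => exact ad_lt ih (mc_lt _ (p8_lt hC _))

theorem ps_pst {g : K} (h3 : (3 : K) = 0) {C : ℕ → ℕ} (hC : ∀ x, C x < 81) (b : Fin 4) :
    ps (mkM fun x => val g (C x)).1 b = val g (pst C 0 b.val) ∧
      ps (mkM fun x => val g (C x)).2 b = val g (pst C 1 b.val) := by
  unfold ps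
  rw [Fin.sum_univ_five, Fin.sum_univ_five]
  fin_cases b
  · constructor
    · simp only [Fin.le_def, mkM, pst, _root_.Fin.isValue, _root_.Fin.zero_eta, _root_.Fin.castSucc_zero, _root_.Std.le_refl, ↓ _root_.reduceIte, _root_.Matrix.of_apply, _root_.Fin.coe_ofNat_eq_mod, _root_.Nat.zero_mod, _root_.MulZeroClass.mul_zero, _root_.add_zero, _root_.nonpos_iff_eq_zero, _root_.one_ne_zero, _root_.Fin.reduceEq, _root_.Nat.mul_eq]
    · simp only [Fin.le_def, mkM, pst, _root_.Fin.isValue, _root_.Fin.zero_eta, _root_.Fin.castSucc_zero, _root_.Std.le_refl, ↓ _root_.reduceIte, _root_.Matrix.of_apply, _root_.Fin.coe_ofNat_eq_mod, _root_.Nat.zero_mod, _root_.MulZeroClass.mul_zero, _root_.add_zero, _root_.nonpos_iff_eq_zero, _root_.one_ne_zero, _root_.Fin.reduceEq, _root_.Nat.mul_eq, _root_.mul_one]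
  · constructor
    · simp only [Fin.le_def, mkM, pst, val_add h3 (hC _) (hC _), _root_.Fin.isValue, _root_.Fin.mk_one, _root_.Fin.castSucc_one, _root_.zero_le, ↓ _root_.reduceIte, _root_.Matrix.of_apply, _root_.Fin.coe_ofNat_eq_mod, _root_.Nat.zero_mod, _root_.MulZeroClass.mul_zero, _root_.add_zero, _root_.Std.le_refl, _root_.Nat.one_mod, _root_.mul_one, _root_.Nat.reduceAdd, _root_.Nat.reduceMod, _root_.Nat.not_ofNat_le_one, _root_.Nat.mod_succ, _root_.Nat.mul_eq, _root_.Nat.succ_eq_add_one, _root_.zero_add, _root_.Nat.add_eq]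
    · simp only [Fin.le_def, mkM, pst, val_add h3 (hC _) (hC _), _root_.Fin.isValue, _root_.Fin.mk_one, _root_.Fin.castSucc_one, _root_.zero_le, ↓ _root_.reduceIte, _root_.Matrix.of_apply, _root_.Fin.coe_ofNat_eq_mod, _root_.Nat.zero_mod, _root_.MulZeroClass.mul_zero, _root_.add_zero, _root_.Std.le_refl, _root_.Nat.one_mod, _root_.mul_one, _root_.Nat.reduceAdd, _root_.Nat.reduceMod, _root_.Nat.not_ofNat_le_one, _root_.Nat.mod_succ, _root_.Nat.mul_eq, _root_.Nat.succ_eq_add_one, _root_.zero_add, _root_.Nat.add_eq]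
  · constructor
    · simp only [Fin.le_def, mkM, pst, val_add h3 (ad_lt (hC _) (hC _)) (hC _), val_add h3 (hC _) (hC _), _root_.Fin.isValue, _root_.Fin.reduceFinMk, _root_.Fin.reduceCastSucc, _root_.zero_le, ↓ _root_.reduceIte, _root_.Matrix.of_apply, _root_.Fin.coe_ofNat_eq_mod, _root_.Nat.zero_mod, _root_.MulZeroClass.mul_zero, _root_.add_zero, _root_.Nat.one_mod, _root_.Nat.reduceMod, _root_.Nat.one_le_ofNat, _root_.mul_one, _root_.Nat.reduceAdd, _root_.Std.le_refl, _root_.Nat.reduceMul, _root_.Nat.reduceLeDiff, _root_.Nat.mod_succ, _root_.Nat.mul_eq, _root_.Nat.succ_eq_add_one, _root_.zero_add, _root_.Nat.add_eq]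
    · simp only [Fin.le_def, mkM, pst, val_add h3 (ad_lt (hC _) (hC _)) (hC _), val_add h3 (hC _) (hC _), _root_.Fin.isValue, _root_.Fin.reduceFinMk, _root_.Fin.reduceCastSucc, _root_.zero_le, ↓ _root_.reduceIte, _root_.Matrix.of_apply, _root_.Fin.coe_ofNat_eq_mod, _root_.Nat.zero_mod, _root_.MulZeroClass.mul_zero, _root_.add_zero, _root_.Nat.one_mod, _root_.Nat.reduceMod, _root_.Nat.one_le_ofNat, _root_.mul_one, _root_.Nat.reduceAdd, _root_.Std.le_refl, _root_.Nat.reduceMul, _root_.Nat.reduceLeDiff, _root_.Nat.mod_succ, _root_.Nat.mul_eq, _root_.Nat.succ_eq_add_one, _root_.zero_add, _root_.Nat.add_eq]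
  · constructor
    · simp only [Fin.le_def, mkM, pst, val_add h3 (ad_lt (ad_lt (hC _) (hC _)) (hC _)) (hC _), val_add h3 (ad_lt (hC _) (hC _)) (hC _), val_add h3 (hC _) (hC _), _root_.Fin.isValue, _root_.Fin.reduceFinMk, _root_.Fin.reduceCastSucc, _root_.zero_le, ↓ _root_.reduceIte, _root_.Matrix.of_apply, _root_.Fin.coe_ofNat_eq_mod, _root_.Nat.zero_mod, _root_.MulZeroClass.mul_zero, _root_.add_zero, _root_.Nat.one_mod, _root_.Nat.reduceMod, _root_.Nat.one_le_ofNat, _root_.mul_one, _root_.Nat.reduceAdd, _root_.Nat.reduceLeDiff, _root_.Nat.reduceMul, _root_.Std.le_refl, _root_.Nat.mod_succ, _root_.Nat.mul_eq, _root_.Nat.succ_eq_add_one, _root_.zero_add, _root_.Nat.add_eq]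
    · simp only [Fin.le_def, mkM, pst, val_add h3 (ad_lt (ad_lt (hC _) (hC _)) (hC _)) (hC _), val_add h3 (ad_lt (hC _) (hC _)) (hC _), val_add h3 (hC _) (hC _), _root_.Fin.isValue, _root_.Fin.reduceFinMk, _root_.Fin.reduceCastSucc, _root_.zero_le, ↓ _root_.reduceIte, _root_.Matrix.of_apply, _root_.Fin.coe_ofNat_eq_mod, _root_.Nat.zero_mod, _root_.MulZeroClass.mul_zero, _root_.add_zero, _root_.Nat.one_mod, _root_.Nat.reduceMod, _root_.Nat.one_le_ofNat, _root_.mul_one, _root_.Nat.reduceAdd, _root_.Nat.reduceLeDiff, _root_.Nat.reduceMul, _root_.Std.le_refl, _root_.Nat.mod_succ, _root_.Nat.mul_eq, _root_.Nat.succ_eq_add_one, _root_.zero_add, _root_.Nat.add_eq]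

theorem ps8_p8 {g : K} (h3 : (3 : K) = 0) {C : ℕ → ℕ} (hC : ∀ x, C x < 81) (b : Fin 8) :
    ps8 (mkM fun x => val g (C x)) b = val g (p8 C b.val) := by
  unfold ps8
  by_cases h : b.val < 4
  · rw [dif_pos h, (ps_pst h3 hC _).1]
    have : p8 C b.val = pst C 0 b.val := by
      unfold p8
      have : Nat.blt b.val 4 = true := by rw [Nat.blt_eq]; exact h
      rw [this]
    rw [this]
  · rw [dif_neg h, (ps_pst h3 hC _).2]
    have : p8 C b.val = pst C 1 (b.val - 4) := by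
      unfold p8
      have : Nat.blt b.val 4 = false := by
        rw [← Bool.not_eq_true, Nat.blt_eq]
        exact h
      rw [this]
      rfl
    rw [this]

theorem val_cc {g : K} (hg : g ^ 4 = 1 - g) (h3 : (3 : K) = 0) {C : ℕ → ℕ} (hC : ∀ x, C x < 81) (k : Fin 8) {m : ℕ} (hm : m ≤ 8) :
    val g (cc C m k.val) = ∑ b ∈ Finset.range m, val g (p8 C b) * (hcN b k.val : K) := by
  induction m with
  | zero =>
    rw [Finset.range_zero, Finset.sum_empty]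
    exact val_zero
  | succ m ih =>
    have h : cc C (m + 1) k.val = ad (cc C m k.val) (mc (hcN m k.val) (p8 C m)) := rfl
    rw [h, val_add h3 (cc_lt hC _ _) (mc_lt _ (p8_lt hC _)), ih (by omega), Finset.sum_range_succ,
      val_mc hg h3 ((hcN_eq ⟨m, by omega⟩ k).2) (p8_lt hC _), mul_comm (hcN m k.val : K)]

/-! ### root coordinates -/

/-- index of a root of `W₀`, `W₁` -/
def INVT : ℕ := 0xfffffffff29effffffffffffffffff8fffff53ffcdffffc5ffffff8bffff87ffffffffffffffe8ffffedffffff2fffff3fffceffffe0ffffffffffff9d7ffffe6fff23ffffffffffffffffffffffffffff57ffffb3fffffffffffffffffffff0ffffc9ffffffffffffffffffffffffffffd0fffabffff4efffffffffffff93ffff5bffc3ffffc7ffffff77ffff73ffffffffffffffe9ffffeeffffff07ffff47ffc4ffffdbffffffffffffffffff682fffffffff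

/-- signs -/
def SGT : ℕ := 0x838a18218308

def invN (u : ℕ) : ℕ := Nat.land (Nat.shiftRight INVT (Nat.mul 6 u)) 63

def sgx (x : ℕ) : ℕ := Nat.mul 40 (Nat.land (Nat.shiftRight SGT x) 1)

theorem inv0 : ∀ i j : Fin 5, i ≠ j → invN (w0 i j) = 5 * i.val + j.val ∧ s0 i j = (if sgx (5 * i.val + j.val) = 40 then -1 else 1) := by
  decide +kernel

theorem inv1 : ∀ i j : Fin 5, i ≠ j → invN (w1 i j) = 25 + (5 * i.val + j.val) ∧ s1 i j = (if sgx (25 + (5 * i.val + j.val)) = 40 then -1 else 1) := by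
  decide +kernel

theorem inv_ne : ∀ u : Fin 240, invN u.val = 63 ∨
    (w0 (Fin.ofNat 5 (invN u.val / 5)) (Fin.ofNat 5 (invN u.val)) = u.val ∧ (Fin.ofNat 5 (invN u.val / 5) : Fin 5) ≠ Fin.ofNat 5 (invN u.val)) ∨
    (w1 (Fin.ofNat 5 (invN u.val / 5)) (Fin.ofNat 5 (invN u.val)) = u.val ∧ (Fin.ofNat 5 (invN u.val / 5) : Fin 5) ≠ Fin.ofNat 5 (invN u.val)) := by
  decide +kernel

theorem sgx_cases (x : ℕ) : sgx x = 0 ∨ sgx x = 40 := by
  have h : sgx x = 40 * ((SGT >>> x) &&& (2 ^ 1 - 1)) := rfl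
  rw [h, Nat.and_two_pow_sub_one_eq_mod]
  omega

theorem g_sgx {g : K} (hg : g ^ 4 = 1 - g) (h3 : (3 : K) = 0) (x : ℕ) :
    g ^ sgx x = (((if sgx x = 40 then -1 else 1 : ℤ)) : K) := by
  rcases sgx_cases x with h | h <;> rw [h]
  · simp
  · rw [g40 hg h3]
    simp

/-- code of the coordinate `8 + u` -/
def rc (C : ℕ → ℕ) (u : ℕ) : ℕ := Bool.rec (mu (sgx (invN u)) (C (invN u))) 0 (Nat.beq (invN u) 63)

/-- code of a coordinate of `io` -/
noncomputable def ioc (C : ℕ → ℕ) (k : ℕ) : ℕ := Bool.rec (rc C (Nat.sub k 8)) (cc C 8 k) (Nat.blt k 8)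

theorem rc_lt {C : ℕ → ℕ} (hC : ∀ x, C x < 81) (u : ℕ) : rc C u < 81 := by
  unfold rc
  cases Nat.beq (invN u) 63
  · refine mu_lt ?_ (hC _)
    rcases sgx_cases (invN u) with h | h <;> rw [h] <;> norm_num
  · norm_num

theorem ioc_lt {C : ℕ → ℕ} (hC : ∀ x, C x < 81) (k : ℕ) : ioc C k < 81 := by
  unfold ioc
  cases Nat.blt k 8
  · exact rc_lt hC _
  · exact cc_lt hC _ _

theorem rc_of {C : ℕ → ℕ} {u : ℕ} (h : invN u ≠ 63) : rc C u = mu (sgx (invN u)) (C (invN u)) := by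
  unfold rc
  have : Nat.beq (invN u) 63 = false := by
    rw [← Bool.not_eq_true, Nat.beq_eq]
    exact h
  rw [this]

theorem rc_none {C : ℕ → ℕ} {u : ℕ} (h : invN u = 63) : rc C u = 0 := by
  unfold rc
  rw [h]
  rfl

/-- **`io` on codes** -/
theorem io_val {g : K} (hg : g ^ 4 = 1 - g) (h3 : (3 : K) = 0) {C : ℕ → ℕ} (hC : ∀ x, C x < 81) (idx : chevE8.Idx) :
    io K (mkM fun x => val g (C x)) idx = val g (ioc C (pos idx)) := by
  rcases idx with i | u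
  · have h1 : ioc C (pos (Sum.inl i : chevE8.Idx)) = cc C 8 i.val := by
      unfold ioc
      have : Nat.blt (pos (Sum.inl i : chevE8.Idx)) 8 = true := by
        rw [Nat.blt_eq]
        exact i.isLt
      rw [this]
      rfl
    rw [h1]
    refine (io_inl _ i).trans ?_
    refine Eq.trans ?_ (val_cc hg h3 hC (i : Fin 8) le_rfl).symm
    rw [Finset.sum_range]
    refine Finset.sum_congr rfl fun b _ => ?_
    rw [ps8_p8 h3 hC]
    congr 1
    have h2 := (hcN_eq b i).1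
    have h4 : (((hc b i) % 3 : ℤ) : K) = ((((hcN b.val i.val : ℕ) : ℤ)) : K) := by rw [h2]
    rw [cast_emod h3] at h4
    rw [h4]
    push_cast
    rfl
  · have hu : u.val < 240 := u.isLt
    have h1 : ioc C (pos (Sum.inr u : chevE8.Idx)) = rc C u.val := by
      unfold ioc
      have e : pos (Sum.inr u : chevE8.Idx) = 8 + u.val := rfl
      have : Nat.blt (8 + u.val) 8 = false := by
        rw [← Bool.not_eq_true, Nat.blt_eq]
        omega
      rw [e, this]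
      show rc C (8 + u.val - 8) = _
      rw [Nat.add_sub_cancel_left]
    rw [h1]
    by_cases h0 : ∃ i j : Fin 5, i ≠ j ∧ u.val = w0 i j
    · obtain ⟨i, j, hij, hu0⟩ := h0
      have h2 := inv0 i j hij
      rw [← hu0] at h2
      refine (io_root0 _ _ hij hu0).trans ?_
      have h4 : 5 * i.val + j.val ≠ 63 := by omega
      rw [rc_of (by rw [h2.1]; exact h4), h2.1, val_mu hg h3 _ (hC _), g_sgx hg h3, h2.2]
      · rfl
      · rcases sgx_cases (5 * i.val + j.val) with h | h <;> rw [h] <;> norm_num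
    · by_cases h1 : ∃ i j : Fin 5, i ≠ j ∧ u.val = w1 i j
      · obtain ⟨i, j, hij, hu0⟩ := h1
        have h2 := inv1 i j hij
        rw [← hu0] at h2
        refine (io_root1 _ _ hij hu0).trans ?_
        have h4 : 25 + (5 * i.val + j.val) ≠ 63 := by omega
        rw [rc_of (by rw [h2.1]; exact h4), h2.1, val_mu hg h3 _ (hC _), g_sgx hg h3, h2.2]
        · rfl
        · rcases sgx_cases (25 + (5 * i.val + j.val)) with h | h <;> rw [h] <;> norm_num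
      · push Not at h0 h1
        rw [io_root_out _ h0 h1]
        rcases inv_ne ⟨u.val, hu⟩ with h | h | h
        · rw [rc_none h, val_zero]
        · exact absurd h.1.symm (h0 _ _ h.2)
        · exact absurd h.1.symm (h1 _ _ h.2)

/-- `io` of a pair of matrices of codes is a state -/
theorem io_sem {g : K} (hg : g ^ 4 = 1 - g) (h3 : (3 : K) = 0) {C : ℕ → ℕ} (hC : ∀ x, C x < 81) :
    io K (mkM fun x => val g (C x)) = sem g (mk 248 (ioc C)) := by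
  funext idx
  rw [io_val hg h3 hC]
  have h : pos idx < 248 := by
    rcases idx with i | u
    · have : i.val < 8 := i.isLt
      show i.val < 248
      omega
    · have : u.val < 240 := u.isLt
      show 8 + u.val < 248
      omega
  unfold sem
  rw [slot_mk (fun k => lt_trans (ioc_lt hC k) (by norm_num)), if_pos h]

/-! ### scaling -/

/-- exponents `r_i - r_j` modulo 80 -/
def EXT : ℕ := 0x4b8d18005012e58514140001428280002804b8d180008c0079e140051950023001e7a0b782007b250ca080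

def exS (x : ℕ) : ℕ := Nat.mod (Nat.land (Nat.shiftRight EXT (Nat.mul 7 x)) 127) 80

/-- scaled codes -/
def scC (C : ℕ → ℕ) (x : ℕ) : ℕ := mu (exS x) (C x)

theorem exS_eq : ∀ i j : Fin 5, (exS (5 * i.val + j.val) + e0 j) % 80 = e0 i % 80 ∧
    (exS (25 + (5 * i.val + j.val)) + e1 j) % 80 = e1 i % 80 := by decide +kernel

theorem exS_lt (x : ℕ) : exS x < 80 := Nat.mod_lt _ (by norm_num)

theorem scC_lt {C : ℕ → ℕ} (hC : ∀ x, C x < 81) (x : ℕ) : scC C x < 81 := mu_lt (exS_lt x) (hC x)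

theorem g_ne0 {g : K} (hg : g ^ 4 = 1 - g) : g ≠ 0 := by
  rintro rfl
  norm_num at hg

theorem Dg_conj {g : K} (hg : g ^ 4 = 1 - g) (h3 : (3 : K) = 0) {e : Fin 5 → ℕ} {i j : Fin 5} {s : ℕ}
    (h : (s + e j) % 80 = e i % 80) (A : Matrix (Fin 5) (Fin 5) K) :
    (Dg g e * A * Di g e) i j = g ^ s * A i j := by
  unfold Dg Di
  rw [Matrix.mul_diagonal, Matrix.diagonal_mul]
  have h1 : g ^ e i = g ^ s * g ^ e j := by
    rw [← pow_add, ← pow_mod80 hg h3 (e i), ← pow_mod80 hg h3 (s + e j), h]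
  have h2 : g ^ e j ≠ 0 := pow_ne_zero _ (g_ne0 hg)
  rw [h1, inv_pow]
  field_simp

/-- the embedding in the scaled frame -/
def iot (g : K) (p : Matrix (Fin 5) (Fin 5) K × Matrix (Fin 5) (Fin 5) K) : chevE8.Idx → K :=
  io K (Dg g e0 * p.1 * Di g e0, Dg g e1 * p.2 * Di g e1)

theorem iot_sem {g : K} (hg : g ^ 4 = 1 - g) (h3 : (3 : K) = 0) {C : ℕ → ℕ} (hC : ∀ x, C x < 81) :
    iot g (mkM fun x => val g (C x)) = sem g (mk 248 (ioc (scC C))) := by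
  rw [← io_sem hg h3 (scC_lt hC)]
  unfold iot
  congr 1
  refine Prod.ext ?_ ?_
  · ext i j
    exact (Dg_conj hg h3 (exS_eq i j).1 _).trans (val_mu hg h3 (exS_lt _) (hC _)).symm
  · ext i j
    exact (Dg_conj hg h3 (exS_eq i j).2 _).trans (val_mu hg h3 (exS_lt _) (hC _)).symm

theorem iot_add (g : K) (p q : Matrix (Fin 5) (Fin 5) K × Matrix (Fin 5) (Fin 5) K) : iot g (p + q) = iot g p + iot g q := by
  unfold iot
  rw [← map_add]
  congr 1
  refine Prod.ext ?_ ?_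
  · simp [Matrix.mul_add, Matrix.add_mul]
  · simp [Matrix.mul_add, Matrix.add_mul]

theorem iot_smul (g c : K) (p : Matrix (Fin 5) (Fin 5) K × Matrix (Fin 5) (Fin 5) K) : iot g (c • p) = c • iot g p := by
  unfold iot
  rw [← map_smul]
  congr 1
  refine Prod.ext ?_ ?_
  · simp
  · simp

/-! ### sparse linear maps -/

/-- signed powers -/
def cf (g : K) (e : ℕ) : K := if e < 80 then g ^ e else -g ^ (e - 80)

def mus (e c : ℕ) : ℕ := Bool.rec (mu 40 (mu (Nat.mod (Nat.sub e 80) 80) c)) (mu e c) (Nat.blt e 80)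

noncomputable def linC (T : ℕ → List (ℕ × ℕ)) (C : ℕ → ℕ) (x : ℕ) : ℕ :=
  List.rec (motive := fun _ => ℕ) 0 (fun q _ ih => ad (mus q.2 (C q.1)) ih) (T x)

def linK (g : K) (T : ℕ → List (ℕ × ℕ)) (f : ℕ → K) (x : ℕ) : K := ((T x).map fun q => cf g q.2 * f q.1).sum

theorem mus_lt (e : ℕ) {c : ℕ} (hc : c < 81) : mus e c < 81 := by
  unfold mus
  by_cases h : e < 80
  · have : Nat.blt e 80 = true := by rw [Nat.blt_eq]; exact h
    rw [this]
    exact mu_lt h hc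
  · have : Nat.blt e 80 = false := by
      rw [← Bool.not_eq_true, Nat.blt_eq]
      exact h
    rw [this]
    exact mu_lt (by norm_num) (mu_lt (Nat.mod_lt _ (by norm_num)) hc)

theorem val_mus {g : K} (hg : g ^ 4 = 1 - g) (h3 : (3 : K) = 0) (e : ℕ) {c : ℕ} (hc : c < 81) :
    val g (mus e c) = cf g e * val g c := by
  unfold mus cf
  by_cases h : e < 80
  · have : Nat.blt e 80 = true := by rw [Nat.blt_eq]; exact h
    rw [this, if_pos h]
    exact val_mu hg h3 h hc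
  · have : Nat.blt e 80 = false := by
      rw [← Bool.not_eq_true, Nat.blt_eq]
      exact h
    rw [this, if_neg h]
    show val g (mu 40 (mu ((e - 80) % 80) c)) = _
    rw [val_mu hg h3 (by norm_num) (mu_lt (Nat.mod_lt _ (by norm_num)) hc), val_mu hg h3 (Nat.mod_lt _ (by norm_num)) hc,
      pow_mod80 hg h3, g40 hg h3]
    ring

theorem lin_val {g : K} (hg : g ^ 4 = 1 - g) (h3 : (3 : K) = 0) (T : ℕ → List (ℕ × ℕ)) {C : ℕ → ℕ} (hC : ∀ x, C x < 81) (x : ℕ) :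
    linC T C x < 81 ∧ val g (linC T C x) = linK g T (fun y => val g (C y)) x := by
  unfold linC linK
  induction T x with
  | nil => exact ⟨by show 0 < 81; norm_num, by simpa using (val_zero (g := g))⟩
  | cons q l ih =>
    refine ⟨ad_lt (mus_lt _ (hC _)) ih.1, ?_⟩
    rw [List.map_cons, List.sum_cons, ← ih.2, ← val_mus hg h3 q.2 (hC _)]
    exact val_add h3 (mus_lt _ (hC _)) ih.1

/-- entries -/
def ent (p : Matrix (Fin 5) (Fin 5) K × Matrix (Fin 5) (Fin 5) K) (y : ℕ) : K :=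
  if y < 25 then p.1 (Fin.ofNat 5 (y / 5)) (Fin.ofNat 5 y) else p.2 (Fin.ofNat 5 (y / 5)) (Fin.ofNat 5 y)

theorem ent_mkM (f : ℕ → K) {y : ℕ} (hy : y < 50) : ent (mkM f) y = f y := by
  unfold ent mkM
  simp only [Matrix.of_apply, Fin.ofNat]
  split_ifs with h
  · congr 1
    omega
  · congr 1
    omega

theorem ent_add (p q : Matrix (Fin 5) (Fin 5) K × Matrix (Fin 5) (Fin 5) K) (y : ℕ) : ent (p + q) y = ent p y + ent q y := by
  unfold ent
  split_ifs <;> rfl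

theorem ent_smul (c : K) (p : Matrix (Fin 5) (Fin 5) K × Matrix (Fin 5) (Fin 5) K) (y : ℕ) : ent (c • p) y = c * ent p y := by
  unfold ent
  split_ifs <;> rfl

theorem linK_add (g : K) (T : ℕ → List (ℕ × ℕ)) (f f' : ℕ → K) (x : ℕ) :
    linK g T (fun y => f y + f' y) x = linK g T f x + linK g T f' x := by
  unfold linK
  induction T x with
  | nil => simp
  | cons q l ih =>
    simp only [List.map_cons, List.sum_cons, ih]
    ring

theorem linK_smul (g c : K) (T : ℕ → List (ℕ × ℕ)) (f : ℕ → K) (x : ℕ) :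
    linK g T (fun y => c * f y) x = c * linK g T f x := by
  unfold linK
  induction T x with
  | nil => simp
  | cons q l ih =>
    simp only [List.map_cons, List.sum_cons, ih]
    ring

/-- the sparse map on pairs of matrices -/
def linM (g : K) (T : ℕ → List (ℕ × ℕ)) (p : Matrix (Fin 5) (Fin 5) K × Matrix (Fin 5) (Fin 5) K) :
    Matrix (Fin 5) (Fin 5) K × Matrix (Fin 5) (Fin 5) K := mkM (linK g T (ent p))

theorem mkM_add (f f' : ℕ → K) : mkM (fun x => f x + f' x) = mkM f + mkM f' := rfl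

theorem mkM_smul (c : K) (f : ℕ → K) : mkM (fun x => c * f x) = c • mkM f := rfl

theorem linM_add (g : K) (T : ℕ → List (ℕ × ℕ)) (p q : Matrix (Fin 5) (Fin 5) K × Matrix (Fin 5) (Fin 5) K) :
    linM g T (p + q) = linM g T p + linM g T q := by
  unfold linM
  rw [← mkM_add]
  congr 1
  funext x
  rw [← linK_add]
  congr 1
  funext y
  exact ent_add p q y

theorem linM_smul (g c : K) (T : ℕ → List (ℕ × ℕ)) (p : Matrix (Fin 5) (Fin 5) K × Matrix (Fin 5) (Fin 5) K) :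
    linM g T (c • p) = c • linM g T p := by
  unfold linM
  rw [← mkM_smul]
  congr 1
  funext x
  rw [← linK_smul]
  congr 1
  funext y
  exact ent_smul c p y

theorem linM_val {g : K} (hg : g ^ 4 = 1 - g) (h3 : (3 : K) = 0) {T : ℕ → List (ℕ × ℕ)}
    (hT : ∀ x < 50, ∀ q ∈ T x, q.1 < 50) {C : ℕ → ℕ} (hC : ∀ x, C x < 81) :
    linM g T (mkM fun x => val g (C x)) = mkM fun x => val g (linC T C x) := by
  have h : ∀ x < 50, linK g T (ent (mkM fun x => val g (C x))) x = val g (linC T C x) := by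
    intro x hx
    rw [(lin_val hg h3 T hC x).2]
    unfold linK
    congr 1
    apply List.map_congr_left
    intro q hq
    rw [ent_mkM _ (hT x hx q hq)]
  unfold linM
  refine Prod.ext ?_ ?_
  · ext i j
    exact h _ (by omega)
  · ext i j
    exact h _ (by omega)

/-! ### a basis of the pairs of matrices of trace zero -/

/-- codes of `E_ij - δ_ij E_44` -/
def bas (x0 x : ℕ) : ℕ :=
  Bool.rec (Bool.rec 0 2 (and (Nat.beq (Nat.mod (Nat.mod x0 25) 6) 0) (Nat.beq x (Nat.add (Nat.mul 25 (Nat.div x0 25)) 24)))) 1 (Nat.beq x x0)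

theorem bas_lt (x0 x : ℕ) : bas x0 x < 81 := by
  unfold bas
  cases Nat.beq x x0
  · cases (and (Nat.beq (Nat.mod (Nat.mod x0 25) 6) 0) (Nat.beq x (Nat.add (Nat.mul 25 (Nat.div x0 25)) 24)))
    · show 0 < 81
      norm_num
    · show 2 < 81
      norm_num
  · show 1 < 81
    norm_num

theorem bas_eq : ∀ i j a b : Fin 5, ¬ (i = 4 ∧ j = 4) →
    bas (5 * i.val + j.val) (5 * a.val + b.val) = (if i = a ∧ j = b then 1 else if i = j ∧ a = 4 ∧ b = 4 then 2 else 0) ∧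
    bas (5 * i.val + j.val) (25 + (5 * a.val + b.val)) = 0 ∧
    bas (25 + (5 * i.val + j.val)) (25 + (5 * a.val + b.val)) = (if i = a ∧ j = b then 1 else if i = j ∧ a = 4 ∧ b = 4 then 2 else 0) ∧
    bas (25 + (5 * i.val + j.val)) (5 * a.val + b.val) = 0 := by decide +kernel

/-- `E_ij - δ_ij E_44` -/
def Eb (i j : Fin 5) : Matrix (Fin 5) (Fin 5) K := Matrix.single i j 1 - if i = j then Matrix.single 4 4 1 else 0

theorem val_two {g : K} (h3 : (3 : K) = 0) : val g 2 = -1 := by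
  unfold val
  norm_num
  linear_combination h3

theorem Eb_apply {g : K} (h3 : (3 : K) = 0) (i j a b : Fin 5) (h : ¬ (i = 4 ∧ j = 4)) :
    (Eb i j : Matrix (Fin 5) (Fin 5) K) a b = val g (if i = a ∧ j = b then 1 else if i = j ∧ a = 4 ∧ b = 4 then 2 else 0) := by
  unfold Eb
  rw [Matrix.sub_apply, Matrix.single_apply]
  by_cases h1 : i = a ∧ j = b
  · rw [if_pos h1, if_pos h1, val_one]
    by_cases h2 : i = j
    · rw [if_pos h2, Matrix.single_apply, if_neg, sub_zero]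
      rintro ⟨h5, h6⟩
      apply h
      exact ⟨h1.1.trans h5.symm, h1.2.trans h6.symm⟩
    · rw [if_neg h2]
      simp
  · rw [if_neg h1, if_neg h1, zero_sub]
    by_cases h2 : i = j
    · rw [if_pos h2, Matrix.single_apply]
      by_cases h4 : (4 : Fin 5) = a ∧ (4 : Fin 5) = b
      · rw [if_pos h4, if_pos ⟨h2, h4.1.symm, h4.2.symm⟩, val_two h3]
      · rw [if_neg h4, if_neg, val_zero, neg_zero]
        rintro ⟨_, h5, h6⟩
        exact h4 ⟨h5.symm, h6.symm⟩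
    · rw [if_neg h2, if_neg (fun h5 => h2 h5.1), val_zero]
      simp

theorem bas0 {g : K} (h3 : (3 : K) = 0) (i j : Fin 5) (h : ¬ (i = 4 ∧ j = 4)) :
    mkM (fun x => val g (bas (5 * i.val + j.val) x)) = (Eb i j, (0 : Matrix (Fin 5) (Fin 5) K)) := by
  refine Prod.ext ?_ ?_
  · ext a b
    show val g (bas (5 * i.val + j.val) (5 * a.val + b.val)) = Eb i j a b
    rw [(bas_eq i j a b h).1, Eb_apply (g := g) h3 i j a b h]
  · ext a b
    show val g (bas (5 * i.val + j.val) (25 + (5 * a.val + b.val))) = 0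
    rw [(bas_eq i j a b h).2.1, val_zero]

theorem bas1 {g : K} (h3 : (3 : K) = 0) (i j : Fin 5) (h : ¬ (i = 4 ∧ j = 4)) :
    mkM (fun x => val g (bas (25 + (5 * i.val + j.val)) x)) = ((0 : Matrix (Fin 5) (Fin 5) K), Eb i j) := by
  refine Prod.ext ?_ ?_
  · ext a b
    show val g (bas (25 + (5 * i.val + j.val)) (5 * a.val + b.val)) = 0
    rw [(bas_eq i j a b h).2.2.2, val_zero]
  · ext a b
    show val g (bas (25 + (5 * i.val + j.val)) (25 + (5 * a.val + b.val))) = Eb i j a b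
    rw [(bas_eq i j a b h).2.2.1, Eb_apply (g := g) h3 i j a b h]

theorem mat_ext {V : Type*} [AddCommGroup V] [Module K V] (L : Matrix (Fin 5) (Fin 5) K →ₗ[K] V)
    (h : ∀ i j : Fin 5, ¬ (i = 4 ∧ j = 4) → L (Eb i j) = 0) {A : Matrix (Fin 5) (Fin 5) K} (hA : A.trace = 0) : L A = 0 := by
  have h1 : ∀ i j : Fin 5, L (Matrix.single i j 1) = if i = j then L (Matrix.single 4 4 1) else 0 := by
    intro i j
    by_cases h4 : i = 4 ∧ j = 4
    · rw [h4.1, h4.2, if_pos rfl]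
    · have h5 := h i j h4
      unfold Eb at h5
      rw [map_sub, sub_eq_zero] at h5
      rw [h5]
      split_ifs
      · rfl
      · exact map_zero L
  rw [Matrix.matrix_eq_sum_single A, map_sum]
  have h2 : ∀ i : Fin 5, L (∑ j, Matrix.single i j (A i j)) = A i i • L (Matrix.single 4 4 1) := by
    intro i
    rw [map_sum, Finset.sum_eq_single i]
    · have : Matrix.single i i (A i i) = A i i • Matrix.single i i (1 : K) := by rw [Matrix.smul_single, smul_eq_mul, mul_one]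
      rw [this, map_smul, h1, if_pos rfl]
    · intro j _ hj
      have : Matrix.single i j (A i j) = A i j • Matrix.single i j (1 : K) := by rw [Matrix.smul_single, smul_eq_mul, mul_one]
      rw [this, map_smul, h1, if_neg (Ne.symm hj), smul_zero]
    · intro h; exact absurd (Finset.mem_univ _) h
  rw [Finset.sum_congr rfl fun i _ => h2 i, ← Finset.sum_smul]
  have : ∑ i, A i i = A.trace := rfl
  rw [this, hA, zero_smul]

theorem bas_ext {V : Type*} [AddCommGroup V] [Module K V] {g : K} (h3 : (3 : K) = 0)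
    (L : (Matrix (Fin 5) (Fin 5) K × Matrix (Fin 5) (Fin 5) K) →ₗ[K] V)
    (h : ∀ x < 50, x ≠ 24 → x ≠ 49 → L (mkM fun y => val g (bas x y)) = 0)
    {p : Matrix (Fin 5) (Fin 5) K × Matrix (Fin 5) (Fin 5) K} (h0 : p.1.trace = 0) (h1 : p.2.trace = 0) : L p = 0 := by
  have e0 : L (p.1, 0) = 0 := by
    refine mat_ext (L.comp (LinearMap.inl K _ _)) (fun i j hij => ?_) h0
    show L (Eb i j, 0) = 0
    rw [← bas0 (g := g) h3 i j hij]
    refine h _ (by omega) (fun h5 => hij ?_) (by omega)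
    constructor
    · apply Fin.ext; show i.val = 4; omega
    · apply Fin.ext; show j.val = 4; omega
  have e1 : L (0, p.2) = 0 := by
    refine mat_ext (L.comp (LinearMap.inr K _ _)) (fun i j hij => ?_) h1
    show L (0, Eb i j) = 0
    rw [← bas1 (g := g) h3 i j hij]
    refine h _ (by omega) (by omega) (fun h5 => hij ?_)
    constructor
    · apply Fin.ext; show i.val = 4; omega
    · apply Fin.ext; show j.val = 4; omega
  have e2 : p = (p.1, 0) + (0, p.2) := by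
    refine Prod.ext ?_ ?_ <;> simp
  rw [e2, map_add, e0, e1, add_zero]

end Cfsg.Agent.H671.E83
end

-- part: H671/E83/Tabs
section
/-!
# S5925, box G: `x` and `x⁻¹` on `sl(W₀) ⊕ sl(W₁)`, kernel tables (helper671)

* `wX`, `wXi` : `x` and `x⁻¹` (the matrix `X5` of tools/plans/S5925_code/frame.txt in the second `SL₅`) as words in root elements;
* `chkX` : the check on the 48 basis vectors.
-/

set_option autoImplicit false
set_option linter.style.longLine false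

namespace Cfsg.Agent.H671.E83

open Cfsg Cfsg.Lie Cfsg.Agent.ChevalleyStructure.SparseEng Cfsg.Agent.H576.E8L Matrix
open Cfsg.Agent.H138.E8L (e0 e1 Dg Di)

/-- operations of the root elements -/
def TL : List (ℕ × List ℕ) :=
  [(0, [2055, 198903, 247, 66295, 1271, 67063, 2039, 2432, 2690, 2949, 3209, 3470, 3732, 3994, 69791, 4515, 70310, 5032, 70825, 5808, 71605, 6329, 72124, 6846, 72639, 73155, 7878, 73672, 8393, 74444, 9166, 74959, 75473, 10194, 76243, 11478, 77272, 11993, 12507, 78300, 13277, 79583, 14304, 80353, 15586, 16612, 82405, 17382, 83687, 19176, 85993, 22251, 88044, 23021, 89326, 24815, 91632, 93169, 94706, 95987, 97012, 97781, 98294]),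
  (1, [2310, 67847, 199158, 246, 66294, 1270, 67062, 67574, 2175, 2689, 2948, 3208, 3469, 3731, 3993, 69790, 4514, 70309, 5031, 71081, 5807, 71604, 6328, 72123, 6845, 72895, 73154, 7877, 73671, 8649, 74443, 9165, 75215, 75472, 10450, 76499, 11477, 77271, 12249, 12506, 78556, 13533, 79582, 14560, 80609, 15842, 16611, 82661, 17638, 83943, 19432, 86249, 22250, 88300, 23277, 89582, 25071, 91888, 93425, 94962, 96243, 97268, 98037, 98551]),
  (2, [2565, 68102, 199413, 245, 66293, 1269, 67061, 1781, 67573, 2173, 2430, 2947, 3207, 3468, 3730, 3992, 69789, 4513, 70308, 5287, 71080, 5806, 71603, 6327, 72122, 7101, 72894, 73153, 7876, 73927, 8648, 74442, 9421, 75214, 75728, 10449, 76755, 11476, 77527, 12248, 12762, 78555, 13789, 79838, 14559, 80865, 16098, 16867, 82660, 17894, 84199, 19688, 86505, 22506, 88299, 23533, 89838, 25327, 92144, 93681, 95218, 96499, 97524, 98806, 99063]),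
  (3, [2820, 68357, 199668, 244, 66292, 1268, 1780, 67572, 2170, 2427, 2684, 3206, 3467, 3729, 3991, 69788, 4512, 70564, 5285, 71078, 5805, 71602, 6326, 72378, 7099, 72892, 73152, 8132, 73925, 8646, 74698, 9419, 75212, 76240, 10961, 76754, 11732, 77525, 12246, 13274, 79067, 13788, 80350, 15071, 80864, 16354, 17379, 83172, 17893, 84455, 19944, 86761, 23018, 88811, 23532, 90094, 25583, 92400, 93937, 95474, 96755, 99317, 99574, 99831]),
  (114, [96772, 31237, 31239, 227973, 66949, 67205, 67461, 67595, 70165, 71964, 73249, 74277, 9770, 10027, 76847, 12340, 12597, 13882, 14139, 80959, 16452, 16709, 83529, 84557, 85842, 22106, 22363, 89183, 90211, 91496, 93038, 94580, 95865, 31616, 31874, 97667, 98180, 34441, 35726, 37268, 38810, 40095, 41123, 107688, 107945, 44464, 45749, 46777, 113342, 113599, 49347, 115912, 116169, 117454, 117711, 53459, 120024, 120281, 56029, 57057, 58342, 60141, 62711]),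
  (115, [97028, 31493, 31494, 97031, 228228, 66948, 67204, 67851, 4628, 6427, 7712, 8740, 75305, 10283, 11310, 77875, 12853, 79417, 14395, 81215, 81987, 16965, 83785, 84813, 86098, 87641, 22619, 89439, 90467, 91752, 93294, 94836, 96121, 31359, 31873, 97923, 98437, 34440, 35725, 37267, 38809, 40094, 41122, 107687, 42665, 44463, 45748, 46776, 113341, 48319, 49346, 115911, 50889, 117453, 52431, 119251, 120023, 55001, 121821, 122849, 124134, 125933, 62710]),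
  (116, [97284, 97285, 97286, 228483, 66947, 68107, 70163, 71962, 73247, 74275, 75561, 75818, 76845, 78131, 78388, 79673, 79930, 81471, 82243, 82500, 84041, 85069, 86354, 87897, 88154, 89695, 90723, 92008, 93550, 95092, 96377, 31357, 31614, 98692, 98949, 34439, 35724, 37266, 38808, 40093, 41121, 42407, 42664, 44462, 45747, 46775, 48061, 48318, 49345, 50631, 50888, 52173, 52430, 53971, 54743, 55000, 56541, 57569, 58854, 60653, 62709]),
  (117, [97541, 32006, 32007, 228738, 67202, 67458, 67594, 4885, 6684, 7969, 8997, 9768, 76075, 11567, 12338, 78645, 13880, 80187, 80958, 16450, 82757, 83528, 84556, 85841, 22104, 88411, 89182, 90210, 91495, 93037, 94579, 95864, 96892, 32384, 98177, 33669, 34697, 35982, 37524, 39066, 40351, 41379, 42150, 108457, 44720, 46005, 47033, 47804, 114111, 49603, 50374, 116681, 51916, 118223, 118994, 54486, 120793, 121564, 122592, 123877, 125676, 62967]),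
  (118, [97797, 97798, 97799, 228993, 67201, 67850, 70420, 72219, 73504, 74532, 75303, 76331, 77102, 77873, 78901, 79415, 80443, 81214, 81985, 83013, 83784, 84812, 86097, 87639, 88667, 89438, 90466, 91751, 93293, 94835, 96120, 97148, 32127, 98434, 33668, 34696, 35981, 37523, 39065, 40350, 41378, 42149, 43177, 44719, 46004, 47032, 47803, 48831, 49602, 50373, 51401, 51915, 52943, 53714, 54485, 55513, 56284, 57312, 58597, 60396, 62966]),
  (119, [98054, 98055, 229248, 67456, 67593, 70677, 72476, 73761, 74789, 75560, 76074, 77359, 78130, 78644, 79672, 80186, 80957, 82242, 82756, 83527, 84555, 85840, 87896, 88410, 89181, 90209, 91494, 93036, 94578, 95863, 96891, 97662, 33154, 33925, 34953, 36238, 37780, 39322, 40607, 41635, 42406, 42920, 44976, 46261, 47289, 48060, 48574, 49859, 50630, 51144, 52172, 52686, 53457, 54742, 55256, 56027, 57055, 58340, 60139, 63223]),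
  (120, [32774, 32775, 229503, 1919, 67848, 70932, 72731, 74016, 75044, 75815, 76329, 77614, 78385, 78899, 79927, 80441, 81212, 82497, 83011, 83782, 84810, 86095, 88151, 88665, 89436, 90464, 91749, 93291, 94833, 96118, 97146, 97917, 33409, 34180, 35208, 36493, 38035, 39577, 40862, 41890, 42661, 43175, 45231, 46516, 47544, 48315, 48829, 50114, 50885, 51399, 52427, 52941, 53712, 54997, 55511, 56282, 57310, 58595, 60394, 63478]),
  (121, [33029, 33030, 33031, 229758, 1662, 68105, 70675, 72474, 73759, 74787, 75558, 76586, 77357, 78128, 79156, 79670, 80698, 81469, 82240, 83268, 84039, 85067, 86352, 87894, 88922, 89693, 90721, 92006, 93548, 95090, 96375, 97403, 32637, 98944, 33923, 34951, 36236, 37778, 39320, 40605, 41633, 42404, 43432, 44974, 46259, 47287, 48058, 49086, 49857, 50628, 51656, 52170, 53198, 53969, 54740, 55768, 56539, 57567, 58852, 60651, 63221]),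
  (122, [33285, 98822, 98823, 230013, 1661, 1917, 68104, 5395, 7194, 8479, 9507, 10278, 76585, 12077, 12848, 79155, 14390, 80697, 81468, 16960, 83267, 84038, 85066, 86351, 22614, 88921, 89692, 90720, 92005, 93547, 95089, 96374, 97402, 32894, 98687, 34179, 35207, 36492, 38034, 39576, 40861, 41889, 42660, 108967, 45230, 46515, 47543, 48314, 114621, 50113, 50884, 117191, 52426, 118733, 119504, 54996, 121303, 122074, 123102, 124387, 126186, 63477]),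
  (123, [33540, 33541, 33542, 230268, 1404, 68362, 70418, 72217, 73502, 74530, 76071, 76328, 77100, 78641, 78898, 80183, 80440, 81726, 82753, 83010, 84296, 85324, 86609, 88407, 88664, 89950, 90978, 92263, 93805, 95347, 96632, 32122, 32379, 99457, 99714, 34694, 35979, 37521, 39063, 40348, 41376, 42917, 43174, 44717, 46002, 47030, 48571, 48828, 49600, 51141, 51398, 52683, 52940, 54226, 55253, 55510, 56796, 57824, 59109, 60908, 62964]),
  (124, [33796, 99333, 99334, 33799, 230523, 1403, 1659, 68361, 5138, 6937, 8222, 9250, 76070, 11048, 11820, 78640, 13618, 80182, 15160, 81725, 82752, 17730, 84295, 85323, 86608, 88406, 23384, 89949, 90977, 92262, 93804, 95346, 96631, 32634, 33148, 99198, 99712, 34950, 36235, 37777, 39319, 40604, 41632, 108452, 43430, 44973, 46258, 47286, 114106, 49084, 49856, 116676, 51654, 118218, 53196, 119761, 120788, 55766, 122331, 123359, 124644, 126443, 63220]),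
  (125, [34052, 99589, 99591, 230778, 1402, 1658, 1914, 68360, 70930, 72729, 74014, 75042, 10790, 11047, 77612, 13360, 13617, 14902, 15159, 81724, 17472, 17729, 84294, 85322, 86607, 23126, 23383, 89948, 90976, 92261, 93803, 95345, 96630, 32891, 33404, 99197, 99455, 35206, 36491, 38033, 39575, 40860, 41888, 108708, 108965, 45229, 46514, 47542, 114362, 114619, 50112, 116932, 117189, 118474, 118731, 54224, 121044, 121301, 56794, 57822, 59107, 60906, 63476]),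
  (236, [128004, 62469, 259083, 65547, 523, 66571, 67083, 1803, 31240, 31497, 31754, 34316, 35597, 37134, 38671, 105488, 40977, 107539, 42260, 108053, 44310, 111127, 46616, 113178, 47899, 113692, 114717, 50207, 116000, 50721, 117283, 52004, 117797, 118825, 53546, 119339, 54317, 120110, 54831, 55859, 121652, 56373, 122425, 57146, 122939, 57919, 58179, 123972, 58693, 124745, 59469, 125266, 59993, 125786, 60507, 126559, 61283, 127080, 127342, 127604, 127865, 128387, 128644, 128901]),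
  (237, [128261, 62726, 259338, 65546, 522, 66570, 1290, 67082, 1802, 32008, 32265, 33547, 34572, 35853, 37390, 38927, 105744, 41233, 107538, 42772, 108565, 44566, 111383, 46872, 113177, 48411, 114204, 114973, 50206, 116512, 51233, 117282, 52516, 118309, 118823, 53544, 119595, 54316, 120622, 55343, 55857, 121650, 56629, 122423, 57144, 123195, 57918, 58177, 123970, 58949, 124744, 59468, 125265, 59991, 125784, 60763, 126558, 61282, 127079, 127341, 127603, 127864, 128124, 128641, 128898]),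
  (238, [128518, 62983, 259593, 65545, 521, 66569, 1289, 1801, 32520, 33034, 33803, 34828, 36109, 37646, 39183, 106000, 41489, 107794, 42771, 108821, 44822, 111639, 47128, 113433, 48410, 114460, 115229, 50462, 116511, 51489, 117538, 52515, 118565, 118822, 53800, 119594, 54572, 120621, 55599, 55856, 121906, 56628, 122422, 57400, 123194, 57917, 58176, 124226, 58948, 124743, 59467, 125264, 59990, 126040, 60762, 126557, 61281, 127078, 127340, 127602, 127863, 128123, 128382, 128896]),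
  (239, [128775, 259848, 65544, 520, 66568, 1288, 67336, 32777, 33290, 34059, 35084, 36365, 37902, 39439, 106256, 41745, 108050, 43027, 108820, 45078, 111895, 47384, 113689, 48666, 114459, 115485, 50718, 116767, 51488, 117794, 52771, 118564, 119078, 53799, 119593, 54828, 120877, 55598, 56112, 121905, 56627, 122678, 57399, 123193, 57916, 58432, 124225, 58947, 124742, 59466, 125263, 60246, 126039, 60761, 126556, 61280, 127077, 127339, 127601, 127862, 128122, 128381, 128639])]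

/-- lookup -/
noncomputable def tget {α : Type} (d : α) (l : List (ℕ × α)) (r : ℕ) : α :=
  List.rec (motive := fun _ => α) d (fun q _ ih => Bool.rec ih q.2 (Nat.beq q.1 r)) l

noncomputable def TT (r : ℕ) : List ℕ := tget [] TL r

/-- `x` -/
def wX : List (ℕ × ℕ) := [(239, 22), (238, 34), (237, 66), (236, 38), (120, 62), (0, 48), (119, 48), (117, 76), (114, 33), (121, 79), (1, 16), (118, 11), (115, 16), (123, 33), (2, 3), (122, 48), (121, 78), (116, 7), (3, 50), (125, 66), (124, 52), (123, 9)]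

/-- `x⁻¹` -/
def wXi : List (ℕ × ℕ) := [(123, 49), (124, 12), (125, 26), (3, 10), (116, 47), (121, 38), (122, 8), (2, 43), (123, 73), (115, 56), (118, 51), (1, 56), (121, 39), (114, 73), (117, 36), (119, 8), (0, 8), (120, 22), (236, 78), (237, 26), (238, 74), (239, 62)]

/-- `XP0`, `XP1` as a sparse map -/
def TPL : List (ℕ × List (ℕ × ℕ)) :=
  [(0, [(6, 7), (12, 74), (18, 26), (24, 63), (25, 7), (31, 61), (43, 69), (49, 63)]),
  (1, [(1, 50), (34, 16)]),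
  (2, [(2, 0)]),
  (4, [(4, 70), (40, 8)]),
  (5, [(5, 70), (46, 64)]),
  (6, [(0, 63), (12, 7), (18, 74), (24, 26), (25, 63), (31, 7), (37, 61), (49, 69)]),
  (7, [(7, 50), (35, 24)]),
  (8, [(8, 0)]),
  (11, [(11, 70), (27, 56)]),
  (12, [(0, 26), (6, 63), (18, 7), (24, 74), (25, 69), (31, 63), (37, 7), (43, 61)]),
  (13, [(13, 50), (41, 48)]),
  (14, [(14, 0)]),
  (15, [(15, 0)]),
  (17, [(17, 70), (33, 32)]),
  (18, [(0, 74), (6, 26), (12, 63), (24, 7), (31, 69), (37, 63), (43, 7), (49, 61)]),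
  (19, [(19, 50), (47, 60)]),
  (20, [(20, 50), (28, 72)]),
  (21, [(21, 0)]),
  (23, [(23, 70), (39, 20)]),
  (24, [(0, 7), (6, 74), (12, 26), (18, 63), (25, 61), (37, 69), (43, 63), (49, 7)]),
  (25, [(0, 63), (6, 7), (12, 61), (24, 69), (31, 62), (37, 29), (43, 21), (49, 78)]),
  (26, [(26, 0)]),
  (27, [(27, 50), (11, 64)]),
  (28, [(28, 70), (20, 48)]),
  (31, [(0, 69), (6, 63), (12, 7), (18, 61), (25, 78), (37, 62), (43, 29), (49, 21)]),
  (32, [(32, 0)]),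
  (33, [(33, 50), (17, 8)]),
  (34, [(34, 70), (1, 24)]),
  (35, [(35, 70), (7, 16)]),
  (37, [(6, 69), (12, 63), (18, 7), (24, 61), (25, 21), (31, 78), (43, 62), (49, 29)]),
  (38, [(38, 0)]),
  (39, [(39, 50), (23, 20)]),
  (40, [(40, 50), (4, 32)]),
  (41, [(41, 70), (13, 72)]),
  (43, [(0, 61), (12, 69), (18, 63), (24, 7), (25, 29), (31, 21), (37, 78), (49, 62)]),
  (44, [(44, 0)]),
  (45, [(45, 0)]),
  (46, [(46, 50), (5, 56)]),
  (47, [(47, 70), (19, 60)]),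
  (49, [(0, 7), (6, 61), (18, 69), (24, 63), (25, 62), (31, 29), (37, 21), (43, 78)])]

/-- `XM0`, `XM1` as a sparse map -/
def TML : List (ℕ × List (ℕ × ℕ)) :=
  [(0, [(6, 63), (12, 26), (18, 74), (24, 7), (25, 63), (31, 69), (43, 61), (49, 7)]),
  (1, [(1, 70), (34, 96)]),
  (3, [(3, 0)]),
  (4, [(4, 50), (40, 88)]),
  (5, [(5, 50), (46, 144)]),
  (6, [(0, 7), (12, 63), (18, 26), (24, 74), (25, 7), (31, 63), (37, 69), (49, 61)]),
  (7, [(7, 70), (35, 104)]),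
  (9, [(9, 0)]),
  (10, [(10, 0)]),
  (11, [(11, 50), (27, 136)]),
  (12, [(0, 74), (6, 7), (18, 63), (24, 26), (25, 61), (31, 7), (37, 63), (43, 69)]),
  (13, [(13, 70), (41, 128)]),
  (16, [(16, 0)]),
  (17, [(17, 50), (33, 112)]),
  (18, [(0, 26), (6, 74), (12, 7), (24, 63), (31, 61), (37, 7), (43, 63), (49, 69)]),
  (19, [(19, 70), (47, 140)]),
  (20, [(20, 70), (28, 152)]),
  (22, [(22, 0)]),
  (23, [(23, 50), (39, 100)]),
  (24, [(0, 63), (6, 26), (12, 74), (18, 7), (25, 69), (37, 61), (43, 7), (49, 63)]),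
  (25, [(0, 7), (6, 63), (12, 69), (24, 61), (31, 78), (37, 21), (43, 29), (49, 62)]),
  (27, [(27, 70), (11, 144)]),
  (28, [(28, 50), (20, 128)]),
  (29, [(29, 0)]),
  (30, [(30, 0)]),
  (31, [(0, 61), (6, 7), (12, 63), (18, 69), (25, 62), (37, 78), (43, 21), (49, 29)]),
  (33, [(33, 70), (17, 88)]),
  (34, [(34, 50), (1, 104)]),
  (35, [(35, 50), (7, 96)]),
  (36, [(36, 0)]),
  (37, [(6, 61), (12, 7), (18, 63), (24, 69), (25, 29), (31, 62), (43, 78), (49, 21)]),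
  (39, [(39, 70), (23, 100)]),
  (40, [(40, 70), (4, 112)]),
  (41, [(41, 50), (13, 152)]),
  (42, [(42, 0)]),
  (43, [(0, 69), (12, 61), (18, 7), (24, 63), (25, 21), (31, 29), (37, 62), (49, 78)]),
  (46, [(46, 70), (5, 136)]),
  (47, [(47, 50), (19, 140)]),
  (48, [(48, 0)]),
  (49, [(0, 63), (6, 69), (18, 61), (24, 7), (25, 78), (31, 21), (37, 29), (43, 62)])]

noncomputable def TP (x : ℕ) : List (ℕ × ℕ) := tget [] TPL x
noncomputable def TM (x : ℕ) : List (ℕ × ℕ) := tget [] TML x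

/-- mask of the coordinates of `io` -/
def MASK : ℕ := 0x3fff000000000000000000000fe00000fe0007f000007f0000000fe00000fe000000000000000007f000007f0000000fe00000fe0007f000007f00000000000000fffc00001fc000fe000000000000000000000000000000000fe00000fe0000000000000000000000007f000007f0000000000000000000000000000000007f0003f800003fff00000000000000fe00000fe0007f000007f0000000fe00000fe000000000000000007f000007f0000000fe00000fe0007f000007f000000000000000000000fffc0000000000ffffffffffffff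

/-- the check -/
noncomputable def chkX (T : ℕ → List (ℕ × ℕ)) (w : List (ℕ × ℕ)) (x : ℕ) : Bool :=
  Nat.beq (Nat.land (runW TT w (mk 248 (ioc (scC (bas x))))) MASK) (mk 248 (ioc (scC (linC T (bas x)))))

theorem TT_ok : ([0, 1, 2, 3, 114, 115, 116, 117, 118, 119, 120, 121, 122, 123, 124, 125, 236, 237, 238, 239].all fun r => chkT chevE8 r (TT r)) = true := by (delta Cfsg.Agent.H671.E83.chkT Cfsg.Agent.H671.E83.okR Cfsg.Agent.H671.E83.nz Cfsg.Agent.H671.E83.opsI; rewrite [H90F.dn_fun, H90F.bz_fun, H90F.gd_fun, H90F.lb_fun, H90F.al_fun, H90F.mp_fun, H90F.fl_fun, H90F.ap_fun, H90F.fm_fun]; decide +kernel)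

theorem wX_mem : ∀ q ∈ wX, q.1 ∈ [0, 1, 2, 3, 114, 115, 116, 117, 118, 119, 120, 121, 122, 123, 124, 125, 236, 237, 238, 239] := by decide +kernel
theorem wXi_mem : ∀ q ∈ wXi, q.1 ∈ [0, 1, 2, 3, 114, 115, 116, 117, 118, 119, 120, 121, 122, 123, 124, 125, 236, 237, 238, 239] := by decide +kernel

theorem TP_lt : ∀ x < 50, ∀ q ∈ TP x, q.1 < 50 := by decide +kernel
theorem TM_lt : ∀ x < 50, ∀ q ∈ TM x, q.1 < 50 := by decide +kernel

end Cfsg.Agent.H671.E83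
end

-- part: H671/E83/XIo
section
/-!
# S5925, box G: `x` and `x⁻¹` on `sl(W₀) ⊕ sl(W₁)` (helper671)

`xp_io`, `xm_io` : the projection of `x^(±1) ι(A, B)` to `sl(W₀) ⊕ sl(W₁)`.
-/

set_option autoImplicit false
set_option linter.style.longLine false

namespace Cfsg.Agent.H671.E83

open Cfsg Cfsg.Lie Cfsg.Agent.ChevalleyStructure.SparseEng Cfsg.Agent.H576.E8L Matrix
open Cfsg.Agent.H138.E8L (e0 e1 Dg Di)
open Cfsg.Agent.H879.E83 (XP0 XP1 XM0 XM1 cr5 k00 k01 k10 k11 m00 m01 m10 m11 c1 c4 d2 d3)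

theorem cP1 : ([0, 1, 2, 3, 4, 5, 6, 7, 8, 9, 10, 11, 12, 13, 14, 15, 16, 17, 18, 19, 20, 21, 22, 23].all (chkX TP wX)) = true := by
  decide +kernel

theorem cP2 : ([25, 26, 27, 28, 29, 30, 31, 32, 33, 34, 35, 36, 37, 38, 39, 40, 41, 42, 43, 44, 45, 46, 47, 48].all (chkX TP wX)) = true := by
  decide +kernel

theorem cM1 : ([0, 1, 2, 3, 4, 5, 6, 7, 8, 9, 10, 11, 12, 13, 14, 15, 16, 17, 18, 19, 20, 21, 22, 23].all (chkX TM wXi)) = true := by
  decide +kernel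

theorem cM2 : ([25, 26, 27, 28, 29, 30, 31, 32, 33, 34, 35, 36, 37, 38, 39, 40, 41, 42, 43, 44, 45, 46, 47, 48].all (chkX TM wXi)) = true := by
  decide +kernel

theorem all50 {P : ℕ → Bool}
    (h1 : ([0, 1, 2, 3, 4, 5, 6, 7, 8, 9, 10, 11, 12, 13, 14, 15, 16, 17, 18, 19, 20, 21, 22, 23].all P) = true)
    (h2 : ([25, 26, 27, 28, 29, 30, 31, 32, 33, 34, 35, 36, 37, 38, 39, 40, 41, 42, 43, 44, 45, 46, 47, 48].all P) = true) :
    ∀ x < 50, x ≠ 24 → x ≠ 49 → P x = true := by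
  rw [List.all_eq_true] at h1 h2
  intro x hx h24 h49
  by_cases h : x < 24
  · apply h1
    interval_cases x <;> simp only [_root_.List.mem_cons, _root_.zero_ne_one, _root_.OfNat.zero_ne_ofNat, _root_.List.not_mem_nil, _root_.or_self, _root_.or_false, _root_.one_ne_zero, _root_.OfNat.one_ne_ofNat, _root_.or_true, _root_.OfNat.ofNat_ne_zero, _root_.OfNat.ofNat_ne_one, _root_.Nat.reduceEqDiff, _root_.Nat.succ_ne_self]
  · apply h2
    interval_cases x <;> first | contradiction | simp only [_root_.List.mem_cons, _root_.Nat.reduceEqDiff, _root_.List.not_mem_nil, _root_.or_self, _root_.or_false, _root_.Nat.succ_ne_self, _root_.or_true]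

variable {K : Type*} [Field K]

/-- the coordinates of `io` -/
def inU (idx : chevE8.Idx) : Bool := Nat.beq (slot (pos idx) MASK) 127

/-- the projection -/
def prU (v : chevE8.Idx → K) : chevE8.Idx → K := fun idx => if inU idx = true then v idx else 0

theorem mask_slot : ∀ k < 248, slot k MASK = 127 ∨ slot k MASK = 0 := by decide +kernel

theorem pos_lt (idx : chevE8.Idx) : pos idx < 248 := by
  rcases idx with i | u
  · have : i.val < 8 := i.isLt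
    show i.val < 248
    omega
  · have : u.val < 240 := u.isLt
    show 8 + u.val < 248
    omega

theorem prU_sem (g : K) (n : ℕ) : prU (sem g n) = sem g (Nat.land n MASK) := by
  funext idx
  unfold prU sem inU
  rw [slot_land]
  rcases mask_slot (pos idx) (pos_lt idx) with h | h
  · rw [h]
    have e : Nat.land (slot (pos idx) n) 127 = slot (pos idx) n := by
      have : Nat.land (slot (pos idx) n) 127 = slot (pos idx) n &&& (2 ^ 7 - 1) := rfl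
      rw [this, Nat.and_two_pow_sub_one_eq_mod]
      exact Nat.mod_eq_of_lt (slot_lt _ _)
    rw [e]
    exact if_pos rfl
  · rw [h]
    have e : Nat.land (slot (pos idx) n) 0 = 0 := by
      have : Nat.land (slot (pos idx) n) 0 = slot (pos idx) n &&& 0 := rfl
      rw [this, Nat.and_zero]
    rw [e, val_zero]
    exact if_neg (by decide)

theorem prU_add (v w : chevE8.Idx → K) : prU (v + w) = prU v + prU w := by
  funext idx
  show (if inU idx = true then v idx + w idx else 0) = (if inU idx = true then v idx else 0) + (if inU idx = true then w idx else 0)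
  split_ifs
  · rfl
  · rw [add_zero]

theorem prU_smul (c : K) (v : chevE8.Idx → K) : prU (c • v) = c • prU v := by
  funext idx
  show (if inU idx = true then c * v idx else 0) = c * (if inU idx = true then v idx else 0)
  split_ifs
  · rfl
  · rw [mul_zero]

/-- the roots of the words -/
def rts : List ℕ := [0, 1, 2, 3, 114, 115, 116, 117, 118, 119, 120, 121, 122, 123, 124, 125, 236, 237, 238, 239]

theorem rts_ok {r : ℕ} (hr : r ∈ rts) : chkT chevE8 r (TT r) = true := List.all_eq_true.1 TT_ok r hr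

/-- **from the kernel check to pairs of matrices of trace zero** -/
theorem word_io {g : K} (hg : g ^ 4 = 1 - g) (h3 : (3 : K) = 0) {T : ℕ → List (ℕ × ℕ)}
    (hT : ∀ x < 50, ∀ q ∈ T x, q.1 < 50) {w : List (ℕ × ℕ)} (hw : ∀ q ∈ w, q.1 ∈ rts)
    (hc : ∀ x < 50, x ≠ 24 → x ≠ 49 → chkX T w x = true)
    {p : Matrix (Fin 5) (Fin 5) K × Matrix (Fin 5) (Fin 5) K} (h0 : p.1.trace = 0) (h1 : p.2.trace = 0) :
    prU (wMat chevE8 g w *ᵥ iot g p) = iot g (linM g T p) := by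
  let L : (Matrix (Fin 5) (Fin 5) K × Matrix (Fin 5) (Fin 5) K) →ₗ[K] (chevE8.Idx → K) :=
    { toFun := fun p => prU (wMat chevE8 g w *ᵥ iot g p) - iot g (linM g T p)
      map_add' := fun p q => by
        rw [iot_add, Matrix.mulVec_add, prU_add, linM_add, iot_add]
        abel
      map_smul' := fun c p => by
        rw [iot_smul, Matrix.mulVec_smul, prU_smul, linM_smul, iot_smul, RingHom.id_apply, smul_sub] }
  have hL : L p = 0 := by
    refine bas_ext h3 L (g := g) (fun x hx h24 h49 => ?_) h0 h1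
    show prU (wMat chevE8 g w *ᵥ iot g (mkM fun y => val g (bas x y))) - iot g (linM g T (mkM fun y => val g (bas x y))) = 0
    rw [sub_eq_zero, iot_sem hg h3 (bas_lt x), w_sem hg h3 TT w (fun q hq => rts_ok (hw q hq)) (ok_mk (ioc_lt (scC_lt (bas_lt x))) _),
      prU_sem, linM_val hg h3 hT (bas_lt x), iot_sem hg h3 (fun y => (lin_val hg h3 T (bas_lt x) y).1)]
    congr 1
    exact Nat.eq_of_beq_eq_true (hc x hx h24 h49)
  exact sub_eq_zero.1 hL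

/-! ### the tables -/

theorem mkM_eq {f : ℕ → K} {A B : Matrix (Fin 5) (Fin 5) K} (h0 : ∀ i j : Fin 5, f (5 * i.val + j.val) = A i j)
    (h1 : ∀ i j : Fin 5, f (25 + (5 * i.val + j.val)) = B i j) : mkM f = (A, B) := by
  refine Prod.ext ?_ ?_
  · ext i j
    exact h0 i j
  · ext i j
    exact h1 i j

theorem p0_00 (g : K) (A B : Matrix (Fin 5) (Fin 5) K) : linK g TP (ent (A, B)) 0 = XP0 g A B 0 0 := by
  have e1 : linK g TP (ent (A, B)) 0 = g ^ 7 * A 1 1 + (g ^ 74 * A 2 2 + (g ^ 26 * A 3 3 + (g ^ 63 * A 4 4 + (g ^ 7 * B 0 0 + (g ^ 61 * B 1 1 + (g ^ 69 * B 3 3 + (g ^ 63 * B 4 4 + 0))))))) := rfl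
  have e2 : XP0 g A B 0 0 = cr5 (k00 g) A 0 + cr5 (k01 g) B 0 := rfl
  have e3 : cr5 (k00 g) A 0 = 0 * A 0 0 + g ^ 7 * A 1 1 + g ^ 74 * A 2 2 + g ^ 26 * A 3 3 + g ^ 63 * A 4 4 := by
    unfold cr5; rw [Fin.sum_univ_five]; rfl
  have e4 : cr5 (k01 g) B 0 = g ^ 7 * B 0 0 + g ^ 61 * B 1 1 + 0 * B 2 2 + g ^ 69 * B 3 3 + g ^ 63 * B 4 4 := by
    unfold cr5; rw [Fin.sum_univ_five]; rfl
  rw [e1, e2, e3, e4]; ring
theorem p0_01 (g : K) (A B : Matrix (Fin 5) (Fin 5) K) : linK g TP (ent (A, B)) 1 = XP0 g A B 0 1 := by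
  have e1 : linK g TP (ent (A, B)) 1 = g ^ 50 * A 0 1 + (g ^ 16 * B 1 4 + 0) := rfl
  have e2 : XP0 g A B 0 1 = g ^ 50 * A 0 1 + g ^ 16 * B 1 4 := rfl
  rw [e1, e2]; ring
theorem p0_02 (g : K) (A B : Matrix (Fin 5) (Fin 5) K) : linK g TP (ent (A, B)) 2 = XP0 g A B 0 2 := by
  have e1 : linK g TP (ent (A, B)) 2 = g ^ 0 * A 0 2 + 0 := rfl
  have e2 : XP0 g A B 0 2 = A 0 2 := rfl
  rw [e1, e2]; ring
theorem p0_03 (g : K) (A B : Matrix (Fin 5) (Fin 5) K) : linK g TP (ent (A, B)) 3 = XP0 g A B 0 3 := by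
  have e1 : linK g TP (ent (A, B)) 3 = 0 := rfl
  have e2 : XP0 g A B 0 3 = 0 := rfl
  rw [e1, e2]
theorem p0_04 (g : K) (A B : Matrix (Fin 5) (Fin 5) K) : linK g TP (ent (A, B)) 4 = XP0 g A B 0 4 := by
  have e1 : linK g TP (ent (A, B)) 4 = g ^ 70 * A 0 4 + (g ^ 8 * B 3 0 + 0) := rfl
  have e2 : XP0 g A B 0 4 = g ^ 70 * A 0 4 + g ^ 8 * B 3 0 := rfl
  rw [e1, e2]; ring
theorem p0_10 (g : K) (A B : Matrix (Fin 5) (Fin 5) K) : linK g TP (ent (A, B)) 5 = XP0 g A B 1 0 := by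
  have e1 : linK g TP (ent (A, B)) 5 = g ^ 70 * A 1 0 + (g ^ 64 * B 4 1 + 0) := rfl
  have e2 : XP0 g A B 1 0 = g ^ 70 * A 1 0 + g ^ 64 * B 4 1 := rfl
  rw [e1, e2]; ring
theorem p0_11 (g : K) (A B : Matrix (Fin 5) (Fin 5) K) : linK g TP (ent (A, B)) 6 = XP0 g A B 1 1 := by
  have e1 : linK g TP (ent (A, B)) 6 = g ^ 63 * A 0 0 + (g ^ 7 * A 2 2 + (g ^ 74 * A 3 3 + (g ^ 26 * A 4 4 + (g ^ 63 * B 0 0 + (g ^ 7 * B 1 1 + (g ^ 61 * B 2 2 + (g ^ 69 * B 4 4 + 0))))))) := rfl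
  have e2 : XP0 g A B 1 1 = cr5 (k00 g) A 1 + cr5 (k01 g) B 1 := rfl
  have e3 : cr5 (k00 g) A 1 = g ^ 63 * A 0 0 + 0 * A 1 1 + g ^ 7 * A 2 2 + g ^ 74 * A 3 3 + g ^ 26 * A 4 4 := by
    unfold cr5; rw [Fin.sum_univ_five]; rfl
  have e4 : cr5 (k01 g) B 1 = g ^ 63 * B 0 0 + g ^ 7 * B 1 1 + g ^ 61 * B 2 2 + 0 * B 3 3 + g ^ 69 * B 4 4 := by
    unfold cr5; rw [Fin.sum_univ_five]; rfl
  rw [e1, e2, e3, e4]; ring
theorem p0_12 (g : K) (A B : Matrix (Fin 5) (Fin 5) K) : linK g TP (ent (A, B)) 7 = XP0 g A B 1 2 := by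
  have e1 : linK g TP (ent (A, B)) 7 = g ^ 50 * A 1 2 + (g ^ 24 * B 2 0 + 0) := rfl
  have e2 : XP0 g A B 1 2 = g ^ 50 * A 1 2 + g ^ 24 * B 2 0 := rfl
  rw [e1, e2]; ring
theorem p0_13 (g : K) (A B : Matrix (Fin 5) (Fin 5) K) : linK g TP (ent (A, B)) 8 = XP0 g A B 1 3 := by
  have e1 : linK g TP (ent (A, B)) 8 = g ^ 0 * A 1 3 + 0 := rfl
  have e2 : XP0 g A B 1 3 = A 1 3 := rfl
  rw [e1, e2]; ring
theorem p0_14 (g : K) (A B : Matrix (Fin 5) (Fin 5) K) : linK g TP (ent (A, B)) 9 = XP0 g A B 1 4 := by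
  have e1 : linK g TP (ent (A, B)) 9 = 0 := rfl
  have e2 : XP0 g A B 1 4 = 0 := rfl
  rw [e1, e2]
theorem p0_20 (g : K) (A B : Matrix (Fin 5) (Fin 5) K) : linK g TP (ent (A, B)) 10 = XP0 g A B 2 0 := by
  have e1 : linK g TP (ent (A, B)) 10 = 0 := rfl
  have e2 : XP0 g A B 2 0 = 0 := rfl
  rw [e1, e2]
theorem p0_21 (g : K) (A B : Matrix (Fin 5) (Fin 5) K) : linK g TP (ent (A, B)) 11 = XP0 g A B 2 1 := by
  have e1 : linK g TP (ent (A, B)) 11 = g ^ 70 * A 2 1 + (g ^ 56 * B 0 2 + 0) := rfl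
  have e2 : XP0 g A B 2 1 = g ^ 70 * A 2 1 + g ^ 56 * B 0 2 := rfl
  rw [e1, e2]; ring
theorem p0_22 (g : K) (A B : Matrix (Fin 5) (Fin 5) K) : linK g TP (ent (A, B)) 12 = XP0 g A B 2 2 := by
  have e1 : linK g TP (ent (A, B)) 12 = g ^ 26 * A 0 0 + (g ^ 63 * A 1 1 + (g ^ 7 * A 3 3 + (g ^ 74 * A 4 4 + (g ^ 69 * B 0 0 + (g ^ 63 * B 1 1 + (g ^ 7 * B 2 2 + (g ^ 61 * B 3 3 + 0))))))) := rfl
  have e2 : XP0 g A B 2 2 = cr5 (k00 g) A 2 + cr5 (k01 g) B 2 := rfl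
  have e3 : cr5 (k00 g) A 2 = g ^ 26 * A 0 0 + g ^ 63 * A 1 1 + 0 * A 2 2 + g ^ 7 * A 3 3 + g ^ 74 * A 4 4 := by
    unfold cr5; rw [Fin.sum_univ_five]; rfl
  have e4 : cr5 (k01 g) B 2 = g ^ 69 * B 0 0 + g ^ 63 * B 1 1 + g ^ 7 * B 2 2 + g ^ 61 * B 3 3 + 0 * B 4 4 := by
    unfold cr5; rw [Fin.sum_univ_five]; rfl
  rw [e1, e2, e3, e4]; ring
theorem p0_23 (g : K) (A B : Matrix (Fin 5) (Fin 5) K) : linK g TP (ent (A, B)) 13 = XP0 g A B 2 3 := by
  have e1 : linK g TP (ent (A, B)) 13 = g ^ 50 * A 2 3 + (g ^ 48 * B 3 1 + 0) := rfl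
  have e2 : XP0 g A B 2 3 = g ^ 50 * A 2 3 + g ^ 48 * B 3 1 := rfl
  rw [e1, e2]; ring
theorem p0_24 (g : K) (A B : Matrix (Fin 5) (Fin 5) K) : linK g TP (ent (A, B)) 14 = XP0 g A B 2 4 := by
  have e1 : linK g TP (ent (A, B)) 14 = g ^ 0 * A 2 4 + 0 := rfl
  have e2 : XP0 g A B 2 4 = A 2 4 := rfl
  rw [e1, e2]; ring
theorem p0_30 (g : K) (A B : Matrix (Fin 5) (Fin 5) K) : linK g TP (ent (A, B)) 15 = XP0 g A B 3 0 := by
  have e1 : linK g TP (ent (A, B)) 15 = g ^ 0 * A 3 0 + 0 := rfl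
  have e2 : XP0 g A B 3 0 = A 3 0 := rfl
  rw [e1, e2]; ring
theorem p0_31 (g : K) (A B : Matrix (Fin 5) (Fin 5) K) : linK g TP (ent (A, B)) 16 = XP0 g A B 3 1 := by
  have e1 : linK g TP (ent (A, B)) 16 = 0 := rfl
  have e2 : XP0 g A B 3 1 = 0 := rfl
  rw [e1, e2]
theorem p0_32 (g : K) (A B : Matrix (Fin 5) (Fin 5) K) : linK g TP (ent (A, B)) 17 = XP0 g A B 3 2 := by
  have e1 : linK g TP (ent (A, B)) 17 = g ^ 70 * A 3 2 + (g ^ 32 * B 1 3 + 0) := rfl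
  have e2 : XP0 g A B 3 2 = g ^ 70 * A 3 2 + g ^ 32 * B 1 3 := rfl
  rw [e1, e2]; ring
theorem p0_33 (g : K) (A B : Matrix (Fin 5) (Fin 5) K) : linK g TP (ent (A, B)) 18 = XP0 g A B 3 3 := by
  have e1 : linK g TP (ent (A, B)) 18 = g ^ 74 * A 0 0 + (g ^ 26 * A 1 1 + (g ^ 63 * A 2 2 + (g ^ 7 * A 4 4 + (g ^ 69 * B 1 1 + (g ^ 63 * B 2 2 + (g ^ 7 * B 3 3 + (g ^ 61 * B 4 4 + 0))))))) := rfl
  have e2 : XP0 g A B 3 3 = cr5 (k00 g) A 3 + cr5 (k01 g) B 3 := rfl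
  have e3 : cr5 (k00 g) A 3 = g ^ 74 * A 0 0 + g ^ 26 * A 1 1 + g ^ 63 * A 2 2 + 0 * A 3 3 + g ^ 7 * A 4 4 := by
    unfold cr5; rw [Fin.sum_univ_five]; rfl
  have e4 : cr5 (k01 g) B 3 = 0 * B 0 0 + g ^ 69 * B 1 1 + g ^ 63 * B 2 2 + g ^ 7 * B 3 3 + g ^ 61 * B 4 4 := by
    unfold cr5; rw [Fin.sum_univ_five]; rfl
  rw [e1, e2, e3, e4]; ring
theorem p0_34 (g : K) (A B : Matrix (Fin 5) (Fin 5) K) : linK g TP (ent (A, B)) 19 = XP0 g A B 3 4 := by
  have e1 : linK g TP (ent (A, B)) 19 = g ^ 50 * A 3 4 + (g ^ 60 * B 4 2 + 0) := rfl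
  have e2 : XP0 g A B 3 4 = g ^ 50 * A 3 4 + g ^ 60 * B 4 2 := rfl
  rw [e1, e2]; ring
theorem p0_40 (g : K) (A B : Matrix (Fin 5) (Fin 5) K) : linK g TP (ent (A, B)) 20 = XP0 g A B 4 0 := by
  have e1 : linK g TP (ent (A, B)) 20 = g ^ 50 * A 4 0 + (g ^ 72 * B 0 3 + 0) := rfl
  have e2 : XP0 g A B 4 0 = g ^ 50 * A 4 0 + g ^ 72 * B 0 3 := rfl
  rw [e1, e2]; ring
theorem p0_41 (g : K) (A B : Matrix (Fin 5) (Fin 5) K) : linK g TP (ent (A, B)) 21 = XP0 g A B 4 1 := by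
  have e1 : linK g TP (ent (A, B)) 21 = g ^ 0 * A 4 1 + 0 := rfl
  have e2 : XP0 g A B 4 1 = A 4 1 := rfl
  rw [e1, e2]; ring
theorem p0_42 (g : K) (A B : Matrix (Fin 5) (Fin 5) K) : linK g TP (ent (A, B)) 22 = XP0 g A B 4 2 := by
  have e1 : linK g TP (ent (A, B)) 22 = 0 := rfl
  have e2 : XP0 g A B 4 2 = 0 := rfl
  rw [e1, e2]
theorem p0_43 (g : K) (A B : Matrix (Fin 5) (Fin 5) K) : linK g TP (ent (A, B)) 23 = XP0 g A B 4 3 := by
  have e1 : linK g TP (ent (A, B)) 23 = g ^ 70 * A 4 3 + (g ^ 20 * B 2 4 + 0) := rfl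
  have e2 : XP0 g A B 4 3 = g ^ 70 * A 4 3 + g ^ 20 * B 2 4 := rfl
  rw [e1, e2]; ring
theorem p0_44 (g : K) (A B : Matrix (Fin 5) (Fin 5) K) : linK g TP (ent (A, B)) 24 = XP0 g A B 4 4 := by
  have e1 : linK g TP (ent (A, B)) 24 = g ^ 7 * A 0 0 + (g ^ 74 * A 1 1 + (g ^ 26 * A 2 2 + (g ^ 63 * A 3 3 + (g ^ 61 * B 0 0 + (g ^ 69 * B 2 2 + (g ^ 63 * B 3 3 + (g ^ 7 * B 4 4 + 0))))))) := rfl
  have e2 : XP0 g A B 4 4 = cr5 (k00 g) A 4 + cr5 (k01 g) B 4 := rfl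
  have e3 : cr5 (k00 g) A 4 = g ^ 7 * A 0 0 + g ^ 74 * A 1 1 + g ^ 26 * A 2 2 + g ^ 63 * A 3 3 + 0 * A 4 4 := by
    unfold cr5; rw [Fin.sum_univ_five]; rfl
  have e4 : cr5 (k01 g) B 4 = g ^ 61 * B 0 0 + 0 * B 1 1 + g ^ 69 * B 2 2 + g ^ 63 * B 3 3 + g ^ 7 * B 4 4 := by
    unfold cr5; rw [Fin.sum_univ_five]; rfl
  rw [e1, e2, e3, e4]; ring

theorem p1_00 (g : K) (A B : Matrix (Fin 5) (Fin 5) K) : linK g TP (ent (A, B)) 25 = XP1 g A B 0 0 := by
  have e1 : linK g TP (ent (A, B)) 25 = g ^ 63 * A 0 0 + (g ^ 7 * A 1 1 + (g ^ 61 * A 2 2 + (g ^ 69 * A 4 4 + (g ^ 62 * B 1 1 + (g ^ 29 * B 2 2 + (g ^ 21 * B 3 3 + (g ^ 78 * B 4 4 + 0))))))) := rfl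
  have e2 : XP1 g A B 0 0 = cr5 (k10 g) A 0 + cr5 (k11 g) B 0 := rfl
  have e3 : cr5 (k10 g) A 0 = g ^ 63 * A 0 0 + g ^ 7 * A 1 1 + g ^ 61 * A 2 2 + 0 * A 3 3 + g ^ 69 * A 4 4 := by
    unfold cr5; rw [Fin.sum_univ_five]; rfl
  have e4 : cr5 (k11 g) B 0 = 0 * B 0 0 + g ^ 62 * B 1 1 + g ^ 29 * B 2 2 + g ^ 21 * B 3 3 + g ^ 78 * B 4 4 := by
    unfold cr5; rw [Fin.sum_univ_five]; rfl
  rw [e1, e2, e3, e4]; ring
theorem p1_01 (g : K) (A B : Matrix (Fin 5) (Fin 5) K) : linK g TP (ent (A, B)) 26 = XP1 g A B 0 1 := by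
  have e1 : linK g TP (ent (A, B)) 26 = g ^ 0 * B 0 1 + 0 := rfl
  have e2 : XP1 g A B 0 1 = B 0 1 := rfl
  rw [e1, e2]; ring
theorem p1_02 (g : K) (A B : Matrix (Fin 5) (Fin 5) K) : linK g TP (ent (A, B)) 27 = XP1 g A B 0 2 := by
  have e1 : linK g TP (ent (A, B)) 27 = g ^ 50 * B 0 2 + (g ^ 64 * A 2 1 + 0) := rfl
  have e2 : XP1 g A B 0 2 = g ^ 50 * B 0 2 + g ^ 64 * A 2 1 := rfl
  rw [e1, e2]; ring
theorem p1_03 (g : K) (A B : Matrix (Fin 5) (Fin 5) K) : linK g TP (ent (A, B)) 28 = XP1 g A B 0 3 := by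
  have e1 : linK g TP (ent (A, B)) 28 = g ^ 70 * B 0 3 + (g ^ 48 * A 4 0 + 0) := rfl
  have e2 : XP1 g A B 0 3 = g ^ 70 * B 0 3 + g ^ 48 * A 4 0 := rfl
  rw [e1, e2]; ring
theorem p1_04 (g : K) (A B : Matrix (Fin 5) (Fin 5) K) : linK g TP (ent (A, B)) 29 = XP1 g A B 0 4 := by
  have e1 : linK g TP (ent (A, B)) 29 = 0 := rfl
  have e2 : XP1 g A B 0 4 = 0 := rfl
  rw [e1, e2]
theorem p1_10 (g : K) (A B : Matrix (Fin 5) (Fin 5) K) : linK g TP (ent (A, B)) 30 = XP1 g A B 1 0 := by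
  have e1 : linK g TP (ent (A, B)) 30 = 0 := rfl
  have e2 : XP1 g A B 1 0 = 0 := rfl
  rw [e1, e2]
theorem p1_11 (g : K) (A B : Matrix (Fin 5) (Fin 5) K) : linK g TP (ent (A, B)) 31 = XP1 g A B 1 1 := by
  have e1 : linK g TP (ent (A, B)) 31 = g ^ 69 * A 0 0 + (g ^ 63 * A 1 1 + (g ^ 7 * A 2 2 + (g ^ 61 * A 3 3 + (g ^ 78 * B 0 0 + (g ^ 62 * B 2 2 + (g ^ 29 * B 3 3 + (g ^ 21 * B 4 4 + 0))))))) := rfl
  have e2 : XP1 g A B 1 1 = cr5 (k10 g) A 1 + cr5 (k11 g) B 1 := rfl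
  have e3 : cr5 (k10 g) A 1 = g ^ 69 * A 0 0 + g ^ 63 * A 1 1 + g ^ 7 * A 2 2 + g ^ 61 * A 3 3 + 0 * A 4 4 := by
    unfold cr5; rw [Fin.sum_univ_five]; rfl
  have e4 : cr5 (k11 g) B 1 = g ^ 78 * B 0 0 + 0 * B 1 1 + g ^ 62 * B 2 2 + g ^ 29 * B 3 3 + g ^ 21 * B 4 4 := by
    unfold cr5; rw [Fin.sum_univ_five]; rfl
  rw [e1, e2, e3, e4]; ring
theorem p1_12 (g : K) (A B : Matrix (Fin 5) (Fin 5) K) : linK g TP (ent (A, B)) 32 = XP1 g A B 1 2 := by
  have e1 : linK g TP (ent (A, B)) 32 = g ^ 0 * B 1 2 + 0 := rfl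
  have e2 : XP1 g A B 1 2 = B 1 2 := rfl
  rw [e1, e2]; ring
theorem p1_13 (g : K) (A B : Matrix (Fin 5) (Fin 5) K) : linK g TP (ent (A, B)) 33 = XP1 g A B 1 3 := by
  have e1 : linK g TP (ent (A, B)) 33 = g ^ 50 * B 1 3 + (g ^ 8 * A 3 2 + 0) := rfl
  have e2 : XP1 g A B 1 3 = g ^ 50 * B 1 3 + g ^ 8 * A 3 2 := rfl
  rw [e1, e2]; ring
theorem p1_14 (g : K) (A B : Matrix (Fin 5) (Fin 5) K) : linK g TP (ent (A, B)) 34 = XP1 g A B 1 4 := by
  have e1 : linK g TP (ent (A, B)) 34 = g ^ 70 * B 1 4 + (g ^ 24 * A 0 1 + 0) := rfl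
  have e2 : XP1 g A B 1 4 = g ^ 70 * B 1 4 + g ^ 24 * A 0 1 := rfl
  rw [e1, e2]; ring
theorem p1_20 (g : K) (A B : Matrix (Fin 5) (Fin 5) K) : linK g TP (ent (A, B)) 35 = XP1 g A B 2 0 := by
  have e1 : linK g TP (ent (A, B)) 35 = g ^ 70 * B 2 0 + (g ^ 16 * A 1 2 + 0) := rfl
  have e2 : XP1 g A B 2 0 = g ^ 70 * B 2 0 + g ^ 16 * A 1 2 := rfl
  rw [e1, e2]; ring
theorem p1_21 (g : K) (A B : Matrix (Fin 5) (Fin 5) K) : linK g TP (ent (A, B)) 36 = XP1 g A B 2 1 := by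
  have e1 : linK g TP (ent (A, B)) 36 = 0 := rfl
  have e2 : XP1 g A B 2 1 = 0 := rfl
  rw [e1, e2]
theorem p1_22 (g : K) (A B : Matrix (Fin 5) (Fin 5) K) : linK g TP (ent (A, B)) 37 = XP1 g A B 2 2 := by
  have e1 : linK g TP (ent (A, B)) 37 = g ^ 69 * A 1 1 + (g ^ 63 * A 2 2 + (g ^ 7 * A 3 3 + (g ^ 61 * A 4 4 + (g ^ 21 * B 0 0 + (g ^ 78 * B 1 1 + (g ^ 62 * B 3 3 + (g ^ 29 * B 4 4 + 0))))))) := rfl
  have e2 : XP1 g A B 2 2 = cr5 (k10 g) A 2 + cr5 (k11 g) B 2 := rfl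
  have e3 : cr5 (k10 g) A 2 = 0 * A 0 0 + g ^ 69 * A 1 1 + g ^ 63 * A 2 2 + g ^ 7 * A 3 3 + g ^ 61 * A 4 4 := by
    unfold cr5; rw [Fin.sum_univ_five]; rfl
  have e4 : cr5 (k11 g) B 2 = g ^ 21 * B 0 0 + g ^ 78 * B 1 1 + 0 * B 2 2 + g ^ 62 * B 3 3 + g ^ 29 * B 4 4 := by
    unfold cr5; rw [Fin.sum_univ_five]; rfl
  rw [e1, e2, e3, e4]; ring
theorem p1_23 (g : K) (A B : Matrix (Fin 5) (Fin 5) K) : linK g TP (ent (A, B)) 38 = XP1 g A B 2 3 := by
  have e1 : linK g TP (ent (A, B)) 38 = g ^ 0 * B 2 3 + 0 := rfl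
  have e2 : XP1 g A B 2 3 = B 2 3 := rfl
  rw [e1, e2]; ring
theorem p1_24 (g : K) (A B : Matrix (Fin 5) (Fin 5) K) : linK g TP (ent (A, B)) 39 = XP1 g A B 2 4 := by
  have e1 : linK g TP (ent (A, B)) 39 = g ^ 50 * B 2 4 + (g ^ 20 * A 4 3 + 0) := rfl
  have e2 : XP1 g A B 2 4 = g ^ 50 * B 2 4 + g ^ 20 * A 4 3 := rfl
  rw [e1, e2]; ring
theorem p1_30 (g : K) (A B : Matrix (Fin 5) (Fin 5) K) : linK g TP (ent (A, B)) 40 = XP1 g A B 3 0 := by
  have e1 : linK g TP (ent (A, B)) 40 = g ^ 50 * B 3 0 + (g ^ 32 * A 0 4 + 0) := rfl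
  have e2 : XP1 g A B 3 0 = g ^ 50 * B 3 0 + g ^ 32 * A 0 4 := rfl
  rw [e1, e2]; ring
theorem p1_31 (g : K) (A B : Matrix (Fin 5) (Fin 5) K) : linK g TP (ent (A, B)) 41 = XP1 g A B 3 1 := by
  have e1 : linK g TP (ent (A, B)) 41 = g ^ 70 * B 3 1 + (g ^ 72 * A 2 3 + 0) := rfl
  have e2 : XP1 g A B 3 1 = g ^ 70 * B 3 1 + g ^ 72 * A 2 3 := rfl
  rw [e1, e2]; ring
theorem p1_32 (g : K) (A B : Matrix (Fin 5) (Fin 5) K) : linK g TP (ent (A, B)) 42 = XP1 g A B 3 2 := by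
  have e1 : linK g TP (ent (A, B)) 42 = 0 := rfl
  have e2 : XP1 g A B 3 2 = 0 := rfl
  rw [e1, e2]
theorem p1_33 (g : K) (A B : Matrix (Fin 5) (Fin 5) K) : linK g TP (ent (A, B)) 43 = XP1 g A B 3 3 := by
  have e1 : linK g TP (ent (A, B)) 43 = g ^ 61 * A 0 0 + (g ^ 69 * A 2 2 + (g ^ 63 * A 3 3 + (g ^ 7 * A 4 4 + (g ^ 29 * B 0 0 + (g ^ 21 * B 1 1 + (g ^ 78 * B 2 2 + (g ^ 62 * B 4 4 + 0))))))) := rfl
  have e2 : XP1 g A B 3 3 = cr5 (k10 g) A 3 + cr5 (k11 g) B 3 := rfl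
  have e3 : cr5 (k10 g) A 3 = g ^ 61 * A 0 0 + 0 * A 1 1 + g ^ 69 * A 2 2 + g ^ 63 * A 3 3 + g ^ 7 * A 4 4 := by
    unfold cr5; rw [Fin.sum_univ_five]; rfl
  have e4 : cr5 (k11 g) B 3 = g ^ 29 * B 0 0 + g ^ 21 * B 1 1 + g ^ 78 * B 2 2 + 0 * B 3 3 + g ^ 62 * B 4 4 := by
    unfold cr5; rw [Fin.sum_univ_five]; rfl
  rw [e1, e2, e3, e4]; ring
theorem p1_34 (g : K) (A B : Matrix (Fin 5) (Fin 5) K) : linK g TP (ent (A, B)) 44 = XP1 g A B 3 4 := by
  have e1 : linK g TP (ent (A, B)) 44 = g ^ 0 * B 3 4 + 0 := rfl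
  have e2 : XP1 g A B 3 4 = B 3 4 := rfl
  rw [e1, e2]; ring
theorem p1_40 (g : K) (A B : Matrix (Fin 5) (Fin 5) K) : linK g TP (ent (A, B)) 45 = XP1 g A B 4 0 := by
  have e1 : linK g TP (ent (A, B)) 45 = g ^ 0 * B 4 0 + 0 := rfl
  have e2 : XP1 g A B 4 0 = B 4 0 := rfl
  rw [e1, e2]; ring
theorem p1_41 (g : K) (A B : Matrix (Fin 5) (Fin 5) K) : linK g TP (ent (A, B)) 46 = XP1 g A B 4 1 := by
  have e1 : linK g TP (ent (A, B)) 46 = g ^ 50 * B 4 1 + (g ^ 56 * A 1 0 + 0) := rfl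
  have e2 : XP1 g A B 4 1 = g ^ 50 * B 4 1 + g ^ 56 * A 1 0 := rfl
  rw [e1, e2]; ring
theorem p1_42 (g : K) (A B : Matrix (Fin 5) (Fin 5) K) : linK g TP (ent (A, B)) 47 = XP1 g A B 4 2 := by
  have e1 : linK g TP (ent (A, B)) 47 = g ^ 70 * B 4 2 + (g ^ 60 * A 3 4 + 0) := rfl
  have e2 : XP1 g A B 4 2 = g ^ 70 * B 4 2 + g ^ 60 * A 3 4 := rfl
  rw [e1, e2]; ring
theorem p1_43 (g : K) (A B : Matrix (Fin 5) (Fin 5) K) : linK g TP (ent (A, B)) 48 = XP1 g A B 4 3 := by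
  have e1 : linK g TP (ent (A, B)) 48 = 0 := rfl
  have e2 : XP1 g A B 4 3 = 0 := rfl
  rw [e1, e2]
theorem p1_44 (g : K) (A B : Matrix (Fin 5) (Fin 5) K) : linK g TP (ent (A, B)) 49 = XP1 g A B 4 4 := by
  have e1 : linK g TP (ent (A, B)) 49 = g ^ 7 * A 0 0 + (g ^ 61 * A 1 1 + (g ^ 69 * A 3 3 + (g ^ 63 * A 4 4 + (g ^ 62 * B 0 0 + (g ^ 29 * B 1 1 + (g ^ 21 * B 2 2 + (g ^ 78 * B 3 3 + 0))))))) := rfl
  have e2 : XP1 g A B 4 4 = cr5 (k10 g) A 4 + cr5 (k11 g) B 4 := rfl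
  have e3 : cr5 (k10 g) A 4 = g ^ 7 * A 0 0 + g ^ 61 * A 1 1 + 0 * A 2 2 + g ^ 69 * A 3 3 + g ^ 63 * A 4 4 := by
    unfold cr5; rw [Fin.sum_univ_five]; rfl
  have e4 : cr5 (k11 g) B 4 = g ^ 62 * B 0 0 + g ^ 29 * B 1 1 + g ^ 21 * B 2 2 + g ^ 78 * B 3 3 + 0 * B 4 4 := by
    unfold cr5; rw [Fin.sum_univ_five]; rfl
  rw [e1, e2, e3, e4]; ring

theorem m0_00 (g : K) (A B : Matrix (Fin 5) (Fin 5) K) : linK g TM (ent (A, B)) 0 = XM0 g A B 0 0 := by
  have e1 : linK g TM (ent (A, B)) 0 = g ^ 63 * A 1 1 + (g ^ 26 * A 2 2 + (g ^ 74 * A 3 3 + (g ^ 7 * A 4 4 + (g ^ 63 * B 0 0 + (g ^ 69 * B 1 1 + (g ^ 61 * B 3 3 + (g ^ 7 * B 4 4 + 0))))))) := rfl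
  have e2 : XM0 g A B 0 0 = cr5 (m00 g) A 0 + cr5 (m01 g) B 0 := rfl
  have e3 : cr5 (m00 g) A 0 = 0 * A 0 0 + g ^ 63 * A 1 1 + g ^ 26 * A 2 2 + g ^ 74 * A 3 3 + g ^ 7 * A 4 4 := by
    unfold cr5; rw [Fin.sum_univ_five]; rfl
  have e4 : cr5 (m01 g) B 0 = g ^ 63 * B 0 0 + g ^ 69 * B 1 1 + 0 * B 2 2 + g ^ 61 * B 3 3 + g ^ 7 * B 4 4 := by
    unfold cr5; rw [Fin.sum_univ_five]; rfl
  rw [e1, e2, e3, e4]; ring
theorem m0_01 (g : K) (A B : Matrix (Fin 5) (Fin 5) K) : linK g TM (ent (A, B)) 1 = XM0 g A B 0 1 := by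
  have e1 : linK g TM (ent (A, B)) 1 = g ^ 70 * A 0 1 + ((-g ^ 16) * B 1 4 + 0) := rfl
  have e2 : XM0 g A B 0 1 = g ^ 70 * A 0 1 - g ^ 16 * B 1 4 := rfl
  rw [e1, e2]; ring
theorem m0_02 (g : K) (A B : Matrix (Fin 5) (Fin 5) K) : linK g TM (ent (A, B)) 2 = XM0 g A B 0 2 := by
  have e1 : linK g TM (ent (A, B)) 2 = 0 := rfl
  have e2 : XM0 g A B 0 2 = 0 := rfl
  rw [e1, e2]
theorem m0_03 (g : K) (A B : Matrix (Fin 5) (Fin 5) K) : linK g TM (ent (A, B)) 3 = XM0 g A B 0 3 := by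
  have e1 : linK g TM (ent (A, B)) 3 = g ^ 0 * A 0 3 + 0 := rfl
  have e2 : XM0 g A B 0 3 = A 0 3 := rfl
  rw [e1, e2]; ring
theorem m0_04 (g : K) (A B : Matrix (Fin 5) (Fin 5) K) : linK g TM (ent (A, B)) 4 = XM0 g A B 0 4 := by
  have e1 : linK g TM (ent (A, B)) 4 = g ^ 50 * A 0 4 + ((-g ^ 8) * B 3 0 + 0) := rfl
  have e2 : XM0 g A B 0 4 = g ^ 50 * A 0 4 - g ^ 8 * B 3 0 := rfl
  rw [e1, e2]; ring
theorem m0_10 (g : K) (A B : Matrix (Fin 5) (Fin 5) K) : linK g TM (ent (A, B)) 5 = XM0 g A B 1 0 := by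
  have e1 : linK g TM (ent (A, B)) 5 = g ^ 50 * A 1 0 + ((-g ^ 64) * B 4 1 + 0) := rfl
  have e2 : XM0 g A B 1 0 = g ^ 50 * A 1 0 - g ^ 64 * B 4 1 := rfl
  rw [e1, e2]; ring
theorem m0_11 (g : K) (A B : Matrix (Fin 5) (Fin 5) K) : linK g TM (ent (A, B)) 6 = XM0 g A B 1 1 := by
  have e1 : linK g TM (ent (A, B)) 6 = g ^ 7 * A 0 0 + (g ^ 63 * A 2 2 + (g ^ 26 * A 3 3 + (g ^ 74 * A 4 4 + (g ^ 7 * B 0 0 + (g ^ 63 * B 1 1 + (g ^ 69 * B 2 2 + (g ^ 61 * B 4 4 + 0))))))) := rfl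
  have e2 : XM0 g A B 1 1 = cr5 (m00 g) A 1 + cr5 (m01 g) B 1 := rfl
  have e3 : cr5 (m00 g) A 1 = g ^ 7 * A 0 0 + 0 * A 1 1 + g ^ 63 * A 2 2 + g ^ 26 * A 3 3 + g ^ 74 * A 4 4 := by
    unfold cr5; rw [Fin.sum_univ_five]; rfl
  have e4 : cr5 (m01 g) B 1 = g ^ 7 * B 0 0 + g ^ 63 * B 1 1 + g ^ 69 * B 2 2 + 0 * B 3 3 + g ^ 61 * B 4 4 := by
    unfold cr5; rw [Fin.sum_univ_five]; rfl
  rw [e1, e2, e3, e4]; ring
theorem m0_12 (g : K) (A B : Matrix (Fin 5) (Fin 5) K) : linK g TM (ent (A, B)) 7 = XM0 g A B 1 2 := by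
  have e1 : linK g TM (ent (A, B)) 7 = g ^ 70 * A 1 2 + ((-g ^ 24) * B 2 0 + 0) := rfl
  have e2 : XM0 g A B 1 2 = g ^ 70 * A 1 2 - g ^ 24 * B 2 0 := rfl
  rw [e1, e2]; ring
theorem m0_13 (g : K) (A B : Matrix (Fin 5) (Fin 5) K) : linK g TM (ent (A, B)) 8 = XM0 g A B 1 3 := by
  have e1 : linK g TM (ent (A, B)) 8 = 0 := rfl
  have e2 : XM0 g A B 1 3 = 0 := rfl
  rw [e1, e2]
theorem m0_14 (g : K) (A B : Matrix (Fin 5) (Fin 5) K) : linK g TM (ent (A, B)) 9 = XM0 g A B 1 4 := by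
  have e1 : linK g TM (ent (A, B)) 9 = g ^ 0 * A 1 4 + 0 := rfl
  have e2 : XM0 g A B 1 4 = A 1 4 := rfl
  rw [e1, e2]; ring
theorem m0_20 (g : K) (A B : Matrix (Fin 5) (Fin 5) K) : linK g TM (ent (A, B)) 10 = XM0 g A B 2 0 := by
  have e1 : linK g TM (ent (A, B)) 10 = g ^ 0 * A 2 0 + 0 := rfl
  have e2 : XM0 g A B 2 0 = A 2 0 := rfl
  rw [e1, e2]; ring
theorem m0_21 (g : K) (A B : Matrix (Fin 5) (Fin 5) K) : linK g TM (ent (A, B)) 11 = XM0 g A B 2 1 := by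
  have e1 : linK g TM (ent (A, B)) 11 = g ^ 50 * A 2 1 + ((-g ^ 56) * B 0 2 + 0) := rfl
  have e2 : XM0 g A B 2 1 = g ^ 50 * A 2 1 - g ^ 56 * B 0 2 := rfl
  rw [e1, e2]; ring
theorem m0_22 (g : K) (A B : Matrix (Fin 5) (Fin 5) K) : linK g TM (ent (A, B)) 12 = XM0 g A B 2 2 := by
  have e1 : linK g TM (ent (A, B)) 12 = g ^ 74 * A 0 0 + (g ^ 7 * A 1 1 + (g ^ 63 * A 3 3 + (g ^ 26 * A 4 4 + (g ^ 61 * B 0 0 + (g ^ 7 * B 1 1 + (g ^ 63 * B 2 2 + (g ^ 69 * B 3 3 + 0))))))) := rfl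
  have e2 : XM0 g A B 2 2 = cr5 (m00 g) A 2 + cr5 (m01 g) B 2 := rfl
  have e3 : cr5 (m00 g) A 2 = g ^ 74 * A 0 0 + g ^ 7 * A 1 1 + 0 * A 2 2 + g ^ 63 * A 3 3 + g ^ 26 * A 4 4 := by
    unfold cr5; rw [Fin.sum_univ_five]; rfl
  have e4 : cr5 (m01 g) B 2 = g ^ 61 * B 0 0 + g ^ 7 * B 1 1 + g ^ 63 * B 2 2 + g ^ 69 * B 3 3 + 0 * B 4 4 := by
    unfold cr5; rw [Fin.sum_univ_five]; rfl
  rw [e1, e2, e3, e4]; ring
theorem m0_23 (g : K) (A B : Matrix (Fin 5) (Fin 5) K) : linK g TM (ent (A, B)) 13 = XM0 g A B 2 3 := by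
  have e1 : linK g TM (ent (A, B)) 13 = g ^ 70 * A 2 3 + ((-g ^ 48) * B 3 1 + 0) := rfl
  have e2 : XM0 g A B 2 3 = g ^ 70 * A 2 3 - g ^ 48 * B 3 1 := rfl
  rw [e1, e2]; ring
theorem m0_24 (g : K) (A B : Matrix (Fin 5) (Fin 5) K) : linK g TM (ent (A, B)) 14 = XM0 g A B 2 4 := by
  have e1 : linK g TM (ent (A, B)) 14 = 0 := rfl
  have e2 : XM0 g A B 2 4 = 0 := rfl
  rw [e1, e2]
theorem m0_30 (g : K) (A B : Matrix (Fin 5) (Fin 5) K) : linK g TM (ent (A, B)) 15 = XM0 g A B 3 0 := by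
  have e1 : linK g TM (ent (A, B)) 15 = 0 := rfl
  have e2 : XM0 g A B 3 0 = 0 := rfl
  rw [e1, e2]
theorem m0_31 (g : K) (A B : Matrix (Fin 5) (Fin 5) K) : linK g TM (ent (A, B)) 16 = XM0 g A B 3 1 := by
  have e1 : linK g TM (ent (A, B)) 16 = g ^ 0 * A 3 1 + 0 := rfl
  have e2 : XM0 g A B 3 1 = A 3 1 := rfl
  rw [e1, e2]; ring
theorem m0_32 (g : K) (A B : Matrix (Fin 5) (Fin 5) K) : linK g TM (ent (A, B)) 17 = XM0 g A B 3 2 := by
  have e1 : linK g TM (ent (A, B)) 17 = g ^ 50 * A 3 2 + ((-g ^ 32) * B 1 3 + 0) := rfl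
  have e2 : XM0 g A B 3 2 = g ^ 50 * A 3 2 - g ^ 32 * B 1 3 := rfl
  rw [e1, e2]; ring
theorem m0_33 (g : K) (A B : Matrix (Fin 5) (Fin 5) K) : linK g TM (ent (A, B)) 18 = XM0 g A B 3 3 := by
  have e1 : linK g TM (ent (A, B)) 18 = g ^ 26 * A 0 0 + (g ^ 74 * A 1 1 + (g ^ 7 * A 2 2 + (g ^ 63 * A 4 4 + (g ^ 61 * B 1 1 + (g ^ 7 * B 2 2 + (g ^ 63 * B 3 3 + (g ^ 69 * B 4 4 + 0))))))) := rfl
  have e2 : XM0 g A B 3 3 = cr5 (m00 g) A 3 + cr5 (m01 g) B 3 := rfl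
  have e3 : cr5 (m00 g) A 3 = g ^ 26 * A 0 0 + g ^ 74 * A 1 1 + g ^ 7 * A 2 2 + 0 * A 3 3 + g ^ 63 * A 4 4 := by
    unfold cr5; rw [Fin.sum_univ_five]; rfl
  have e4 : cr5 (m01 g) B 3 = 0 * B 0 0 + g ^ 61 * B 1 1 + g ^ 7 * B 2 2 + g ^ 63 * B 3 3 + g ^ 69 * B 4 4 := by
    unfold cr5; rw [Fin.sum_univ_five]; rfl
  rw [e1, e2, e3, e4]; ring
theorem m0_34 (g : K) (A B : Matrix (Fin 5) (Fin 5) K) : linK g TM (ent (A, B)) 19 = XM0 g A B 3 4 := by
  have e1 : linK g TM (ent (A, B)) 19 = g ^ 70 * A 3 4 + ((-g ^ 60) * B 4 2 + 0) := rfl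
  have e2 : XM0 g A B 3 4 = g ^ 70 * A 3 4 - g ^ 60 * B 4 2 := rfl
  rw [e1, e2]; ring
theorem m0_40 (g : K) (A B : Matrix (Fin 5) (Fin 5) K) : linK g TM (ent (A, B)) 20 = XM0 g A B 4 0 := by
  have e1 : linK g TM (ent (A, B)) 20 = g ^ 70 * A 4 0 + ((-g ^ 72) * B 0 3 + 0) := rfl
  have e2 : XM0 g A B 4 0 = g ^ 70 * A 4 0 - g ^ 72 * B 0 3 := rfl
  rw [e1, e2]; ring
theorem m0_41 (g : K) (A B : Matrix (Fin 5) (Fin 5) K) : linK g TM (ent (A, B)) 21 = XM0 g A B 4 1 := by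
  have e1 : linK g TM (ent (A, B)) 21 = 0 := rfl
  have e2 : XM0 g A B 4 1 = 0 := rfl
  rw [e1, e2]
theorem m0_42 (g : K) (A B : Matrix (Fin 5) (Fin 5) K) : linK g TM (ent (A, B)) 22 = XM0 g A B 4 2 := by
  have e1 : linK g TM (ent (A, B)) 22 = g ^ 0 * A 4 2 + 0 := rfl
  have e2 : XM0 g A B 4 2 = A 4 2 := rfl
  rw [e1, e2]; ring
theorem m0_43 (g : K) (A B : Matrix (Fin 5) (Fin 5) K) : linK g TM (ent (A, B)) 23 = XM0 g A B 4 3 := by
  have e1 : linK g TM (ent (A, B)) 23 = g ^ 50 * A 4 3 + ((-g ^ 20) * B 2 4 + 0) := rfl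
  have e2 : XM0 g A B 4 3 = g ^ 50 * A 4 3 - g ^ 20 * B 2 4 := rfl
  rw [e1, e2]; ring
theorem m0_44 (g : K) (A B : Matrix (Fin 5) (Fin 5) K) : linK g TM (ent (A, B)) 24 = XM0 g A B 4 4 := by
  have e1 : linK g TM (ent (A, B)) 24 = g ^ 63 * A 0 0 + (g ^ 26 * A 1 1 + (g ^ 74 * A 2 2 + (g ^ 7 * A 3 3 + (g ^ 69 * B 0 0 + (g ^ 61 * B 2 2 + (g ^ 7 * B 3 3 + (g ^ 63 * B 4 4 + 0))))))) := rfl
  have e2 : XM0 g A B 4 4 = cr5 (m00 g) A 4 + cr5 (m01 g) B 4 := rfl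
  have e3 : cr5 (m00 g) A 4 = g ^ 63 * A 0 0 + g ^ 26 * A 1 1 + g ^ 74 * A 2 2 + g ^ 7 * A 3 3 + 0 * A 4 4 := by
    unfold cr5; rw [Fin.sum_univ_five]; rfl
  have e4 : cr5 (m01 g) B 4 = g ^ 69 * B 0 0 + 0 * B 1 1 + g ^ 61 * B 2 2 + g ^ 7 * B 3 3 + g ^ 63 * B 4 4 := by
    unfold cr5; rw [Fin.sum_univ_five]; rfl
  rw [e1, e2, e3, e4]; ring

theorem m1_00 (g : K) (A B : Matrix (Fin 5) (Fin 5) K) : linK g TM (ent (A, B)) 25 = XM1 g A B 0 0 := by
  have e1 : linK g TM (ent (A, B)) 25 = g ^ 7 * A 0 0 + (g ^ 63 * A 1 1 + (g ^ 69 * A 2 2 + (g ^ 61 * A 4 4 + (g ^ 78 * B 1 1 + (g ^ 21 * B 2 2 + (g ^ 29 * B 3 3 + (g ^ 62 * B 4 4 + 0))))))) := rfl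
  have e2 : XM1 g A B 0 0 = cr5 (m10 g) A 0 + cr5 (m11 g) B 0 := rfl
  have e3 : cr5 (m10 g) A 0 = g ^ 7 * A 0 0 + g ^ 63 * A 1 1 + g ^ 69 * A 2 2 + 0 * A 3 3 + g ^ 61 * A 4 4 := by
    unfold cr5; rw [Fin.sum_univ_five]; rfl
  have e4 : cr5 (m11 g) B 0 = 0 * B 0 0 + g ^ 78 * B 1 1 + g ^ 21 * B 2 2 + g ^ 29 * B 3 3 + g ^ 62 * B 4 4 := by
    unfold cr5; rw [Fin.sum_univ_five]; rfl
  rw [e1, e2, e3, e4]; ring
theorem m1_01 (g : K) (A B : Matrix (Fin 5) (Fin 5) K) : linK g TM (ent (A, B)) 26 = XM1 g A B 0 1 := by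
  have e1 : linK g TM (ent (A, B)) 26 = 0 := rfl
  have e2 : XM1 g A B 0 1 = 0 := rfl
  rw [e1, e2]
theorem m1_02 (g : K) (A B : Matrix (Fin 5) (Fin 5) K) : linK g TM (ent (A, B)) 27 = XM1 g A B 0 2 := by
  have e1 : linK g TM (ent (A, B)) 27 = g ^ 70 * B 0 2 + ((-g ^ 64) * A 2 1 + 0) := rfl
  have e2 : XM1 g A B 0 2 = g ^ 70 * B 0 2 - g ^ 64 * A 2 1 := rfl
  rw [e1, e2]; ring
theorem m1_03 (g : K) (A B : Matrix (Fin 5) (Fin 5) K) : linK g TM (ent (A, B)) 28 = XM1 g A B 0 3 := by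
  have e1 : linK g TM (ent (A, B)) 28 = g ^ 50 * B 0 3 + ((-g ^ 48) * A 4 0 + 0) := rfl
  have e2 : XM1 g A B 0 3 = g ^ 50 * B 0 3 - g ^ 48 * A 4 0 := rfl
  rw [e1, e2]; ring
theorem m1_04 (g : K) (A B : Matrix (Fin 5) (Fin 5) K) : linK g TM (ent (A, B)) 29 = XM1 g A B 0 4 := by
  have e1 : linK g TM (ent (A, B)) 29 = g ^ 0 * B 0 4 + 0 := rfl
  have e2 : XM1 g A B 0 4 = B 0 4 := rfl
  rw [e1, e2]; ring
theorem m1_10 (g : K) (A B : Matrix (Fin 5) (Fin 5) K) : linK g TM (ent (A, B)) 30 = XM1 g A B 1 0 := by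
  have e1 : linK g TM (ent (A, B)) 30 = g ^ 0 * B 1 0 + 0 := rfl
  have e2 : XM1 g A B 1 0 = B 1 0 := rfl
  rw [e1, e2]; ring
theorem m1_11 (g : K) (A B : Matrix (Fin 5) (Fin 5) K) : linK g TM (ent (A, B)) 31 = XM1 g A B 1 1 := by
  have e1 : linK g TM (ent (A, B)) 31 = g ^ 61 * A 0 0 + (g ^ 7 * A 1 1 + (g ^ 63 * A 2 2 + (g ^ 69 * A 3 3 + (g ^ 62 * B 0 0 + (g ^ 78 * B 2 2 + (g ^ 21 * B 3 3 + (g ^ 29 * B 4 4 + 0))))))) := rfl
  have e2 : XM1 g A B 1 1 = cr5 (m10 g) A 1 + cr5 (m11 g) B 1 := rfl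
  have e3 : cr5 (m10 g) A 1 = g ^ 61 * A 0 0 + g ^ 7 * A 1 1 + g ^ 63 * A 2 2 + g ^ 69 * A 3 3 + 0 * A 4 4 := by
    unfold cr5; rw [Fin.sum_univ_five]; rfl
  have e4 : cr5 (m11 g) B 1 = g ^ 62 * B 0 0 + 0 * B 1 1 + g ^ 78 * B 2 2 + g ^ 21 * B 3 3 + g ^ 29 * B 4 4 := by
    unfold cr5; rw [Fin.sum_univ_five]; rfl
  rw [e1, e2, e3, e4]; ring
theorem m1_12 (g : K) (A B : Matrix (Fin 5) (Fin 5) K) : linK g TM (ent (A, B)) 32 = XM1 g A B 1 2 := by
  have e1 : linK g TM (ent (A, B)) 32 = 0 := rfl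
  have e2 : XM1 g A B 1 2 = 0 := rfl
  rw [e1, e2]
theorem m1_13 (g : K) (A B : Matrix (Fin 5) (Fin 5) K) : linK g TM (ent (A, B)) 33 = XM1 g A B 1 3 := by
  have e1 : linK g TM (ent (A, B)) 33 = g ^ 70 * B 1 3 + ((-g ^ 8) * A 3 2 + 0) := rfl
  have e2 : XM1 g A B 1 3 = g ^ 70 * B 1 3 - g ^ 8 * A 3 2 := rfl
  rw [e1, e2]; ring
theorem m1_14 (g : K) (A B : Matrix (Fin 5) (Fin 5) K) : linK g TM (ent (A, B)) 34 = XM1 g A B 1 4 := by
  have e1 : linK g TM (ent (A, B)) 34 = g ^ 50 * B 1 4 + ((-g ^ 24) * A 0 1 + 0) := rfl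
  have e2 : XM1 g A B 1 4 = g ^ 50 * B 1 4 - g ^ 24 * A 0 1 := rfl
  rw [e1, e2]; ring
theorem m1_20 (g : K) (A B : Matrix (Fin 5) (Fin 5) K) : linK g TM (ent (A, B)) 35 = XM1 g A B 2 0 := by
  have e1 : linK g TM (ent (A, B)) 35 = g ^ 50 * B 2 0 + ((-g ^ 16) * A 1 2 + 0) := rfl
  have e2 : XM1 g A B 2 0 = g ^ 50 * B 2 0 - g ^ 16 * A 1 2 := rfl
  rw [e1, e2]; ring
theorem m1_21 (g : K) (A B : Matrix (Fin 5) (Fin 5) K) : linK g TM (ent (A, B)) 36 = XM1 g A B 2 1 := by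
  have e1 : linK g TM (ent (A, B)) 36 = g ^ 0 * B 2 1 + 0 := rfl
  have e2 : XM1 g A B 2 1 = B 2 1 := rfl
  rw [e1, e2]; ring
theorem m1_22 (g : K) (A B : Matrix (Fin 5) (Fin 5) K) : linK g TM (ent (A, B)) 37 = XM1 g A B 2 2 := by
  have e1 : linK g TM (ent (A, B)) 37 = g ^ 61 * A 1 1 + (g ^ 7 * A 2 2 + (g ^ 63 * A 3 3 + (g ^ 69 * A 4 4 + (g ^ 29 * B 0 0 + (g ^ 62 * B 1 1 + (g ^ 78 * B 3 3 + (g ^ 21 * B 4 4 + 0))))))) := rfl
  have e2 : XM1 g A B 2 2 = cr5 (m10 g) A 2 + cr5 (m11 g) B 2 := rfl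
  have e3 : cr5 (m10 g) A 2 = 0 * A 0 0 + g ^ 61 * A 1 1 + g ^ 7 * A 2 2 + g ^ 63 * A 3 3 + g ^ 69 * A 4 4 := by
    unfold cr5; rw [Fin.sum_univ_five]; rfl
  have e4 : cr5 (m11 g) B 2 = g ^ 29 * B 0 0 + g ^ 62 * B 1 1 + 0 * B 2 2 + g ^ 78 * B 3 3 + g ^ 21 * B 4 4 := by
    unfold cr5; rw [Fin.sum_univ_five]; rfl
  rw [e1, e2, e3, e4]; ring
theorem m1_23 (g : K) (A B : Matrix (Fin 5) (Fin 5) K) : linK g TM (ent (A, B)) 38 = XM1 g A B 2 3 := by
  have e1 : linK g TM (ent (A, B)) 38 = 0 := rfl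
  have e2 : XM1 g A B 2 3 = 0 := rfl
  rw [e1, e2]
theorem m1_24 (g : K) (A B : Matrix (Fin 5) (Fin 5) K) : linK g TM (ent (A, B)) 39 = XM1 g A B 2 4 := by
  have e1 : linK g TM (ent (A, B)) 39 = g ^ 70 * B 2 4 + ((-g ^ 20) * A 4 3 + 0) := rfl
  have e2 : XM1 g A B 2 4 = g ^ 70 * B 2 4 - g ^ 20 * A 4 3 := rfl
  rw [e1, e2]; ring
theorem m1_30 (g : K) (A B : Matrix (Fin 5) (Fin 5) K) : linK g TM (ent (A, B)) 40 = XM1 g A B 3 0 := by
  have e1 : linK g TM (ent (A, B)) 40 = g ^ 70 * B 3 0 + ((-g ^ 32) * A 0 4 + 0) := rfl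
  have e2 : XM1 g A B 3 0 = g ^ 70 * B 3 0 - g ^ 32 * A 0 4 := rfl
  rw [e1, e2]; ring
theorem m1_31 (g : K) (A B : Matrix (Fin 5) (Fin 5) K) : linK g TM (ent (A, B)) 41 = XM1 g A B 3 1 := by
  have e1 : linK g TM (ent (A, B)) 41 = g ^ 50 * B 3 1 + ((-g ^ 72) * A 2 3 + 0) := rfl
  have e2 : XM1 g A B 3 1 = g ^ 50 * B 3 1 - g ^ 72 * A 2 3 := rfl
  rw [e1, e2]; ring
theorem m1_32 (g : K) (A B : Matrix (Fin 5) (Fin 5) K) : linK g TM (ent (A, B)) 42 = XM1 g A B 3 2 := by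
  have e1 : linK g TM (ent (A, B)) 42 = g ^ 0 * B 3 2 + 0 := rfl
  have e2 : XM1 g A B 3 2 = B 3 2 := rfl
  rw [e1, e2]; ring
theorem m1_33 (g : K) (A B : Matrix (Fin 5) (Fin 5) K) : linK g TM (ent (A, B)) 43 = XM1 g A B 3 3 := by
  have e1 : linK g TM (ent (A, B)) 43 = g ^ 69 * A 0 0 + (g ^ 61 * A 2 2 + (g ^ 7 * A 3 3 + (g ^ 63 * A 4 4 + (g ^ 21 * B 0 0 + (g ^ 29 * B 1 1 + (g ^ 62 * B 2 2 + (g ^ 78 * B 4 4 + 0))))))) := rfl
  have e2 : XM1 g A B 3 3 = cr5 (m10 g) A 3 + cr5 (m11 g) B 3 := rfl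
  have e3 : cr5 (m10 g) A 3 = g ^ 69 * A 0 0 + 0 * A 1 1 + g ^ 61 * A 2 2 + g ^ 7 * A 3 3 + g ^ 63 * A 4 4 := by
    unfold cr5; rw [Fin.sum_univ_five]; rfl
  have e4 : cr5 (m11 g) B 3 = g ^ 21 * B 0 0 + g ^ 29 * B 1 1 + g ^ 62 * B 2 2 + 0 * B 3 3 + g ^ 78 * B 4 4 := by
    unfold cr5; rw [Fin.sum_univ_five]; rfl
  rw [e1, e2, e3, e4]; ring
theorem m1_34 (g : K) (A B : Matrix (Fin 5) (Fin 5) K) : linK g TM (ent (A, B)) 44 = XM1 g A B 3 4 := by
  have e1 : linK g TM (ent (A, B)) 44 = 0 := rfl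
  have e2 : XM1 g A B 3 4 = 0 := rfl
  rw [e1, e2]
theorem m1_40 (g : K) (A B : Matrix (Fin 5) (Fin 5) K) : linK g TM (ent (A, B)) 45 = XM1 g A B 4 0 := by
  have e1 : linK g TM (ent (A, B)) 45 = 0 := rfl
  have e2 : XM1 g A B 4 0 = 0 := rfl
  rw [e1, e2]
theorem m1_41 (g : K) (A B : Matrix (Fin 5) (Fin 5) K) : linK g TM (ent (A, B)) 46 = XM1 g A B 4 1 := by
  have e1 : linK g TM (ent (A, B)) 46 = g ^ 70 * B 4 1 + ((-g ^ 56) * A 1 0 + 0) := rfl
  have e2 : XM1 g A B 4 1 = g ^ 70 * B 4 1 - g ^ 56 * A 1 0 := rfl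
  rw [e1, e2]; ring
theorem m1_42 (g : K) (A B : Matrix (Fin 5) (Fin 5) K) : linK g TM (ent (A, B)) 47 = XM1 g A B 4 2 := by
  have e1 : linK g TM (ent (A, B)) 47 = g ^ 50 * B 4 2 + ((-g ^ 60) * A 3 4 + 0) := rfl
  have e2 : XM1 g A B 4 2 = g ^ 50 * B 4 2 - g ^ 60 * A 3 4 := rfl
  rw [e1, e2]; ring
theorem m1_43 (g : K) (A B : Matrix (Fin 5) (Fin 5) K) : linK g TM (ent (A, B)) 48 = XM1 g A B 4 3 := by
  have e1 : linK g TM (ent (A, B)) 48 = g ^ 0 * B 4 3 + 0 := rfl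
  have e2 : XM1 g A B 4 3 = B 4 3 := rfl
  rw [e1, e2]; ring
theorem m1_44 (g : K) (A B : Matrix (Fin 5) (Fin 5) K) : linK g TM (ent (A, B)) 49 = XM1 g A B 4 4 := by
  have e1 : linK g TM (ent (A, B)) 49 = g ^ 63 * A 0 0 + (g ^ 69 * A 1 1 + (g ^ 61 * A 3 3 + (g ^ 7 * A 4 4 + (g ^ 78 * B 0 0 + (g ^ 21 * B 1 1 + (g ^ 29 * B 2 2 + (g ^ 62 * B 3 3 + 0))))))) := rfl
  have e2 : XM1 g A B 4 4 = cr5 (m10 g) A 4 + cr5 (m11 g) B 4 := rfl
  have e3 : cr5 (m10 g) A 4 = g ^ 63 * A 0 0 + g ^ 69 * A 1 1 + 0 * A 2 2 + g ^ 61 * A 3 3 + g ^ 7 * A 4 4 := by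
    unfold cr5; rw [Fin.sum_univ_five]; rfl
  have e4 : cr5 (m11 g) B 4 = g ^ 78 * B 0 0 + g ^ 21 * B 1 1 + g ^ 29 * B 2 2 + g ^ 62 * B 3 3 + 0 * B 4 4 := by
    unfold cr5; rw [Fin.sum_univ_five]; rfl
  rw [e1, e2, e3, e4]; ring

theorem xp_lin (g : K) (A B : Matrix (Fin 5) (Fin 5) K) : linM g TP (A, B) = (XP0 g A B, XP1 g A B) := by
  refine mkM_eq ?_ ?_
  · intro i j
    fin_cases i <;> fin_cases j
    · exact p0_00 g A B
    · exact p0_01 g A B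
    · exact p0_02 g A B
    · exact p0_03 g A B
    · exact p0_04 g A B
    · exact p0_10 g A B
    · exact p0_11 g A B
    · exact p0_12 g A B
    · exact p0_13 g A B
    · exact p0_14 g A B
    · exact p0_20 g A B
    · exact p0_21 g A B
    · exact p0_22 g A B
    · exact p0_23 g A B
    · exact p0_24 g A B
    · exact p0_30 g A B
    · exact p0_31 g A B
    · exact p0_32 g A B
    · exact p0_33 g A B
    · exact p0_34 g A B
    · exact p0_40 g A B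
    · exact p0_41 g A B
    · exact p0_42 g A B
    · exact p0_43 g A B
    · exact p0_44 g A B
  · intro i j
    fin_cases i <;> fin_cases j
    · exact p1_00 g A B
    · exact p1_01 g A B
    · exact p1_02 g A B
    · exact p1_03 g A B
    · exact p1_04 g A B
    · exact p1_10 g A B
    · exact p1_11 g A B
    · exact p1_12 g A B
    · exact p1_13 g A B
    · exact p1_14 g A B
    · exact p1_20 g A B
    · exact p1_21 g A B
    · exact p1_22 g A B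
    · exact p1_23 g A B
    · exact p1_24 g A B
    · exact p1_30 g A B
    · exact p1_31 g A B
    · exact p1_32 g A B
    · exact p1_33 g A B
    · exact p1_34 g A B
    · exact p1_40 g A B
    · exact p1_41 g A B
    · exact p1_42 g A B
    · exact p1_43 g A B
    · exact p1_44 g A B

theorem xm_lin (g : K) (A B : Matrix (Fin 5) (Fin 5) K) : linM g TM (A, B) = (XM0 g A B, XM1 g A B) := by
  refine mkM_eq ?_ ?_
  · intro i j
    fin_cases i <;> fin_cases j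
    · exact m0_00 g A B
    · exact m0_01 g A B
    · exact m0_02 g A B
    · exact m0_03 g A B
    · exact m0_04 g A B
    · exact m0_10 g A B
    · exact m0_11 g A B
    · exact m0_12 g A B
    · exact m0_13 g A B
    · exact m0_14 g A B
    · exact m0_20 g A B
    · exact m0_21 g A B
    · exact m0_22 g A B
    · exact m0_23 g A B
    · exact m0_24 g A B
    · exact m0_30 g A B
    · exact m0_31 g A B
    · exact m0_32 g A B
    · exact m0_33 g A B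
    · exact m0_34 g A B
    · exact m0_40 g A B
    · exact m0_41 g A B
    · exact m0_42 g A B
    · exact m0_43 g A B
    · exact m0_44 g A B
  · intro i j
    fin_cases i <;> fin_cases j
    · exact m1_00 g A B
    · exact m1_01 g A B
    · exact m1_02 g A B
    · exact m1_03 g A B
    · exact m1_04 g A B
    · exact m1_10 g A B
    · exact m1_11 g A B
    · exact m1_12 g A B
    · exact m1_13 g A B
    · exact m1_14 g A B
    · exact m1_20 g A B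
    · exact m1_21 g A B
    · exact m1_22 g A B
    · exact m1_23 g A B
    · exact m1_24 g A B
    · exact m1_30 g A B
    · exact m1_31 g A B
    · exact m1_32 g A B
    · exact m1_33 g A B
    · exact m1_34 g A B
    · exact m1_40 g A B
    · exact m1_41 g A B
    · exact m1_42 g A B
    · exact m1_43 g A B
    · exact m1_44 g A B

theorem wX_rts : ∀ q ∈ wX, q.1 ∈ rts := wX_mem
theorem wXi_rts : ∀ q ∈ wXi, q.1 ∈ rts := wXi_mem

/-- **`x`** -/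
theorem xp_io {g : K} (hg : g ^ 4 = 1 - g) (h3 : (3 : K) = 0) {p : Matrix (Fin 5) (Fin 5) K × Matrix (Fin 5) (Fin 5) K}
    (h0 : p.1.trace = 0) (h1 : p.2.trace = 0) :
    prU (wMat chevE8 g wX *ᵥ iot g p) = iot g (XP0 g p.1 p.2, XP1 g p.1 p.2) := by
  rw [word_io hg h3 TP_lt wX_rts (all50 cP1 cP2) h0 h1, ← xp_lin]

/-- **`x⁻¹`** -/
theorem xm_io {g : K} (hg : g ^ 4 = 1 - g) (h3 : (3 : K) = 0) {p : Matrix (Fin 5) (Fin 5) K × Matrix (Fin 5) (Fin 5) K}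
    (h0 : p.1.trace = 0) (h1 : p.2.trace = 0) :
    prU (wMat chevE8 g wXi *ᵥ iot g p) = iot g (XM0 g p.1 p.2, XM1 g p.1 p.2) := by
  rw [word_io hg h3 TM_lt wXi_rts (all50 cM1 cM2) h0 h1, ← xm_lin]

end Cfsg.Agent.H671.E83
end

-- part: H671/E83/Tbl
section
/-!
# S5925, box G: `Tbl g (ph2 K X)` for `X = X5M g` (helper671)
-/

set_option autoImplicit false
set_option linter.style.longLine false

namespace Cfsg.Agent.H671.E83

open Cfsg Cfsg.Lie Cfsg.Agent.ChevalleyStructure.SparseEng Cfsg.Agent.H576.E8L Matrix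
open Cfsg.Agent.ChevalleyStructure.Elts
open Cfsg.Agent.H992.E8X (X coe_X X_neg)
open Cfsg.Agent.H238.E8 (ph2 ph2_tv rt2 sg2)
open Cfsg.Agent.H138.E8L.Zed (X5M xe)

variable {K : Type} [Field K]

/-! ### the support -/

theorem inU0 : ∀ i j : Fin 5, i ≠ j → slot (8 + w0 i j) MASK = 127 := by decide +kernel
theorem inU1 : ∀ i j : Fin 5, i ≠ j → slot (8 + w1 i j) MASK = 127 := by decide +kernel
theorem inUh : ∀ i < 8, slot i MASK = 127 := by decide +kernel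
theorem inUn : ∀ u : Fin 240, invN u.val = 63 → slot (8 + u.val) MASK ≠ 127 := by decide +kernel

theorem inU_iff (a : chevE8.Idx) : InS a ↔ inU a = true := by
  unfold inU
  rw [Nat.beq_eq]
  rcases a with i | u
  · exact ⟨fun _ => inUh i.val i.isLt, fun _ => trivial⟩
  · constructor
    · rintro (⟨i, j, hij, h⟩ | ⟨i, j, hij, h⟩)
      · have := inU0 i j hij
        rw [← h] at this
        exact this
      · have := inU1 i j hij
        rw [← h] at this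
        exact this
    · intro h
      have hu : u.val < 240 := u.isLt
      rcases inv_ne ⟨u.val, hu⟩ with h1 | h1 | h1
      · exact absurd h (inUn ⟨u.val, hu⟩ h1)
      · exact Or.inl ⟨_, _, h1.2, h1.1.symm⟩
      · exact Or.inr ⟨_, _, h1.2, h1.1.symm⟩

theorem prj_eq (v : chevE8.Idx → K) : prj v = prU v := by
  funext a
  unfold prj prU
  by_cases h : InS a
  · rw [if_pos h, if_pos ((inU_iff a).1 h)]
  · rw [if_neg h, if_neg (fun h' => h ((inU_iff a).2 h'))]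

theorem iota_eq (g : K) (p : Matrix (Fin 5) (Fin 5) K × Matrix (Fin 5) (Fin 5) K) : iota g p = iot g p :=
  iota_Dg g p.1 p.2

/-! ### `X5M g` as a product of transvections -/

/-- right multiplication by `1 + g ^ s e_ij`, rows `< m` -/
noncomputable def colop (n i j s m : ℕ) : ℕ :=
  Nat.rec (motive := fun _ => ℕ) n
    (fun r ih => upd ih (Nat.add (Nat.mul 5 r) j) (mu s (slot (Nat.add (Nat.mul 5 r) i) n))) m

theorem colop_ok {n i j s : ℕ} (hn : Ok n) (hs : s < 80) (m : ℕ) : Ok (colop n i j s m) := by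
  induction m with
  | zero => exact hn
  | succ m ih => exact ok_upd ih (mu_lt hs (hn _))

theorem slot_colop {n i j s : ℕ} (hn : Ok n) (hs : s < 80) (hj : j < 5) (m k : ℕ) :
    slot k (colop n i j s m) = if k % 5 = j ∧ k / 5 < m then ad (slot k n) (mu s (slot (5 * (k / 5) + i) n)) else slot k n := by
  induction m with
  | zero =>
    rw [if_neg (by omega)]
    rfl
  | succ m ih =>
    have e : colop n i j s (m + 1) = upd (colop n i j s m) (5 * m + j) (mu s (slot (5 * m + i) n)) := rfl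
    have h1 : ad (slot (5 * m + j) (colop n i j s m)) (mu s (slot (5 * m + i) n)) < 81 :=
      ad_lt (colop_ok hn hs m _) (mu_lt hs (hn _))
    rw [e, slot_upd (lt_trans h1 (by norm_num))]
    by_cases hk : k = 5 * m + j
    · have h2 : k % 5 = j := by omega
      have h3 : k / 5 = m := by omega
      rw [if_pos hk, if_pos (by omega), ← hk, ih, if_neg (by omega), h3]
    · rw [if_neg hk, ih]
      by_cases h4 : k % 5 = j ∧ k / 5 < m
      · rw [if_pos h4, if_pos (by omega)]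
      · rw [if_neg h4, if_neg (by omega)]

/-- the matrix of a state -/
def matV (g : K) (n : ℕ) : Matrix (Fin 5) (Fin 5) K := Matrix.of fun a b => val g (slot (5 * a.val + b.val) n)

theorem matV_colop {g : K} (hg : g ^ 4 = 1 - g) (h3 : (3 : K) = 0) {n s : ℕ} (hn : Ok n) (hs : s < 80) (i j : Fin 5) :
    matV g (colop n i.val j.val s 5) = matV g n * Matrix.transvection i j (g ^ s) := by
  ext a b
  have e : matV g (colop n i.val j.val s 5) a b = val g (slot (5 * a.val + b.val) (colop n i.val j.val s 5)) := rfl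
  rw [e, slot_colop hn hs j.isLt]
  have h5 : (5 * a.val + b.val) / 5 = a.val := by omega
  have h6 : (5 * a.val + b.val) % 5 = b.val := by omega
  rw [h5, h6]
  by_cases hb : b = j
  · subst hb
    rw [if_pos ⟨rfl, a.isLt⟩, Matrix.mul_transvection_apply_same, val_add h3 (hn _) (mu_lt hs (hn _)),
      val_mu hg h3 hs (hn _)]
    rfl
  · rw [if_neg (fun h => hb (Fin.ext h.1)), Matrix.mul_transvection_apply_of_ne _ _ _ _ hb]
    rfl

/-- transvections -/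
noncomputable def tvt (g : K) (q : Fin 5 × Fin 5 × ℕ) : _root_.Matrix.SpecialLinearGroup (Fin 5) K :=
  if h : q.1 ≠ q.2.1 then SpecialLinearGroup.transvection h (g ^ q.2.2) else 1

/-- `X5` -/
def sX : List (Fin 5 × Fin 5 × ℕ) := [(1, 0, 22), (2, 0, 34), (3, 0, 66), (4, 0, 38), (1, 2, 62), (0, 1, 48), (2, 1, 48), (3, 1, 76), (4, 1, 33), (2, 3, 79), (0, 2, 16), (3, 2, 11), (4, 2, 16), (3, 4, 33), (0, 3, 3), (1, 3, 48), (2, 3, 78), (4, 3, 7), (0, 4, 50), (1, 4, 66), (2, 4, 52), (3, 4, 9)]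

theorem sX_ok : ∀ q ∈ sX, q.1 ≠ q.2.1 ∧ q.2.2 < 80 := by decide +kernel

/-- the state of a product -/
noncomputable def runS (l : List (Fin 5 × Fin 5 × ℕ)) : ℕ → ℕ :=
  List.rec (motive := fun _ => ℕ → ℕ) (fun n => n) (fun q _ ih n => ih (colop n q.1.val q.2.1.val q.2.2 5)) l

theorem runS_val {g : K} (hg : g ^ 4 = 1 - g) (h3 : (3 : K) = 0) (l : List (Fin 5 × Fin 5 × ℕ))
    (hl : ∀ q ∈ l, q.1 ≠ q.2.1 ∧ q.2.2 < 80) : ∀ n, Ok n →
      matV g (runS l n) = matV g n * ((l.map (tvt g)).prod : _root_.Matrix.SpecialLinearGroup (Fin 5) K).1 := by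
  induction l with
  | nil =>
    intro n _
    show matV g n = matV g n * 1
    rw [mul_one]
  | cons q l ih =>
    intro n hn
    have hq := hl q List.mem_cons_self
    have e : runS (q :: l) n = runS l (colop n q.1.val q.2.1.val q.2.2 5) := rfl
    rw [e, ih (fun q hq => hl q (List.mem_cons_of_mem _ hq)) _ (colop_ok hn hq.2 5), matV_colop hg h3 hn hq.2, List.map_cons,
      List.prod_cons]
    have e2 : tvt g q = SpecialLinearGroup.transvection hq.1 (g ^ q.2.2) := dif_pos hq.1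
    rw [e2, mul_assoc]
    rfl

/-- state of the identity -/
def N1 : ℕ := 1 + 2 ^ 42 + 2 ^ 84 + 2 ^ 126 + 2 ^ 168

theorem N1_slot : ∀ a b : Fin 5, slot (5 * a.val + b.val) N1 = if a = b then 1 else 0 := by decide +kernel

theorem N1_ok : Ok N1 := by
  intro k
  by_cases h : k < 25
  · have : ∀ k < 25, slot k N1 < 81 := by decide +kernel
    exact this k h
  · have h1 : slot k N1 = (N1 >>> (7 * k)) &&& (2 ^ 7 - 1) := rfl
    have h2 : N1 >>> (7 * k) = 0 := by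
      rw [Nat.shiftRight_eq_div_pow]
      apply Nat.div_eq_of_lt
      calc N1 < 2 ^ 175 := by decide +kernel
        _ ≤ 2 ^ (7 * k) := Nat.pow_le_pow_right (by norm_num) (by omega)
    rw [h1, h2]
    norm_num

theorem runS_sX : ∀ a b : Fin 5, slot (5 * a.val + b.val) (runS sX N1) = mu (xe a b) 1 := by decide +kernel

theorem xe_lt : ∀ a b : Fin 5, xe a b < 80 := by decide +kernel

/-- **`X5M g` is the product** -/
theorem sX_prod {g : K} (hg : g ^ 4 = 1 - g) (h3 : (3 : K) = 0) :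
    ((sX.map (tvt g)).prod : _root_.Matrix.SpecialLinearGroup (Fin 5) K).1 = X5M g := by
  have h := runS_val hg h3 sX sX_ok N1 N1_ok
  have h1 : matV g N1 = 1 := by
    ext a b
    have e : matV g N1 a b = val g (slot (5 * a.val + b.val) N1) := rfl
    rw [e, N1_slot, Matrix.one_apply]
    split_ifs
    · exact val_one
    · exact val_zero
  rw [h1, one_mul] at h
  rw [← h]
  ext a b
  have e : matV g (runS sX N1) a b = val g (slot (5 * a.val + b.val) (runS sX N1)) := rfl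
  rw [e, runS_sX, val_mu hg h3 (xe_lt a b) (by norm_num), val_one, mul_one]
  rfl

/-! ### the group element -/

theorem sX_w : sX.map (fun q => (rt2 q.1 q.2.1, q.2.2)) = wX := by decide +kernel

theorem sg2_one : ∀ i j : Fin 5, sg2 i j = 1 := by decide +kernel

theorem ph2_prod (g : K) (l : List (Fin 5 × Fin 5 × ℕ)) (hl : ∀ q ∈ l, q.1 ≠ q.2.1 ∧ q.2.2 < 80) :
    ph2 K ((l.map (tvt g)).prod) = ((l.map fun q => (rt2 q.1 q.2.1, q.2.2)).map fun q => X q.1 (g ^ q.2)).prod := by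
  induction l with
  | nil => simp only [_root_.List.map_nil, _root_.List.prod_nil, _root_.map_one]
  | cons q l ih =>
    have hq := hl q List.mem_cons_self
    have e2 : tvt g q = SpecialLinearGroup.transvection hq.1 (g ^ q.2.2) := dif_pos hq.1
    rw [List.map_cons, List.prod_cons, map_mul, ih fun q hq => hl q (List.mem_cons_of_mem _ hq), e2, ph2_tv, sg2_one,
      Int.cast_one, one_mul, List.map_cons, List.map_cons, List.prod_cons]

theorem coe_prod (g : K) (w : List (ℕ × ℕ)) :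
    ((((w.map fun q => (X q.1 (g ^ q.2) : ↥(chevE8.group K))).prod : ↥(chevE8.group K)) : GL chevE8.Idx K) :
      Matrix chevE8.Idx chevE8.Idx K) = wMat chevE8 g w := by
  unfold wMat
  induction w with
  | nil => simp only [_root_.List.map_nil, _root_.List.prod_nil, _root_.OneMemClass.coe_one, _root_.Units.val_one]
  | cons q w ih =>
    rw [List.map_cons, List.prod_cons, Subgroup.coe_mul, Units.val_mul, ih, List.map_cons, List.prod_cons, coe_X, coe_xG]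

theorem wXi_eq : (wX.map fun q => (q.1, (q.2 + 40) % 80)).reverse = wXi := by decide +kernel

theorem inv_prod {g : K} (hg : g ^ 4 = 1 - g) (h3 : (3 : K) = 0) (w : List (ℕ × ℕ)) :
    ((w.map fun q => (X q.1 (g ^ q.2) : ↥(chevE8.group K))).prod)⁻¹ =
      (((w.map fun q => (q.1, (q.2 + 40) % 80)).reverse).map fun q => (X q.1 (g ^ q.2) : ↥(chevE8.group K))).prod := by
  rw [List.prod_inv_reverse, List.map_map, List.map_reverse, List.map_map]
  congr 2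
  apply List.map_congr_left
  intro q _
  show (X q.1 (g ^ q.2))⁻¹ = X q.1 (g ^ ((q.2 + 40) % 80))
  rw [pow_mod80 hg h3, pow_add, g40 hg h3, mul_neg_one, X_neg]

/-- **S5925, box G: the table of `x`.** -/
theorem tbl [CharP K 3] {g : K} (hg : g ^ 4 = 1 - g) {Z : _root_.Matrix.SpecialLinearGroup (Fin 5) K}
    (hZ : (Z : Matrix (Fin 5) (Fin 5) K) = X5M g) : Tbl g (ph2 K Z) := by
  have h3 : (3 : K) = 0 := by exact_mod_cast CharP.cast_eq_zero K 3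
  have e1 : Z = (sX.map (tvt g)).prod := Subtype.ext (hZ.trans (sX_prod hg h3).symm)
  have e2 : ph2 K Z = (wX.map fun q => (X q.1 (g ^ q.2) : ↥(chevE8.group K))).prod := by
    rw [e1, ph2_prod g sX sX_ok, sX_w]
  refine ⟨fun p h0 h1 => ?_, fun p h0 h1 => ?_⟩
  · rw [e2, coe_prod, iota_eq, prj_eq, xp_io hg h3 h0 h1, iota_eq]
  · rw [e2, inv_prod hg h3, wXi_eq, coe_prod, iota_eq, prj_eq, xm_io hg h3 h0 h1, iota_eq]

end Cfsg.Agent.H671.E83
end

private theorem dce_d8b9e3ed80d3 : _root_.True := by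
  try have : _root_.True := by simp only [_root_.Cfsg.Agent.H671.E83.mkM.eq_1]
  try have : _root_.True := by simp only [_root_.Cfsg.Agent.H671.E83.pst.eq_1]
  try have : _root_.True := by simp only [_root_.Cfsg.Agent.H671.E83.app.eq_1]
  try have : _root_.True := by simp only [_root_.Cfsg.Agent.H671.E83.nz.eq_1]
  try have : _root_.True := by simp only [_root_.Cfsg.Agent.H671.E83.val.eq_1]
  try have : _root_.True := by simp only [_root_.Cfsg.Agent.H671.E83.chkAd.eq_1]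
  try have : _root_.True := by simp only [_root_.Cfsg.Agent.H671.E83.chkMu.eq_1]
  try have : _root_.True := by simp only [_root_.Cfsg.Agent.H671.E83.go.eq_1]
  try have : _root_.True := by simp only [_root_.Cfsg.Agent.H671.E83.bnd.eq_1]
  exact _root_.True.intro
end

section
prune_inst 0xfffdfffffcffffdfff7fffffffdffff9bb7fffefdff9cb7feee9ffaf9f7f9acbedfbbf8fe330ff1ed6e29c14fa7bd3ffffffffea6ffc7ffffdfff41ffbffdffdf7b50871d49c3e0fbc2fff0bf07f8e7f000000000020000000000000000000004200000000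

-- part: H780/P9/ContsOf_mg
section
prune_inst 0x20000030000000000000000200006448000102002008000020050600000340004001008c9004109086220048000000000001500000000000000400000200000088100230000000080006000004000000000000000000000000000000000000000000000
set_option linter.all false
open scoped Cfsg.Agent.FastGrp

-- part: H780/P9/Top
section
/-!
# S5925, box H: the top of the plan (helper780)
-/

set_option autoImplicit false
set_option linter.style.longLine false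

namespace Cfsg.Agent.H780.P9
open Matrix Cfsg.Agent.H879.E83

section
variable {F : Type*} [Field F] {g : F} {q p : Mt F} {m : F} {t : Fin 10 → F}

theorem QQ_gau {k : Fin 5 → F} {z : F} (hk : Gk k) (hz : z ^ 10 = 1) (q : Mt F) (a b : Fin 5) :
    QQ (gau z k q) a b = QQ q a b := by
  have e1 : k (sgm a) ^ 9 * k a = 1 := hk a
  have e2 : k (sgm b) ^ 9 * k b = 1 := hk b
  rw [QQ, QQ, gau, gau]
  calc z * k a * k b * q a b * (z * k (sgm a) * k (sgm b) * q (sgm a) (sgm b)) ^ 9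
      = z ^ 10 * (k (sgm a) ^ 9 * k a) * (k (sgm b) ^ 9 * k b) * (q a b * q (sgm a) (sgm b) ^ 9) := by ring
    _ = _ := by rw [hz, e1, e2]; ring

theorem Ctx.tau (c : Ctx g q q 1 t) {m : F} (hm : m ^ 80 = 1) : Ctx g q (gau 1 (tau m) q) m t where
  hg := c.hg
  h3 := c.h3
  nine := c.nine
  m80 := hm
  hp := rfl
  tr := c.tr
  Q01 := by rw [QQ_gau (Gk_tau hm) (one_pow _)]; exact c.Q01
  Q13 := by rw [QQ_gau (Gk_tau hm) (one_pow _)]; exact c.Q13
  Q11 := by rw [QQ_gau (Gk_tau hm) (one_pow _)]; exact c.Q11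
  Q02 := by rw [QQ_gau (Gk_tau hm) (one_pow _)]; exact c.Q02
  Q00 := by rw [QQ_gau (Gk_tau hm) (one_pow _)]; exact c.Q00
  Q03 := by rw [QQ_gau (Gk_tau hm) (one_pow _)]; exact c.Q03
  Q04 := by rw [QQ_gau (Gk_tau hm) (one_pow _)]; exact c.Q04
  Q33 := by rw [QQ_gau (Gk_tau hm) (one_pow _)]; exact c.Q33
  Q34 := by rw [QQ_gau (Gk_tau hm) (one_pow _)]; exact c.Q34

/-- scalars 0 .. 16 -/
def K17 (g : F) (p : Mt F) (t : Fin 10 → F) : List F :=
  [t 0, t 1, t 2, t 3, t 4, t 5, t 6, QQ p 0 1, QQ p 1 3, QQ p 1 1, B02 t, B00 g t, B03 g t, B04 g t,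
   p 1 1, p 0 1, p 1 2]

/-- scalars 0 .. 18 -/
def K19 (g : F) (p : Mt F) (t : Fin 10 → F) : List F :=
  [t 0, t 1, t 2, t 3, t 4, t 5, t 6, QQ p 0 1, QQ p 1 3, QQ p 1 1, B02 t, B00 g t, B03 g t, B04 g t,
   p 1 1, p 0 1, p 1 2, p 1 3, p 1 4]

theorem K17_tau {m : F} (hm : m ^ 80 = 1) : K17 g (gau 1 (tau m) q) t = K17 g q t := by
  have e11 : gau 1 (tau m) q 1 1 = q 1 1 := by change 1 * 1 * 1 * q 1 1 = _; ring
  have e01 : gau 1 (tau m) q 0 1 = q 0 1 := by change 1 * 1 * 1 * q 0 1 = _; ring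
  have e12 : gau 1 (tau m) q 1 2 = q 1 2 := by change 1 * 1 * 1 * q 1 2 = _; ring
  simp only [K17, QQ_gau (Gk_tau hm) (one_pow _), e11, e01, e12]

theorem nine9 {x : F} (hx : x ^ 81 = x) : ((x ^ 9) ^ 3) ^ 3 = x := by
  rw [← pow_mul, ← pow_mul]; exact hx

/-- the block `(q13, q14)` -/
theorem wp_br (c : Ctx g q q 1 t) {b1 a b2 b3 : Plan}
    (ha : ∀ p m, Ctx g q p m t → p 1 3 = 1 → p 1 4 ≠ 0 → WP g (Sol g q) a (K19 g p t) [])
    (hb1 : ∀ p m, Ctx g q p m t → p 1 3 = 1 → p 1 4 = 0 → WP g (Sol g q) b1 (K19 g p t) [])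
    (hb2 : ∀ p m, Ctx g q p m t → p 1 3 = 0 → p 1 4 = 1 → WP g (Sol g q) b2 (K19 g p t) [])
    (hb3 : q 1 3 = 0 → q 1 4 = 0 → WP g (Sol g q) b3 (K19 g q t) []) :
    WP g (Sol g q) (.or (.kf (.pw 0) (.kf (.fr (.fr (.k 8))) (.ksp (.k 8) b1 a)))
      (.kfl [(.k 8)] (.or (.kf .zero (.kf (.pw 0) b2)) (.kf .zero (.kf .zero b3))))) (K17 g q t) [] := by
  obtain ⟨m, hm, _, h⟩ := c.four.nf_tau
  have c' := c.tau hm
  have s1 : sgm (1 : Fin 5) = 1 := by decide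
  have s3 : sgm (3 : Fin 5) = 4 := by decide
  rw [← K17_tau hm]
  set p := gau 1 (tau m) q with hp
  have hQ : QQ p 1 3 = p 1 3 * p 1 4 ^ 9 := by rw [QQ, s1, s3]
  rcases h with h | ⟨h, h'⟩ | ⟨h, h'⟩
  · refine WP_or_left (WP_kf (x := p 1 3) ?_ (WP_kf (x := p 1 4) ?_ (WP_ksp ?_ ?_)))
    · rw [h]; exact pow_zero g
    · show (QQ p 1 3 ^ 3) ^ 3 = p 1 4
      rw [hQ, h, one_mul, nine9 (c'.p81 1 4)]
    · intro e
      have e' : QQ p 1 3 = 0 := e
      rw [hQ, h, one_mul] at e'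
      exact hb1 p m c' h (eq_zero_of_pow_eq_zero e')
    · intro e
      have e' : QQ p 1 3 ≠ 0 := e
      rw [hQ, h, one_mul] at e'
      refine ha p m c' h fun h0 => e' ?_
      rw [h0]; ring
  · refine WP_or_right (WP_kfl ?_ (WP_or_left (WP_kf (x := p 1 3) ?_ (WP_kf (x := p 1 4) ?_ (hb2 p m c' h h')))))
    · intro e he
      rw [List.mem_singleton] at he
      subst he
      show QQ p 1 3 = 0
      rw [hQ, h, zero_mul]
    · rw [h]; rfl
    · rw [h']; exact pow_zero g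
  · have e13 : p 1 3 = m * q 1 3 := by change 1 * 1 * m * q 1 3 = _; ring
    have e14 : p 1 4 = m ^ 71 * q 1 4 := by change 1 * 1 * m ^ 71 * q 1 4 = _; ring
    have hm0 : m ≠ 0 := ne_of_pow80 hm
    have h13 : q 1 3 = 0 := by
      rw [e13] at h
      exact (mul_eq_zero.1 h).resolve_left hm0
    have h14 : q 1 4 = 0 := by
      rw [e14] at h'
      exact (mul_eq_zero.1 h').resolve_left (pow_ne_zero _ hm0)
    rw [K17_tau hm]
    refine WP_or_right (WP_kfl ?_ (WP_or_right (WP_kf (x := q 1 3) ?_ (WP_kf (x := q 1 4) ?_ (hb3 h13 h14)))))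
    · intro e he
      rw [List.mem_singleton] at he
      subst he
      show QQ q 1 3 = 0
      rw [QQ, h13, zero_mul]
    · rw [h13]; rfl
    · rw [h14]; rfl

/-- normal form of the branch `q01 = q12 = 0` -/
def NB (g : F) (q : Mt F) : Prop :=
  (∃ i < 4, q 1 3 = g ^ i) ∨ (q 1 3 = 0 ∧ ∃ i < 4, q 1 4 = g ^ i) ∨ (q 1 3 = 0 ∧ q 1 4 = 0 ∧ NZ g q)

/-- all the continuations -/
structure Conts (g : F) (q : Mt F) (t : Fin 10 → F) : Prop where
  a : ∀ p m, Ctx g q p m t → p 1 3 = 1 → p 1 4 ≠ 0 → WP g (Sol g q) plCa (K19 g p t) []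
  b1 : ∀ p m, Ctx g q p m t → p 1 3 = 1 → p 1 4 = 0 → WP g (Sol g q) plCb1 (K19 g p t) []
  b2 : ∀ p m, Ctx g q p m t → p 1 3 = 0 → p 1 4 = 1 → WP g (Sol g q) plCb2 (K19 g p t) []
  b3 : q 1 3 = 0 → q 1 4 = 0 → WP g (Sol g q) plCb3 (K19 g q t) []
  a0 : ∀ p m, Ctx g q p m t → p 1 3 = 1 → p 1 4 ≠ 0 → (∃ i < 4, q 1 3 = g ^ i) → WP g (Sol g q) plCa0 (K19 g p t) []
  b10 : ∀ p m, Ctx g q p m t → p 1 3 = 1 → p 1 4 = 0 → (∃ i < 4, q 1 3 = g ^ i) → WP g (Sol g q) plCb10 (K19 g p t) []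
  b20 : ∀ p m, Ctx g q p m t → p 1 3 = 0 → p 1 4 = 1 → (∃ i < 4, q 1 4 = g ^ i) → WP g (Sol g q) plCb20 (K19 g p t) []
  z : q 0 1 = 0 → q 1 2 = 0 → q 1 3 = 0 → q 1 4 = 0 → NZ g q → WP g (Sol g q) plCz (K19 g q t) []

theorem wp_Br (c : Ctx g q q 1 t) (h : Conts g q t) : WP g (Sol g q) plBr (K17 g q t) [] :=
  wp_br c h.a h.b1 h.b2 h.b3

theorem Ctx.ne13 (c : Ctx g q p m t) (h : p 1 3 ≠ 0) : q 1 3 ≠ 0 := fun h0 => h (by rw [c.papp, h0, mul_zero])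
theorem Ctx.ne14 (c : Ctx g q p m t) (h : p 1 4 ≠ 0) : q 1 4 ≠ 0 := fun h0 => h (by rw [c.papp, h0, mul_zero])

theorem NB.c13 (h : NB g q) (h0 : q 1 3 ≠ 0) : ∃ i < 4, q 1 3 = g ^ i := by
  rcases h with h | ⟨h, _⟩ | ⟨h, _⟩
  · exact h
  · exact absurd h h0
  · exact absurd h h0

theorem NB.c14 (h : NB g q) (hg : g ≠ 0) (h3 : q 1 3 = 0) (h0 : q 1 4 ≠ 0) : ∃ i < 4, q 1 4 = g ^ i := by
  rcases h with ⟨i, _, h⟩ | ⟨_, h⟩ | ⟨_, h, _⟩
  · exact absurd (h.symm.trans h3) (pow_ne_zero _ hg)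
  · exact h
  · exact absurd h h0

theorem NB.cz (h : NB g q) (hg : g ≠ 0) (h3 : q 1 3 = 0) (h4 : q 1 4 = 0) : NZ g q := by
  rcases h with ⟨i, _, h⟩ | ⟨_, i, _, h⟩ | ⟨_, _, h⟩
  · exact absurd (h.symm.trans h3) (pow_ne_zero _ hg)
  · exact absurd (h.symm.trans h4) (pow_ne_zero _ hg)
  · exact h

theorem wp_Br0 (c : Ctx g q q 1 t) (h : Conts g q t) (h01 : q 0 1 = 0) (h12 : q 1 2 = 0) (hb : NB g q) :
    WP g (Sol g q) plBr0 (K17 g q t) [] := by
  have hg0 : g ≠ 0 := g_ne c.hg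
  refine wp_br c (fun p m c' h13 h14 => h.a0 p m c' h13 h14 (hb.c13 (c'.ne13 ?_)))
    (fun p m c' h13 h14 => h.b10 p m c' h13 h14 (hb.c13 (c'.ne13 ?_)))
    (fun p m c' h13 h14 => h.b20 p m c' h13 h14 (hb.c14 hg0 ?_ (c'.ne14 ?_)))
    (fun h13 h14 => h.z h01 h12 h13 h14 (hb.cz hg0 h13 h14))
  · rw [h13]; exact one_ne_zero
  · rw [h13]; exact one_ne_zero
  · have e := c'.papp 1 3
    rw [h13] at e
    have n1 : tau m 1 = 1 := rfl
    have n3 : tau m 3 = m := rfl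
    rw [n1, n3, one_mul] at e
    exact (mul_eq_zero.1 e.symm).resolve_left (ne_of_pow80 c'.m80)
  · rw [h14]; exact one_ne_zero

/-- scalars 0 .. 14 -/
def K15 (g : F) (p : Mt F) (t : Fin 10 → F) : List F :=
  [t 0, t 1, t 2, t 3, t 4, t 5, t 6, QQ p 0 1, QQ p 1 3, QQ p 1 1, B02 t, B00 g t, B03 g t, B04 g t, p 1 1]

theorem wp_R1 (c : Ctx g q q 1 t) (h : Conts g q t)
    (hn : q 0 1 = 1 ∨ (q 0 1 = 0 ∧ q 1 2 = 1) ∨ (q 0 1 = 0 ∧ q 1 2 = 0 ∧ NB g q)) :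
    WP g (Sol g q) plR1 (K15 g q t) [] := by
  have s0 : sgm (0 : Fin 5) = 2 := by decide
  have s1 : sgm (1 : Fin 5) = 1 := by decide
  have hQ : QQ q 0 1 = q 0 1 * q 1 2 ^ 9 := by rw [QQ, s0, s1, c.sym 2 1]
  rcases hn with h01 | ⟨h01, h12⟩ | ⟨h01, h12, hb⟩
  · refine WP_or_left (WP_kf (x := q 0 1) ?_ (WP_kf (x := q 1 2) ?_ (wp_Br c h)))
    · rw [h01]; exact pow_zero g
    · show (QQ q 0 1 ^ 3) ^ 3 = q 1 2
      rw [hQ, h01, one_mul, nine9 (c.p81 1 2)]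
  · refine WP_or_right (WP_kfl ?_ (WP_or_left (WP_kf (x := q 0 1) ?_ (WP_kf (x := q 1 2) ?_ (wp_Br c h)))))
    · intro e he
      rw [List.mem_singleton] at he
      subst he
      show QQ q 0 1 = 0
      rw [hQ, h01, zero_mul]
    · rw [h01]; rfl
    · rw [h12]; exact pow_zero g
  · refine WP_or_right (WP_kfl ?_ (WP_or_right (WP_kf (x := q 0 1) ?_ (WP_kf (x := q 1 2) ?_ (wp_Br0 c h h01 h12 hb)))))
    · intro e he
      rw [List.mem_singleton] at he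
      subst he
      show QQ q 0 1 = 0
      rw [hQ, h01, zero_mul]
    · rw [h01]; rfl
    · rw [h12]; rfl

theorem wp_plan (c : Ctx g q q 1 t) (h : Conts g q t)
    (h11 : q 1 1 = 0 ∨ ∃ n < 8, q 1 1 = g ^ n)
    (hn : q 0 1 = 1 ∨ (q 0 1 = 0 ∧ q 1 2 = 1) ∨ (q 0 1 = 0 ∧ q 1 2 = 0 ∧ NB g q)) :
    WP g (Sol g q) plan [t 0, t 1, t 2, t 3, t 4, t 5, t 6] [] := by
  have s1 : sgm (1 : Fin 5) = 1 := by decide
  refine WP_kf (x := QQ q 0 1) ?_ (WP_kf (x := QQ q 1 3) ?_ (WP_kf (x := QQ q 1 1) ?_ (WP_kf (x := B02 t) ?_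
    (WP_kf (x := B00 g t) ?_ (WP_kf (x := B03 g t) ?_ (WP_kf (x := B04 g t) ?_ ?_))))))
  · rw [c.Q01]
    show g ^ 0 + t 0 + g ^ 1 * t 1 + g ^ 2 * t 2 + g ^ 3 * t 3 = _
    ring
  · rw [c.Q13]
    show -(g ^ 0 + t 4 + g ^ 25 * t 5 + g ^ 55 * t 6) = _
    ring
  · rw [c.Q11]
    rfl
  · show g ^ 0 + t 4 = _
    rw [B02]; ring
  · rfl
  · show g ^ 0 + g ^ 45 * t 5 + g ^ 25 * t 6 = _
    rw [B03]; ring
  · show g ^ 0 + g ^ 40 * t 0 + g ^ 43 * t 1 + g ^ 46 * t 2 + g ^ 49 * t 3 + t 4 + g ^ 5 * t 5 + g ^ 65 * t 6 = _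
    rw [B04]; ring
  have fin : WP g (Sol g q) (.kfl [(.sub (.mul (.k 14) (.fr (.fr (.k 14)))) (.k 9))] plR1) (K15 g q t) [] := by
    refine WP_kfl ?_ (wp_R1 c h hn)
    intro e he
    rw [List.mem_singleton] at he
    subst he
    show q 1 1 * (q 1 1 ^ 3) ^ 3 - QQ q 1 1 = 0
    rw [QQ, s1]; ring
  rcases h11 with h0 | ⟨n, hn8, h0⟩
  · exact WP_alt (x := q 1 1) .zero (by simp) (by rw [h0]; rfl) fin
  · refine WP_alt (x := q 1 1) (.pw n) ?_ (by rw [h0]; rfl) fin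
    interval_cases n <;> simp

/-! ### the normal form of the branch `q01 = q12 = 0` -/

theorem exists_le (hg : g ^ 4 = 1 - g) (h3 : (3 : F) = 0) {e d : ℕ}
    (H : ∀ n < 80, ∃ j < 80, (e * j + n) % 80 < d) {x : F} (hx : x ^ 81 = x) (h0 : x ≠ 0) :
    ∃ l : F, l ^ 80 = 1 ∧ ∃ i < d, l ^ e * x = g ^ i := by
  obtain ⟨n, hn, rfl⟩ := exists_pow hg h3 hx h0
  obtain ⟨j, _, hj⟩ := H n hn
  refine ⟨g ^ j, ?_, (e * j + n) % 80, hj, ?_⟩
  · rw [← pow_mul, mul_comm, pow_mul, g80 hg h3, one_pow]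
  · rw [← pow_mul, ← pow_add, mul_comm j e]
    exact pow_mod80 (g80 hg h3) (Nat.mod_mod _ _).symm

theorem H44 : ∀ n < 80, ∃ j < 80, (44 * j + n) % 80 < 4 := by decide +kernel
theorem H4 : ∀ n < 80, ∃ j < 80, (4 * j + n) % 80 < 4 := by decide +kernel
theorem H5 : ∀ n < 80, ∃ j < 80, (5 * j + n) % 80 < 5 := by decide +kernel
theorem H115 : ∀ n < 80, ∃ j < 80, (115 * j + n) % 80 < 5 := by decide +kernel
theorem H45 : ∀ n < 80, ∃ j < 80, (45 * j + n) % 80 < 5 := by decide +kernel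
theorem H75 : ∀ n < 80, ∃ j < 80, (75 * j + n) % 80 < 5 := by decide +kernel

theorem gk (q : Mt F) (l : F) (a b : Fin 5) : gau 1 (kap l) q a b = l ^ (ke a + ke b) * q a b := by
  rw [gau_apply, kap_eq, kap_eq, one_mul, pow_add]

theorem exists_NB (h : PNine g q) (hg : g ^ 4 = 1 - g) (h3 : (3 : F) = 0) :
    ∃ l : F, l ^ 80 = 1 ∧ NB g (gau 1 (kap l) q) := by
  have z : ∀ (l : F) (a b : Fin 5), q a b = 0 → gau 1 (kap l) q a b = 0 := fun l a b h => by rw [gk, h, mul_zero]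
  by_cases h13 : q 1 3 = 0
  · by_cases h14 : q 1 4 = 0
    · by_cases h04 : q 0 4 = 0
      · by_cases h23 : q 2 3 = 0
        · by_cases h03 : q 0 3 = 0
          · by_cases h24 : q 2 4 = 0
            · exact ⟨1, one_pow _, Or.inr (Or.inr ⟨z _ _ _ h13, z _ _ _ h14, Or.inr (Or.inr (Or.inr
                ⟨z _ _ _ h04, z _ _ _ h23, z _ _ _ h03, Or.inl (z _ _ _ h24)⟩))⟩)⟩
            · obtain ⟨l, hl, i, hi, e⟩ := exists_le hg h3 H75 (h.pow81 2 4) h24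
              exact ⟨l, hl, Or.inr (Or.inr ⟨z _ _ _ h13, z _ _ _ h14, Or.inr (Or.inr (Or.inr
                ⟨z _ _ _ h04, z _ _ _ h23, z _ _ _ h03, Or.inr ⟨i, hi, (gk q l 2 4).trans e⟩⟩))⟩)⟩
          · obtain ⟨l, hl, i, hi, e⟩ := exists_le hg h3 H45 (h.pow81 0 3) h03
            exact ⟨l, hl, Or.inr (Or.inr ⟨z _ _ _ h13, z _ _ _ h14, Or.inr (Or.inr (Or.inl
                ⟨z _ _ _ h04, z _ _ _ h23, i, hi, (gk q l 0 3).trans e⟩))⟩)⟩
        · obtain ⟨l, hl, i, hi, e⟩ := exists_le hg h3 H115 (h.pow81 2 3) h23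
          exact ⟨l, hl, Or.inr (Or.inr ⟨z _ _ _ h13, z _ _ _ h14, Or.inr (Or.inl
                ⟨z _ _ _ h04, i, hi, (gk q l 2 3).trans e⟩)⟩)⟩
      · obtain ⟨l, hl, i, hi, e⟩ := exists_le hg h3 H5 (h.pow81 0 4) h04
        exact ⟨l, hl, Or.inr (Or.inr ⟨z _ _ _ h13, z _ _ _ h14, Or.inl ⟨i, hi, (gk q l 0 4).trans e⟩⟩)⟩
    · obtain ⟨l, hl, i, hi, e⟩ := exists_le hg h3 H4 (h.pow81 1 4) h14
      exact ⟨l, hl, Or.inr (Or.inl ⟨z _ _ _ h13, i, hi, (gk q l 1 4).trans e⟩)⟩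
  · obtain ⟨l, hl, i, hi, e⟩ := exists_le hg h3 H44 (h.pow81 1 3) h13
    exact ⟨l, hl, Or.inl ⟨i, hi, (gk q l 1 3).trans e⟩⟩

theorem gau_gau (z : F) (l l' : F) (q : Mt F) : gau 1 (kap l') (gau z (kap l) q) = gau z (kap (l * l')) q := by
  funext a b
  simp only [gau_apply, kap_eq, mul_pow]
  ring

/-- **the full normal form** -/
theorem nf_full (h : PNine g q) (hg : g ^ 4 = 1 - g) (h3 : (3 : F) = 0) :
    ∃ z l : F, z ^ 10 = 1 ∧ l ^ 80 = 1 ∧ PNine g (gau z (kap l) q) ∧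
      (gau z (kap l) q 1 1 = 0 ∨ ∃ n < 8, gau z (kap l) q 1 1 = g ^ n) ∧
      (gau z (kap l) q 0 1 = 1 ∨ (gau z (kap l) q 0 1 = 0 ∧ gau z (kap l) q 1 2 = 1) ∨
        (gau z (kap l) q 0 1 = 0 ∧ gau z (kap l) q 1 2 = 0 ∧ NB g (gau z (kap l) q))) := by
  obtain ⟨z, l, hz, hl, hn, h11, h01⟩ := h.nf hg h3
  rcases h01 with h01 | h01 | ⟨h01, h12⟩
  · exact ⟨z, l, hz, hl, hn, h11, Or.inl h01⟩
  · exact ⟨z, l, hz, hl, hn, h11, Or.inr (Or.inl h01)⟩
  · obtain ⟨l', hl', hb⟩ := exists_NB hn hg h3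
    have hn' := hn.gauge_kap hl' (one_pow 10)
    have e11 : gau 1 (kap l') (gau z (kap l) q) 1 1 = gau z (kap l) q 1 1 := by
      rw [gk]
      have : ke 1 + ke 1 = 0 := rfl
      rw [this, pow_zero, one_mul]
    have e01 : gau 1 (kap l') (gau z (kap l) q) 0 1 = 0 := by rw [gk, h01, mul_zero]
    have e12 : gau 1 (kap l') (gau z (kap l) q) 1 2 = 0 := by rw [gk, h12, mul_zero]
    rw [← e11] at h11
    rw [gau_gau] at hn' hb h11 e01 e12
    refine ⟨z, l * l', hz, by rw [mul_pow, hl, hl', one_mul], hn', h11, Or.inr (Or.inr ⟨e01, e12, hb⟩)⟩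

end
end Cfsg.Agent.H780.P9
end

-- part: H780/P9/Fin
section
/-!
# S5925, box H: from the WP of the plan to the statement of the search (helper780)
-/

set_option autoImplicit false
set_option linter.style.longLine false

namespace Cfsg.Agent.H780.P9
open Matrix Cfsg.Agent.H879.E83

section
variable {F : Type*} [Field F] {g : F} {q p : Mt F} {m : F} {t : Fin 10 → F}

theorem gau_tau_one (q : Mt F) : gau 1 (tau 1) q = q := by
  funext a b
  have e : ∀ a : Fin 5, tau (1 : F) a = 1 := by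
    intro a
    fin_cases a <;> simp [tau]
  rw [gau, e, e]; ring

/-- `J_a J_b P_ab = QQ` -/
theorem QQ_P (q : Mt F) (a b : Fin 5) : Mh q a b * q a b = Jv a * Jv b * QQ q a b := by
  rw [Mh, QQ]; ring

/-- the context from helper861's `pspace` -/
theorem exists_ctx [CharP F 3] (hg : g ^ 4 = 1 - g) (h : PNine g q) : ∃ t : Fin 10 → F, Ctx g q q 1 t := by
  have h3 : (3 : F) = 0 := by exact_mod_cast CharP.cast_eq_zero F 3
  obtain ⟨t, ht, h01, h13, h11, h02, h00, h03, h04, h33, h34⟩ := Cfsg.Agent.H861.P9.pspace hg h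
  have m20 : g ^ 20 * g ^ 20 = -1 := by rw [← pow_add]; exact g40 hg h3
  have g40' := g40 hg h3
  have j0 : Jv (0 : Fin 5) = (1 : F) := rfl
  have j1 : Jv (1 : Fin 5) = (1 : F) := rfl
  have j2 : Jv (2 : Fin 5) = (1 : F) := rfl
  have j3 : Jv (3 : Fin 5) = (-1 : F) := rfl
  have j4 : Jv (4 : Fin 5) = (-1 : F) := rfl
  rw [QQ_P] at h01 h13 h11 h02 h00 h03 h04 h33 h34
  simp only [j0, j1, j2, j3, j4] at h01 h13 h11 h02 h00 h03 h04 h33 h34
  refine ⟨t, ?_⟩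
  constructor
  · exact hg
  · exact h3
  · exact h
  · exact one_pow _
  · exact (gau_tau_one q).symm
  · intro i
    rcases ht i with h | h | h
    · exact Or.inl h
    · exact Or.inr (Or.inl h)
    · exact Or.inr (Or.inr (by rw [h]; linear_combination h3))
  · linear_combination h01
  · linear_combination -h13
  · linear_combination h11
  · rw [B02]; linear_combination h02
  · rw [B00]; linear_combination h00
  · rw [B03]; linear_combination -h03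
  · rw [B04]; linear_combination -h04 - t 8 * g40'
  · linear_combination h33
  · linear_combination h34 + t 8 * g40'

/-- the result of the search from the soundness of the runs and the WP lemmas of the sub-plans -/
theorem search_of [CharP F 3] (hg : g ^ 4 = 1 - g)
    (snd : ∀ (t : Fin 10 → F) (G : Prop), (∀ i, t i = 0 ∨ t i = 1 ∨ t i = -1) →
      WP g G plan [t 0, t 1, t 2, t 3, t 4, t 5, t 6] [] → G)
    (cts : ∀ (q : Mt F) (t : Fin 10 → F), Ctx g q q 1 t → Conts g q t) (q : Mt F) (h : PNine g q) :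
    Cfsg.Agent.H947.P9.Concl g q := by
  have h3 : (3 : F) = 0 := by exact_mod_cast CharP.cast_eq_zero F 3
  obtain ⟨z, l, hz, hl, hn, h11, h01⟩ := nf_full h hg h3
  obtain ⟨t, c⟩ := exists_ctx hg hn
  have hs : Sol g (gau z (kap l) q) := snd t _ c.tr (wp_plan c (cts _ t c) h11 h01)
  have hz0 : z ≠ 0 := z_ne hz
  have hl0 : l ≠ 0 := ne_of_pow80 hl
  refine ⟨l⁻¹, z⁻¹, by rw [inv_pow, hl, inv_one], by rw [inv_pow, hz, inv_one], fun a b => ?_⟩
  have e := hs a b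
  rw [gau_apply, kap_eq, kap_eq] at e
  have e1 : Cfsg.Agent.H947.P9.Q0E a b = solE a b := rfl
  have e2 : Cfsg.Agent.H947.P9.KE a = ke a := rfl
  have e3 : Cfsg.Agent.H947.P9.KE b = ke b := rfl
  rw [e1, e2, e3, ← e, inv_pow, inv_pow]
  have hla : l ^ ke a ≠ 0 := pow_ne_zero _ hl0
  have hlb : l ^ ke b ≠ 0 := pow_ne_zero _ hl0
  field_simp

end
end Cfsg.Agent.H780.P9
end

-- part: H780/P9/ContsOf
section
/-!
# S5925, box H: assembly of the WP lemmas (helper780)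
-/

set_option autoImplicit false
set_option linter.style.longLine false

namespace Cfsg.Agent.H780.P9
open Matrix Cfsg.Agent.H879.E83

section
variable {F : Type*} [Field F] {g : F}

/-- all the WP lemmas -/
structure WPs (g : F) : Prop where
  D1 : ∀ {q p : Mt F} {m : F} {t : Fin 10 → F}, Ctx g q p m t → ∀ (x y : F) (s : Fin 11 → F), WD1 g q p t x y s
  S3 : ∀ {q p : Mt F} {m : F} {t : Fin 10 → F}, Ctx g q p m t → ∀ x y, (∀ s, WD1 g q p t x y s) → WS3 g q p t x y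
  S2 : ∀ {q p : Mt F} {m : F} {t : Fin 10 → F}, Ctx g q p m t → WS3 g q p t 0 0 → WS2 g q p t
  S2i : ∀ {q p : Mt F} {m : F} {t : Fin 10 → F}, Ctx g q p m t → p 1 3 = 1 → (∃ i < 4, q 1 3 = g ^ i) →
    (∀ x y, WS3 g q p t x y) → WS2x g q p t plS2i
  S2j : ∀ {q p : Mt F} {m : F} {t : Fin 10 → F}, Ctx g q p m t → p 1 4 = 1 → (∃ i < 4, q 1 4 = g ^ i) →
    (∀ x y, WS3 g q p t x y) → WS2x g q p t plS2j
  Alpha : ∀ {q p : Mt F} {m : F} {t : Fin 10 → F}, Ctx g q p m t → p 1 3 = 1 → p 1 4 ≠ 0 → WS2 g q p t → WC g q p t plAlpha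
  Alpha0 : ∀ {q p : Mt F} {m : F} {t : Fin 10 → F}, Ctx g q p m t → p 1 3 = 1 → p 1 4 ≠ 0 → WS2x g q p t plS2i → WC g q p t plAlpha0
  Beta1 : ∀ {q p : Mt F} {m : F} {t : Fin 10 → F}, Ctx g q p m t → p 1 3 = 1 → p 1 4 = 0 → WS2 g q p t → WC g q p t plBeta1
  Beta10 : ∀ {q p : Mt F} {m : F} {t : Fin 10 → F}, Ctx g q p m t → p 1 3 = 1 → p 1 4 = 0 → WS2x g q p t plS2i → WC g q p t plBeta10
  Beta2 : ∀ {q p : Mt F} {m : F} {t : Fin 10 → F}, Ctx g q p m t → p 1 3 = 0 → p 1 4 = 1 → WS2 g q p t → WC g q p t plBeta2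
  Beta20 : ∀ {q p : Mt F} {m : F} {t : Fin 10 → F}, Ctx g q p m t → p 1 3 = 0 → p 1 4 = 1 → WS2x g q p t plS2j → WC g q p t plBeta20
  Beta3 : ∀ {q p : Mt F} {m : F} {t : Fin 10 → F}, Ctx g q p m t → p = q → p 1 3 = 0 → p 1 4 = 0 → WS3 g q p t 0 0 → WC g q p t plBeta3
  Z0 : ∀ {q p : Mt F} {m : F} {t : Fin 10 → F}, Ctx g q p m t → p = q → p 0 1 = 0 → p 1 2 = 0 → p 1 3 = 0 → p 1 4 = 0 → NZ g q →
    (∀ x y, WS3 g q p t x y) → WC g q p t plZ0
  Ca : ∀ {q p : Mt F} {m : F} {t : Fin 10 → F}, Ctx g q p m t → WC g q p t plAlpha → WP g (Sol g q) plCa (K19 g p t) []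
  Cb1 : ∀ {q p : Mt F} {m : F} {t : Fin 10 → F}, Ctx g q p m t → WC g q p t plBeta1 → WP g (Sol g q) plCb1 (K19 g p t) []
  Cb2 : ∀ {q p : Mt F} {m : F} {t : Fin 10 → F}, Ctx g q p m t → WC g q p t plBeta2 → WP g (Sol g q) plCb2 (K19 g p t) []
  Cb3 : ∀ {q p : Mt F} {m : F} {t : Fin 10 → F}, Ctx g q p m t → WC g q p t plBeta3 → WP g (Sol g q) plCb3 (K19 g p t) []
  Ca0 : ∀ {q p : Mt F} {m : F} {t : Fin 10 → F}, Ctx g q p m t → WC g q p t plAlpha0 → WP g (Sol g q) plCa0 (K19 g p t) []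
  Cb10 : ∀ {q p : Mt F} {m : F} {t : Fin 10 → F}, Ctx g q p m t → WC g q p t plBeta10 → WP g (Sol g q) plCb10 (K19 g p t) []
  Cb20 : ∀ {q p : Mt F} {m : F} {t : Fin 10 → F}, Ctx g q p m t → WC g q p t plBeta20 → WP g (Sol g q) plCb20 (K19 g p t) []
  Cz : ∀ {q p : Mt F} {m : F} {t : Fin 10 → F}, Ctx g q p m t → WC g q p t plZ0 → WP g (Sol g q) plCz (K19 g p t) []

theorem WPs.s3 (w : WPs g) {q p : Mt F} {m : F} {t : Fin 10 → F} (c : Ctx g q p m t) (x y : F) : WS3 g q p t x y :=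
  w.S3 c x y fun s => w.D1 c x y s

theorem WPs.conts (w : WPs g) {q : Mt F} {t : Fin 10 → F} (c : Ctx g q q 1 t) : Conts g q t where
  a _ _ c' h13 h14 := w.Ca c' (w.Alpha c' h13 h14 (w.S2 c' (w.s3 c' 0 0)))
  b1 _ _ c' h13 h14 := w.Cb1 c' (w.Beta1 c' h13 h14 (w.S2 c' (w.s3 c' 0 0)))
  b2 _ _ c' h13 h14 := w.Cb2 c' (w.Beta2 c' h13 h14 (w.S2 c' (w.s3 c' 0 0)))
  b3 h13 h14 := w.Cb3 c (w.Beta3 c rfl h13 h14 (w.s3 c 0 0))
  a0 _ _ c' h13 h14 hq := w.Ca0 c' (w.Alpha0 c' h13 h14 (w.S2i c' h13 hq (w.s3 c')))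
  b10 _ _ c' h13 h14 hq := w.Cb10 c' (w.Beta10 c' h13 h14 (w.S2i c' h13 hq (w.s3 c')))
  b20 _ _ c' h13 h14 hq := w.Cb20 c' (w.Beta20 c' h13 h14 (w.S2j c' h14 hq (w.s3 c')))
  z h01 h12 h13 h14 hn := w.Cz c (w.Z0 c rfl h01 h12 h13 h14 hn (w.s3 c))

/-- **box H** from the WP lemmas and the soundness of the runs -/
theorem WPs.search [CharP F 3] (w : WPs g) (hg : g ^ 4 = 1 - g)
    (snd : ∀ (t : Fin 10 → F) (G : Prop), (∀ i, t i = 0 ∨ t i = 1 ∨ t i = -1) →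
      WP g G plan [t 0, t 1, t 2, t 3, t 4, t 5, t 6] [] → G)
    (q : Mt F) (h : PNine g q) : Cfsg.Agent.H947.P9.Concl g q :=
  search_of hg snd (fun _ _ c => w.conts c) q h

end
end Cfsg.Agent.H780.P9
end

-- part: H879/E83/SThree
section
/-!
# S5925, box H: the equations C3 for `D = e_0` in the registers of the plan (`plS3`)
-/

set_option autoImplicit false
set_option linter.style.longLine false
set_option linter.unusedVariables false
set_option linter.unusedSimpArgs false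

namespace Cfsg.Agent.H879.E83
open Matrix Cfsg.Agent.H780.P9

section
variable {F : Type*} [Field F] {g : F} {q : Mt F}

theorem z0_00 (g : F) (q : Mt F) : ZZ g q 0 0 0 = (0 * ((1 * 1 * q 2 2 ^ (9:ℕ)) * q 0 0 - (1 * 1 * q 2 0 ^ (9:ℕ)) * q 2 0) + g ^ (7:ℕ) * ((1 * 1 * q 1 2 ^ (9:ℕ)) * q 0 1 - (1 * 1 * q 1 0 ^ (9:ℕ)) * q 2 1) + g ^ (74:ℕ) * ((1 * 1 * q 0 2 ^ (9:ℕ)) * q 0 2 - (1 * 1 * q 0 0 ^ (9:ℕ)) * q 2 2) + g ^ (26:ℕ) * (((-1) * 1 * q 4 2 ^ (9:ℕ)) * q 0 3 - ((-1) * 1 * q 4 0 ^ (9:ℕ)) * q 2 3) + g ^ (63:ℕ) * (((-1) * 1 * q 3 2 ^ (9:ℕ)) * q 0 4 - ((-1) * 1 * q 3 0 ^ (9:ℕ)) * q 2 4)) - (g ^ (7:ℕ) * ((1 * 1 * q 2 2 ^ (9:ℕ)) * q 0 0 - (1 * 1 * q 2 0 ^ (9:ℕ)) * q 2 0) ^ (3:ℕ) + g ^ (61:ℕ) * ((1 * 1 * q 0 2 ^ (9:ℕ)) * q 0 2 - (1 * 1 * q 0 0 ^ (9:ℕ)) * q 2 2) ^ (3:ℕ) + 0 * (((-1) * 1 * q 3 2 ^ (9:ℕ)) * q 0 4 - ((-1) * 1 * q 3 0 ^ (9:ℕ)) * q 2 4) ^ (3:ℕ) + g ^ (69:ℕ) * ((1 * 1 * q 1 2 ^ (9:ℕ))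 * q 0 1 - (1 * 1 * q 1 0 ^ (9:ℕ)) * q 2 1) ^ (3:ℕ) + g ^ (63:ℕ) * (((-1) * 1 * q 4 2 ^ (9:ℕ)) * q 0 3 - ((-1) * 1 * q 4 0 ^ (9:ℕ)) * q 2 3) ^ (3:ℕ)) - (0 - 1) := by
  have e : ZZ g q 0 0 0 = (∑ c, k00 g (0 - c) * AA q 0 c c) - (∑ c, k01 g (0 - c) * AA q (2 * 0) (2 * c) (2 * c) ^ 3)
      - (0 - 1) := by
    unfold ZZ; rw [if_pos rfl]; rfl
  rw [e, Fin.sum_univ_five, Fin.sum_univ_five]; rfl
theorem z0_01 (g : F) (q : Mt F) : ZZ g q 0 0 1 = g ^ 50 * ((1 * 1 * q 2 2 ^ 9) * q 0 1 - (1 * 1 * q 2 0 ^ 9) * q 2 1) - g ^ 16 * (1 * (-1)) * ((1 * 1 * q 0 2 ^ 9) * q 0 3 - (1 * 1 * q 0 0 ^ 9) * q 2 3) ^ 3 := rfl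
theorem z0_02 (g : F) (q : Mt F) : ZZ g q 0 0 2 = ((1 * 1 * q 2 2 ^ 9) * q 0 2 - (1 * 1 * q 2 0 ^ 9) * q 2 2) := rfl
theorem z0_10 (g : F) (q : Mt F) : ZZ g q 0 1 0 = g ^ 70 * ((1 * 1 * q 1 2 ^ 9) * q 0 0 - (1 * 1 * q 1 0 ^ 9) * q 2 0) - g ^ 64 * ((-1) * 1) * (((-1) * 1 * q 4 2 ^ 9) * q 0 2 - ((-1) * 1 * q 4 0 ^ 9) * q 2 2) ^ 3 := rfl
theorem z0_11 (g : F) (q : Mt F) : ZZ g q 0 1 1 = (g ^ (63:ℕ) * ((1 * 1 * q 2 2 ^ (9:ℕ)) * q 0 0 - (1 * 1 * q 2 0 ^ (9:ℕ)) * q 2 0) + 0 * ((1 * 1 * q 1 2 ^ (9:ℕ)) * q 0 1 - (1 * 1 * q 1 0 ^ (9:ℕ)) * q 2 1) + g ^ (7:ℕ) * ((1 * 1 * q 0 2 ^ (9:ℕ)) * q 0 2 - (1 * 1 * q 0 0 ^ (9:ℕ)) * q 2 2) + g ^ (74:ℕ) * (((-1) * 1 * q 4 2 ^ (9:ℕ)) * q 0 3 - ((-1) * 1 * q 4 0 ^ (9:ℕ)) * q 2 3) + g ^ (26:ℕ) * (((-1) * 1 * q 3 2 ^ (9:ℕ)) * q 0 4 - ((-1) * 1 * q 3 0 ^ (9:ℕ)) * q 2 4)) - (g ^ (63:ℕ) * ((1 * 1 * q 2 2 ^ (9:ℕ)) * q 0 0 - (1 * 1 * q 2 0 ^ (9:ℕ)) * q 2 0) ^ (3:ℕ) + g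 ^ (7:ℕ) * ((1 * 1 * q 0 2 ^ (9:ℕ)) * q 0 2 - (1 * 1 * q 0 0 ^ (9:ℕ)) * q 2 2) ^ (3:ℕ) + g ^ (61:ℕ) * (((-1) * 1 * q 3 2 ^ (9:ℕ)) * q 0 4 - ((-1) * 1 * q 3 0 ^ (9:ℕ)) * q 2 4) ^ (3:ℕ) + 0 * ((1 * 1 * q 1 2 ^ (9:ℕ)) * q 0 1 - (1 * 1 * q 1 0 ^ (9:ℕ)) * q 2 1) ^ (3:ℕ) + g ^ (69:ℕ) * (((-1) * 1 * q 4 2 ^ (9:ℕ)) * q 0 3 - ((-1) * 1 * q 4 0 ^ (9:ℕ)) * q 2 3) ^ (3:ℕ)) - (0 - 0) := by
  have e : ZZ g q 0 1 1 = (∑ c, k00 g (1 - c) * AA q 0 c c) - (∑ c, k01 g (1 - c) * AA q (2 * 0) (2 * c) (2 * c) ^ 3)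
      - (0 - 0) := by
    unfold ZZ; rw [if_pos rfl]; rfl
  rw [e, Fin.sum_univ_five, Fin.sum_univ_five]; rfl
theorem z0_12 (g : F) (q : Mt F) : ZZ g q 0 1 2 = g ^ 50 * ((1 * 1 * q 1 2 ^ 9) * q 0 2 - (1 * 1 * q 1 0 ^ 9) * q 2 2) - g ^ 24 * ((-1) * 1) * (((-1) * 1 * q 3 2 ^ 9) * q 0 0 - ((-1) * 1 * q 3 0 ^ 9) * q 2 0) ^ 3 := rfl
theorem z0_20 (g : F) (q : Mt F) : ZZ g q 0 2 0 = 0 := rfl
theorem z0_21 (g : F) (q : Mt F) : ZZ g q 0 2 1 = g ^ 70 * ((1 * 1 * q 0 2 ^ 9) * q 0 1 - (1 * 1 * q 0 0 ^ 9) * q 2 1) - g ^ 56 * (1 * (-1)) * ((1 * 1 * q 2 2 ^ 9) * q 0 4 - (1 * 1 * q 2 0 ^ 9) * q 2 4) ^ 3 := rfl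
theorem z0_22 (g : F) (q : Mt F) : ZZ g q 0 2 2 = (g ^ (26:ℕ) * ((1 * 1 * q 2 2 ^ (9:ℕ)) * q 0 0 - (1 * 1 * q 2 0 ^ (9:ℕ)) * q 2 0) + g ^ (63:ℕ) * ((1 * 1 * q 1 2 ^ (9:ℕ)) * q 0 1 - (1 * 1 * q 1 0 ^ (9:ℕ)) * q 2 1) + 0 * ((1 * 1 * q 0 2 ^ (9:ℕ)) * q 0 2 - (1 * 1 * q 0 0 ^ (9:ℕ)) * q 2 2) + g ^ (7:ℕ) * (((-1) * 1 * q 4 2 ^ (9:ℕ)) * q 0 3 - ((-1) * 1 * q 4 0 ^ (9:ℕ)) * q 2 3) + g ^ (74:ℕ) * (((-1) * 1 * q 3 2 ^ (9:ℕ)) * q 0 4 - ((-1) * 1 * q 3 0 ^ (9:ℕ)) * q 2 4)) - (g ^ (69:ℕ) * ((1 * 1 * q 2 2 ^ (9:ℕ)) * q 0 0 - (1 * 1 * q 2 0 ^ (9:ℕ)) * q 2 0) ^ (3:ℕ) + g ^ (63:ℕ) * ((1 * 1 * q 0 2 ^ (9:ℕ)) * q 0 2 - (1 * 1 * q 0 0 ^ (9:ℕ)) * q 2 2) ^ (3:ℕ) + g ^ (7:ℕ) * (((-1) * 1 * q 3 2 ^ (9:ℕ)) * q 0 4 - ((-1) * 1 * q 3 0 ^ (9:ℕ)) * q 2 4) ^ (3:ℕ) + g ^ (61:ℕ) * ((1 * 1 * q 1 2 ^ (9:ℕ)) * q 0 1 - (1 * 1 * q 1 0 ^ (9:ℕ)) * q 2 1) ^ (3:ℕ) + 0 * (((-1) * 1 * q 4 2 ^ (9:ℕ)) * q 0 3 - ((-1) * 1 * q 4 0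 ^ (9:ℕ)) * q 2 3) ^ (3:ℕ)) - (1 - 0) := by
  have e : ZZ g q 0 2 2 = (∑ c, k00 g (2 - c) * AA q 0 c c) - (∑ c, k01 g (2 - c) * AA q (2 * 0) (2 * c) (2 * c) ^ 3)
      - (1 - 0) := by
    unfold ZZ; rw [if_pos rfl]; rfl
  rw [e, Fin.sum_univ_five, Fin.sum_univ_five]; rfl
theorem z0_30 (g : F) (q : Mt F) : ZZ g q 0 3 0 = (((-1) * 1 * q 4 2 ^ 9) * q 0 0 - ((-1) * 1 * q 4 0 ^ 9) * q 2 0) := rfl
theorem z0_31 (g : F) (q : Mt F) : ZZ g q 0 3 1 = 0 := rfl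
theorem z0_32 (g : F) (q : Mt F) : ZZ g q 0 3 2 = g ^ 70 * (((-1) * 1 * q 4 2 ^ 9) * q 0 2 - ((-1) * 1 * q 4 0 ^ 9) * q 2 2) - g ^ 32 * (1 * (-1)) * ((1 * 1 * q 0 2 ^ 9) * q 0 1 - (1 * 1 * q 0 0 ^ 9) * q 2 1) ^ 3 := rfl
theorem z0_40 (g : F) (q : Mt F) : ZZ g q 0 4 0 = g ^ 50 * (((-1) * 1 * q 3 2 ^ 9) * q 0 0 - ((-1) * 1 * q 3 0 ^ 9) * q 2 0) - g ^ 72 * (1 * (-1)) * ((1 * 1 * q 2 2 ^ 9) * q 0 1 - (1 * 1 * q 2 0 ^ 9) * q 2 1) ^ 3 := rfl
theorem z0_41 (g : F) (q : Mt F) : ZZ g q 0 4 1 = (((-1) * 1 * q 3 2 ^ 9) * q 0 1 - ((-1) * 1 * q 3 0 ^ 9) * q 2 1) := rfl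
theorem z0_42 (g : F) (q : Mt F) : ZZ g q 0 4 2 = 0 := rfl

theorem sb3 (h3 : (3 : F) = 0) (x y : F) : (x - y) ^ 3 = x ^ 3 - y ^ 3 := by
  linear_combination (x * y ^ 2 - x ^ 2 * y) * h3
theorem ad3 (h3 : (3 : F) = 0) (x y : F) : (x + y) ^ 3 = x ^ 3 + y ^ 3 := by
  linear_combination (x * y ^ 2 + x ^ 2 * y) * h3
theorem ng3 (x : F) : (-x) ^ 3 = -(x ^ 3) := by ring

/-- the registers of `plS3` -/
theorem s3_eqs (h : PNine g q) (h3 : (3 : F) = 0) {Q00 Q01 Q02 Q03 Q04 : F}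
    (hQ00 : Q00 = q 0 0 * (q 2 2 ^ (3:ℕ)) ^ (3:ℕ)) (hQ01 : Q01 = q 0 1 * (q 1 2 ^ (3:ℕ)) ^ (3:ℕ))
    (hQ02 : Q02 = q 0 2 * (q 0 2 ^ (3:ℕ)) ^ (3:ℕ)) (hQ03 : Q03 = q 0 3 * (q 2 4 ^ (3:ℕ)) ^ (3:ℕ))
    (hQ04 : Q04 = q 0 4 * (q 2 3 ^ (3:ℕ)) ^ (3:ℕ)) {c01 c12 : F} (hc01 : c01 = (q 0 1 ^ (3:ℕ)) ^ (3:ℕ)) (hc12 : c12 = (q 1 2 ^ (3:ℕ)) ^ (3:ℕ))
    {A0 A1 A2 A3 A4 Z00 Z11 Z22 d20 d10 d21 u M22 M12 M30 M42 M01 M40 M31 Z12 Z32 Z10 Z40 Z01 Z21 : F}
    (hA0 : A0 = Q00 - Q02) (hA1 : A1 = Q01 - (Q01 ^ (3:ℕ)) ^ (3:ℕ)) (hA2 : A2 = Q02 - (Q00 ^ (3:ℕ)) ^ (3:ℕ))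
    (hA3 : A3 = (Q04 ^ (3:ℕ)) ^ (3:ℕ) - Q03) (hA4 : A4 = (Q03 ^ (3:ℕ)) ^ (3:ℕ) - Q04)
    (hZ00 : Z00 = g ^ (7:ℕ) * A1 + g ^ (74:ℕ) * A2 + g ^ (26:ℕ) * A3 + g ^ (63:ℕ) * A4
      - (g ^ (7:ℕ) * A0 ^ (3:ℕ) + g ^ (61:ℕ) * A2 ^ (3:ℕ) + g ^ (69:ℕ) * A1 ^ (3:ℕ) + g ^ (63:ℕ) * A3 ^ (3:ℕ)) + 1)
    (hZ11 : Z11 = g ^ (63:ℕ) * A0 + g ^ (7:ℕ) * A2 + g ^ (74:ℕ) * A3 + g ^ (26:ℕ) * A4
      - (g ^ (63:ℕ) * A0 ^ (3:ℕ) + g ^ (7:ℕ) * A2 ^ (3:ℕ) + g ^ (61:ℕ) * A4 ^ (3:ℕ) + g ^ (69:ℕ) * A3 ^ (3:ℕ)))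
    (hZ22 : Z22 = g ^ (26:ℕ) * A0 + g ^ (63:ℕ) * A1 + g ^ (7:ℕ) * A3 + g ^ (74:ℕ) * A4
      - (g ^ (69:ℕ) * A0 ^ (3:ℕ) + g ^ (63:ℕ) * A2 ^ (3:ℕ) + g ^ (7:ℕ) * A4 ^ (3:ℕ) + g ^ (61:ℕ) * A1 ^ (3:ℕ)) - 1)
    (hd20 : d20 = Z22 - Z00) (hd10 : d10 = Z11 - Z00) (hd21 : d21 = Z22 - Z11)
    (hu : u = (q 2 2 ^ (3:ℕ)) ^ (3:ℕ) * q 0 2) (hM22 : M22 = u - (u ^ (3:ℕ)) ^ (3:ℕ)) (hM12 : M12 = q 0 2 * c12 - q 2 2 * c01)
    (hM30 : M30 = (q 2 3 ^ (3:ℕ)) ^ (3:ℕ) * q 0 0 - (q 0 3 ^ (3:ℕ)) ^ (3:ℕ) * q 0 2)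
    (hM42 : M42 = (q 2 4 ^ (3:ℕ)) ^ (3:ℕ) * q 0 2 - (q 0 4 ^ (3:ℕ)) ^ (3:ℕ) * q 2 2)
    (hM01 : M01 = (q 0 2 ^ (3:ℕ)) ^ (3:ℕ) * q 0 1 - (q 0 0 ^ (3:ℕ)) ^ (3:ℕ) * q 1 2)
    (hM40 : M40 = (q 2 4 ^ (3:ℕ)) ^ (3:ℕ) * q 0 0 - (q 0 4 ^ (3:ℕ)) ^ (3:ℕ) * q 0 2)
    (hM31 : M31 = (q 2 3 ^ (3:ℕ)) ^ (3:ℕ) * q 0 1 - (q 0 3 ^ (3:ℕ)) ^ (3:ℕ) * q 1 2)
    (hZ12 : Z12 = g ^ (50:ℕ) * M12 - g ^ (24:ℕ) * M30 ^ (3:ℕ)) (hZ32 : Z32 = g ^ (32:ℕ) * M01 ^ (3:ℕ) - g ^ (70:ℕ) * M42)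
    (hZ10 : Z10 = -(g ^ (70:ℕ) * (M01 ^ (3:ℕ)) ^ (3:ℕ) + g ^ (64:ℕ) * M42 ^ (3:ℕ)))
    (hZ40 : Z40 = -(g ^ (50:ℕ) * M30 + g ^ (72:ℕ) * ((M12 ^ (3:ℕ)) ^ (3:ℕ)) ^ (3:ℕ)))
    (hZ01 : Z01 = -(g ^ (50:ℕ) * (M12 ^ (3:ℕ)) ^ (3:ℕ) + g ^ (16:ℕ) * ((M30 ^ (3:ℕ)) ^ (3:ℕ)) ^ (3:ℕ)))
    (hZ21 : Z21 = g ^ (70:ℕ) * M01 - g ^ (56:ℕ) * ((M42 ^ (3:ℕ)) ^ (3:ℕ)) ^ (3:ℕ)) :
    q 0 0 * M22 + q 0 1 * Z12 + q 0 2 * d20 + q 0 3 * Z32 + q 2 3 * M40 - (q 1 2 * Z10 + q 2 4 * Z40) = 0 ∧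
    q 0 0 * Z01 + q 0 1 * d10 + q 0 2 * Z21 + q 1 3 * M40 - (q 0 4 * M31 + q 1 1 * Z10 + q 1 4 * Z40) = 0 ∧
    q 0 1 * M22 + q 1 1 * Z12 + q 1 2 * d21 + q 1 3 * Z32 + q 2 4 * M31 - (q 0 2 * Z01 + q 2 2 * Z21) = 0 := by
  have hs : ∀ x y, q x y = q y x := fun x y => by
    conv_lhs => rw [← h.sym, Matrix.transpose_apply]
  have s10 := hs 1 0
  have s20 := hs 2 0
  have s21 := hs 2 1
  have s30 := hs 3 0
  have s31 := hs 3 1
  have s32 := hs 3 2
  have s40 := hs 4 0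
  have s41 := hs 4 1
  have s42 := hs 4 2
  have s43 := hs 4 3
  have p : ∀ a b, (((q a b ^ 3) ^ 3) ^ 3) ^ 3 = q a b := fun a b => by
    rw [← pow_mul, ← pow_mul, ← pow_mul]; exact h.pow81 a b
  have n9 : ∀ x : F, x ^ 9 = (x ^ 3) ^ 3 := fun x => by rw [← pow_mul]
  have e02 := h.c3s h3 0 0 2
  have e01 := h.c3s h3 0 0 1
  have e12 := h.c3s h3 0 1 2
  rw [Fin.sum_univ_five, Fin.sum_univ_five] at e02 e01 e12
  simp only [z0_00, z0_01, z0_02, z0_10, z0_11, z0_12, z0_20, z0_21, z0_22, z0_30, z0_31, z0_32, z0_40, z0_41, z0_42,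
    s10, s20, s21, s30, s31, s32, s40, s41, s42, s43, n9, sb3 h3, ad3 h3, ng3, mul_pow, one_pow, neg_mul, mul_neg,
    one_mul, mul_one, neg_neg, p] at e02 e01 e12
  subst hZ12 hZ32 hZ10 hZ40 hZ01 hZ21 hM22 hM12 hM30 hM42 hM01 hM40 hM31 hu hd20 hd10 hd21 hZ00 hZ11 hZ22 hA0 hA1 hA2 hA3 hA4 hc01 hc12 hQ00 hQ01 hQ02 hQ03 hQ04
  simp only [sb3 h3, ad3 h3, ng3, mul_pow, p]
  refine ⟨?_, ?_, ?_⟩
  · linear_combination e02
  · linear_combination e01
  · linear_combination e12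

end
end Cfsg.Agent.H879.E83
end

-- part: H277/P9/Z0
section
/-!
# S5925, box H: the WP lemmas of `plZ0d`, `plZ0e` and the top of `plZ0` (plan v3)

`wp_Z0_of` : `plZ0` from `plZ0b` (helper455).
-/

set_option autoImplicit false
set_option linter.style.longLine false

namespace Cfsg.Agent.H277.P9
open Matrix Cfsg.Agent.H879.E83 Cfsg.Agent.H780.P9

variable {F : Type*} [Field F] {g : F} {q p : Mt F} {m : F} {t : Fin 10 → F}

theorem fr2 (x : F) : (x ^ 3) ^ 3 = x ^ 9 := by rw [← pow_mul]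

/-- `Q = x bar z`, `x ≠ 0`: `bar Q bar (x⁻¹) = z` -/
theorem other {x z : F} (hx : x ^ 80 = 1) (hz : z ^ 81 = z) : (x * z ^ 9) ^ 9 * ((x ^ 79) ^ 3) ^ 3 = z := by
  have e : (x * z ^ 9) ^ 9 * ((x ^ 79) ^ 3) ^ 3 = (x ^ 80) ^ 9 * z ^ 81 := by ring
  rw [e, hx, hz, one_pow, one_mul]

theorem pow79 (x : F) : x * (x ^ 3 * (x ^ 3) ^ 3 * ((x ^ 3) ^ 3) ^ 3 * (x ^ 3 * (x ^ 3) ^ 3 * ((x ^ 3) ^ 3) ^ 3)) = x ^ 79 := by
  ring

/-- the alternatives `g ^ i`, `i < 5` -/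
theorem alt5 {x : F} (h : ∃ i < 5, x = g ^ i) (ks : List F) :
    ∃ e ∈ ([.pw 0, .pw 1, .pw 2, .pw 3, .pw 4] : List Ex), e.eval g ks [] = x := by
  obtain ⟨i, hi, rfl⟩ := h
  refine ⟨.pw i, ?_, rfl⟩
  interval_cases i <;> simp

/-- the alternatives `0, g ^ i`, `i < 5` -/
theorem alt6 {x : F} (h : x = 0 ∨ ∃ i < 5, x = g ^ i) (ks : List F) :
    ∃ e ∈ ([.zero, .pw 0, .pw 1, .pw 2, .pw 3, .pw 4] : List Ex), e.eval g ks [] = x := by
  rcases h with h | h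
  · exact ⟨.zero, by simp, h.symm⟩
  · obtain ⟨e, he, hx⟩ := alt5 h ks
    exact ⟨e, List.mem_cons_of_mem _ he, hx⟩

/-- the alternatives `0, 1, -1` -/
theorem alt3 (c : Ctx g q p m t) (i : Fin 10) (ks : List F) :
    ∃ e ∈ ([.zero, .pw 0, .neg (.pw 0)] : List Ex), e.eval g ks [] = t i := by
  rcases c.tr i with h | h | h
  · exact ⟨.zero, by simp, h.symm⟩
  · exact ⟨.pw 0, by simp, by rw [h]; exact pow_zero g⟩
  · exact ⟨.neg (.pw 0), by simp, by rw [h]; show -(g ^ 0) = -1; rw [pow_zero]⟩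

theorem pow_ne (c : Ctx g q p m t) {x : F} (h : ∃ i < 5, x = g ^ i) : x ≠ 0 := by
  obtain ⟨i, -, rfl⟩ := h
  exact pow_ne_zero _ (ne_of_pow80 (prim c.hg c.h3).pow_eq_one)

theorem wp_Z0d (c : Ctx g q p m t) (hpq : p = q) (h13 : p 1 3 = 0) (h14 : p 1 4 = 0) (h04 : p 0 4 = 0)
    (h23 : p 2 3 = 0) (h : ∀ x y, WS3 g q p t x y) :
    WP g (Sol g q) plZ0d (K40 g p t (p 0 3) (p 2 4)) (LC p) := by
  refine WP_fl (ls' := [p 0 0, p 0 2, p 2 2]) ?_ rfl ?_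
  · intro e he
    simp only [List.mem_cons, List.not_mem_nil, or_false] at he
    rcases he with rfl | rfl
    · show p 0 1 * p 0 1 ^ 9 + (p 0 0 * p 0 2 ^ 9 + (p 0 0 * p 0 2 ^ 9) ^ 9) = 0
      have e := herm_exp' c.four.herm 0 0
      rw [if_neg (by decide), c.sym 1 0, c.sym 2 0, c.sym 3 0, c.sym 4 0, h04] at e
      linear_combination e + p 0 0 ^ 9 * c.p81 0 2
    · show p 1 2 * p 1 2 ^ 9 + (p 0 2 * p 2 2 ^ 9 + (p 0 2 * p 2 2 ^ 9) ^ 9) = 0
      have e := herm_exp' c.four.herm 2 2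
      rw [if_neg (by decide), c.sym 2 1, c.sym 2 0, c.sym 3 2, c.sym 4 2, h23] at e
      linear_combination e + p 0 2 ^ 9 * c.p81 2 2
  · refine WP_df (x := p 0 3) rfl ?_
    refine WP_df (x := p 2 4) rfl ?_
    refine WP_df (x := 0) rfl ?_
    refine WP_sel (ls' := LS3 q) ?_ (h _ _)
    show [p 0 0, p 0 2, p 2 2, p 0 3, 0, 0, 0, p 2 4, 0] = LS3 q
    rw [← hpq]
    unfold LS3
    rw [h13, h14, h04, h23]

theorem wp_Z0e (c : Ctx g q p m t) (hpq : p = q) (h13 : p 1 3 = 0) (h14 : p 1 4 = 0) (h04 : p 0 4 = 0)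
    (h23 : p 2 3 = 0)
    (hn : (∃ i < 5, p 0 3 = g ^ i) ∨ (p 0 3 = 0 ∧ (p 2 4 = 0 ∨ ∃ i < 5, p 2 4 = g ^ i)))
    (h : ∀ x y, WS3 g q p t x y) : WP g (Sol g q) plZ0e (K38 g p t) (LC p) := by
  have hd := wp_Z0d c hpq h13 h14 h04 h23 h
  refine WP_ksp (fun h0 => ?_) (fun h0 => ?_)
  · change p 0 3 * p 2 4 ^ 9 = 0 at h0
    rcases hn with hn | ⟨h03, hn⟩
    · have h24 : p 2 4 = 0 := by
        rcases mul_eq_zero.1 h0 with h1 | h1
        · exact absurd h1 (pow_ne c hn)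
        · exact pow_eq_zero_iff (by norm_num) |>.1 h1
      obtain ⟨e, he, hx⟩ := alt5 hn (K38 g p t)
      refine WP_or_left (WP_alt e he hx (WP_kf (x := 0) rfl ?_))
      rw [h24] at hd
      exact hd
    · refine WP_or_right (WP_kf (x := 0) rfl ?_)
      obtain ⟨e, he, hx⟩ := alt6 hn (K38 g p t ++ [0])
      refine WP_alt e he hx ?_
      rw [h03] at hd
      exact hd
  · change p 0 3 * p 2 4 ^ 9 ≠ 0 at h0
    have h03 : p 0 3 ≠ 0 := left_ne_zero_of_mul h0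
    have hn' : ∃ i < 5, p 0 3 = g ^ i := by
      rcases hn with hn | ⟨h1, -⟩
      · exact hn
      · exact absurd h1 h03
    obtain ⟨e, he, hx⟩ := alt5 hn' (K38 g p t)
    refine WP_alt e he hx (WP_kf (x := p 2 4) ?_ hd)
    show (p 0 3 * p 2 4 ^ 9) ^ 9 * (((p 0 3 * ((p 0 3) ^ 3 * ((p 0 3) ^ 3) ^ 3 * (((p 0 3) ^ 3) ^ 3) ^ 3 *
      ((p 0 3) ^ 3 * ((p 0 3) ^ 3) ^ 3 * (((p 0 3) ^ 3) ^ 3) ^ 3))) ^ 3) ^ 3) = p 2 4
    rw [pow79]
    exact other (pow80_of (c.p81 0 3) h03) (c.p81 2 4)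

/-- the top of `plZ0` -/
theorem wp_Z0_of (c : Ctx g q p m t) (hpq : p = q) (h13 : p 1 3 = 0) (h14 : p 1 4 = 0) (hn : NZ g q)
    (h : ∀ x y, WS3 g q p t x y) (hb : WP g (Sol g q) plZ0b (K40 g p t (p 0 4) (p 2 3)) (LC p)) :
    WC g q p t plZ0 := by
  unfold WC
  obtain ⟨e, he, hx⟩ := alt3 c 8 (K33 g p t)
  refine WP_alt e he hx ?_
  refine WP_kf (x := QQ p 0 3) c.Q03.symm ?_
  refine WP_kf (x := QQ p 0 4) c.Q04.symm ?_
  refine WP_kf (x := QQ p 0 3 ^ 9) (fr2 _) ?_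
  refine WP_kf (x := QQ p 0 4 ^ 9) (fr2 _) ?_
  change WP g (Sol g q) _ (K38 g p t) (LC p)
  rw [← hpq] at hn
  refine WP_ksp (fun h0 => ?_) (fun h0 => ?_)
  · change p 0 4 * p 2 3 ^ 9 = 0 at h0
    rcases hn with hn | ⟨h04, hn⟩ | ⟨h04, h23, hn⟩ | ⟨h04, h23, h03, hn⟩
    · have h23 : p 2 3 = 0 := by
        rcases mul_eq_zero.1 h0 with h1 | h1
        · exact absurd h1 (pow_ne c hn)
        · exact pow_eq_zero_iff (by norm_num) |>.1 h1
      obtain ⟨e, he, hx⟩ := alt5 hn (K38 g p t)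
      refine WP_or_left (WP_alt e he hx (WP_kf (x := 0) rfl ?_))
      rw [h23] at hb
      exact hb
    · refine WP_or_right (WP_or_left (WP_kf (x := 0) rfl ?_))
      obtain ⟨e, he, hx⟩ := alt5 hn (K38 g p t ++ [0])
      refine WP_alt e he hx ?_
      rw [h04] at hb
      exact hb
    · exact WP_or_right (WP_or_right (wp_Z0e c hpq h13 h14 h04 h23 (.inl hn) h))
    · exact WP_or_right (WP_or_right (wp_Z0e c hpq h13 h14 h04 h23 (.inr ⟨h03, hn⟩) h))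
  · change p 0 4 * p 2 3 ^ 9 ≠ 0 at h0
    have h04 : p 0 4 ≠ 0 := left_ne_zero_of_mul h0
    have hn' : ∃ i < 5, p 0 4 = g ^ i := by
      rcases hn with hn | ⟨h1, -⟩ | ⟨h1, -⟩ | ⟨h1, -⟩
      · exact hn
      all_goals exact absurd h1 h04
    obtain ⟨e, he, hx⟩ := alt5 hn' (K38 g p t)
    refine WP_alt e he hx (WP_kf (x := p 2 3) ?_ hb)
    show (p 0 4 * p 2 3 ^ 9) ^ 9 * (((p 0 4 * ((p 0 4) ^ 3 * ((p 0 4) ^ 3) ^ 3 * (((p 0 4) ^ 3) ^ 3) ^ 3 *
      ((p 0 4) ^ 3 * ((p 0 4) ^ 3) ^ 3 * (((p 0 4) ^ 3) ^ 3) ^ 3))) ^ 3) ^ 3) = p 2 3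
    rw [pow79]
    exact other (pow80_of (c.p81 0 4) h04) (c.p81 2 3)

end Cfsg.Agent.H277.P9
end

-- part: H455/P9/Blk
section
/-!
# S5925, box H: blocks for the WP lemmas (helper455)
-/

set_option autoImplicit false
set_option linter.style.longLine false

namespace Cfsg.Agent.H455.P9
open Matrix Cfsg.Agent.H879.E83 Cfsg.Agent.H780.P9

section
variable {F : Type*} [Field F] {g : F} {q p : Mt F} {m : F} {t : Fin 10 → F}

theorem QQ03 (p : Mt F) : QQ p 0 3 = p 0 3 * p 2 4 ^ 9 := by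
  have s0 : sgm (0 : Fin 5) = 2 := by decide
  have s3 : sgm (3 : Fin 5) = 4 := by decide
  rw [QQ, s0, s3]

theorem ctx_e1 (c : Ctx g q p m t) :
    p 0 1 * p 0 1 ^ 9 + (p 0 0 * p 0 2 ^ 9 + (p 0 0 * p 0 2 ^ 9) ^ 9) = p 0 3 * p 0 4 ^ 9 + (p 0 3 * p 0 4 ^ 9) ^ 9 := by
  have h := herm_exp' c.four.herm 0 0
  rw [if_neg (by decide), c.sym 1 0, c.sym 2 0, c.sym 3 0, c.sym 4 0] at h
  have h1 := c.p81 0 2
  have h2 := c.p81 0 4
  linear_combination h + (p 0 0) ^ 9 * h1 - (p 0 3) ^ 9 * h2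

theorem ctx_e4 (c : Ctx g q p m t) :
    p 1 2 * p 1 2 ^ 9 + (p 0 2 * p 2 2 ^ 9 + (p 0 2 * p 2 2 ^ 9) ^ 9) = p 2 3 * p 2 4 ^ 9 + (p 2 3 * p 2 4 ^ 9) ^ 9 := by
  have h := herm_exp' c.four.herm 2 2
  rw [if_neg (by decide), c.sym 2 1, c.sym 2 0, c.sym 3 2, c.sym 4 2] at h
  have h1 := c.p81 2 2
  have h2 := c.p81 2 4
  linear_combination h + (p 0 2) ^ 9 * h1 - (p 2 3) ^ 9 * h2

theorem pow80 {x : F} (hx : x ^ 81 = x) (h0 : x ≠ 0) : x ^ 80 = 1 := pow80_of hx h0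

theorem sel_range (ls r : List F) : (List.range ls.length).map (fun j => (ls ++ r).getD j 0) = ls := by
  apply List.ext_getElem
  · simp
  · intro i h1 h2
    simp only [List.getElem_map, List.getElem_range]
    rw [List.getD_eq_getElem _ _ (by rw [List.length_append]; omega), List.getElem_append_left h2]

theorem getD_len (ls r : List F) (i : ℕ) : (ls ++ r).getD (ls.length + i) 0 = r.getD i 0 := by
  rw [List.getD_eq_getElem?_getD, List.getD_eq_getElem?_getD, List.getElem?_append_right (by omega)]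
  congr 2
  omega

/-- the block of a pair of lanes with `first * bar second = sc` -/
def PR (k bk n : ℕ) (pl : Plan) : Plan :=
  .ksp (.k k)
    (.or (.ex (.df .zero (.sel (List.range n ++ [n, n + 2]) pl)))
      (.exn (.df .zero (.sel (List.range n ++ [n + 2, n]) pl))))
    (.exn (.df (.mul (.k bk) (.fr (.fr (.v (n + 1))))) (.sel (List.range n ++ [n, n + 2]) pl)))

theorem wp_PR {G : Prop} {ks ls : List F} {k bk n : ℕ} {pl : Plan} {x z : F} (hn : ls.length = n) (hx : x ^ 81 = x)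
    (hz : z ^ 81 = z) (hk : ks.getD k 0 = x * z ^ 9) (hbk : ks.getD bk 0 = (x * z ^ 9) ^ 9)
    (h : WP g G pl ks (ls ++ [x, z])) : WP g G (PR k bk n pl) ks ls := by
  subst hn
  have e0 : ∀ a b c : F, (ls ++ [a, b, c]).getD ls.length 0 = a := fun a b c => getD_len ls [a, b, c] 0
  have e2 : ∀ a b c : F, (ls ++ [a, b, c]).getD (ls.length + 2) 0 = c := fun a b c => getD_len ls [a, b, c] 2
  refine WP_ksp ?_ ?_
  · intro h0
    have h0' : x * z ^ 9 = 0 := by rw [← hk]; exact h0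
    by_cases hz0 : z = 0
    · refine WP_or_left (WP_ex x hx (WP_df (x := 0) rfl (WP_sel (ls' := ls ++ [x, z]) ?_ h)))
      rw [List.append_assoc, List.map_append]
      show (List.range ls.length).map (fun j => (ls ++ [x, x ^ 79, 0]).getD j 0) ++
        [(ls ++ [x, x ^ 79, 0]).getD ls.length 0, (ls ++ [x, x ^ 79, 0]).getD (ls.length + 2) 0] = _
      rw [sel_range, e0, e2, hz0]
    · have hx0 : x = 0 := by
        rcases mul_eq_zero.1 h0' with h1 | h1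
        · exact h1
        · exact absurd (pow_eq_zero_iff (by norm_num) |>.1 h1) hz0
      refine WP_or_right (WP_exn z (pow80 hz hz0) (WP_df (x := 0) rfl (WP_sel (ls' := ls ++ [x, z]) ?_ h)))
      rw [List.append_assoc, List.map_append]
      show (List.range ls.length).map (fun j => (ls ++ [z, z ^ 79, 0]).getD j 0) ++
        [(ls ++ [z, z ^ 79, 0]).getD (ls.length + 2) 0, (ls ++ [z, z ^ 79, 0]).getD ls.length 0] = _
      rw [sel_range, e0, e2, hx0]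
  · intro h0
    have h0' : x * z ^ 9 ≠ 0 := by rw [← hk]; exact h0
    have hx0 : x ≠ 0 := left_ne_zero_of_mul h0'
    have h80 := pow80 hx hx0
    refine WP_exn x h80 (WP_df (x := z) ?_ (WP_sel (ls' := ls ++ [x, z]) ?_ h))
    · show ks.getD bk 0 * (((ls ++ [x, x ^ 79]).getD (ls.length + 1) 0 ^ 3) ^ 3) = z
      rw [hbk, getD_len]
      show (x * z ^ 9) ^ 9 * (((x ^ 79) ^ 3) ^ 3) = z
      calc (x * z ^ 9) ^ 9 * (((x ^ 79) ^ 3) ^ 3) = (x ^ 80) ^ 9 * z ^ 81 := by ring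
        _ = z := by rw [h80, one_pow, one_mul, hz]
    · rw [List.append_assoc, List.map_append]
      show (List.range ls.length).map (fun j => (ls ++ [x, x ^ 79, z]).getD j 0) ++
        [(ls ++ [x, x ^ 79, z]).getD ls.length 0, (ls ++ [x, x ^ 79, z]).getD (ls.length + 2) 0] = _
      rw [sel_range, e0, e2]

/-! ### the equations of row 1 -/

end
end Cfsg.Agent.H455.P9
end

-- part: H455/P9/C3z
section
/-!
# S5925, box H: the equations C3 for `D = e_0`, pairs `(0,1)`, `(1,2)`, when `q01 = q12 = q13 = q14 = 0` (helper455)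
-/

set_option autoImplicit false
set_option linter.style.longLine false

namespace Cfsg.Agent.H455.P9
open Matrix Cfsg.Agent.H879.E83 Cfsg.Agent.H780.P9

section
variable {F : Type*} [Field F] {g : F} {q : Mt F}

theorem AA_val (q : Mt F) (j : Fin 5) :
    AA q 0 0 j = q 2 2 ^ 9 * q 0 j - q 2 0 ^ 9 * q 2 j ∧ AA q 0 1 j = q 1 2 ^ 9 * q 0 j - q 1 0 ^ 9 * q 2 j ∧
      AA q 0 2 j = q 0 2 ^ 9 * q 0 j - q 0 0 ^ 9 * q 2 j ∧ AA q 0 3 j = -(q 4 2 ^ 9 * q 0 j - q 4 0 ^ 9 * q 2 j) ∧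
      AA q 0 4 j = -(q 3 2 ^ 9 * q 0 j - q 3 0 ^ 9 * q 2 j) := by
  have s0 : sgm (0 : Fin 5) = 2 := by decide
  have s1 : sgm (1 : Fin 5) = 1 := by decide
  have s2 : sgm (2 : Fin 5) = 0 := by decide
  have s3 : sgm (3 : Fin 5) = 4 := by decide
  have s4 : sgm (4 : Fin 5) = 3 := by decide
  have j0 : Jv (0 : Fin 5) = (1 : F) := rfl
  have j1 : Jv (1 : Fin 5) = (1 : F) := rfl
  have j2 : Jv (2 : Fin 5) = (1 : F) := rfl
  have j3 : Jv (3 : Fin 5) = (-1 : F) := rfl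
  have j4 : Jv (4 : Fin 5) = (-1 : F) := rfl
  rw [AA_zero, AA_zero, AA_zero, AA_zero, AA_zero, s0, s1, s2, s3, s4, j0, j1, j2, j3, j4]
  refine ⟨?_, ?_, ?_, ?_, ?_⟩ <;> ring

theorem ZZ_vals (q : Mt F) :
    ZZ g q 0 0 1 = g ^ 50 * AA q 0 0 1 - g ^ 16 * (1 * -1) * AA q 0 2 3 ^ 3 ∧
      ZZ g q 0 2 1 = g ^ 70 * AA q 0 2 1 - g ^ 56 * (1 * -1) * AA q 0 0 4 ^ 3 ∧
      ZZ g q 0 3 1 = 0 ∧ ZZ g q 0 4 1 = AA q 0 4 1 ∧
      ZZ g q 0 1 0 = g ^ 70 * AA q 0 1 0 - g ^ 64 * (-1 * 1) * AA q 0 3 2 ^ 3 ∧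
      ZZ g q 0 1 2 = g ^ 50 * AA q 0 1 2 - g ^ 24 * (-1 * 1) * AA q 0 4 0 ^ 3 := by
  refine ⟨?_, ?_, ?_, ?_, ?_, ?_⟩
  · rw [ZZ, if_neg (by decide), if_pos (by decide)]; rfl
  · rw [ZZ, if_neg (by decide), if_neg (by decide), if_neg (by decide), if_neg (by decide)]; rfl
  · rw [ZZ, if_neg (by decide), if_neg (by decide), if_neg (by decide), if_pos (by decide)]
  · rw [ZZ, if_neg (by decide), if_neg (by decide), if_pos (by decide)]; rfl
  · rw [ZZ, if_neg (by decide), if_neg (by decide), if_neg (by decide), if_neg (by decide)]; rfl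
  · rw [ZZ, if_neg (by decide), if_pos (by decide)]; rfl

/-- `bar M30`, `bar M42`, `M30`, `M42` -/
def b30 (q : Mt F) : F := q 2 3 * q 0 0 ^ 9 - q 0 3 * q 0 2 ^ 9
def b42 (q : Mt F) : F := q 2 4 * q 0 2 ^ 9 - q 0 4 * q 2 2 ^ 9
def m30 (q : Mt F) : F := q 2 3 ^ 9 * q 0 0 - q 0 3 ^ 9 * q 0 2
def m42 (q : Mt F) : F := q 2 4 ^ 9 * q 0 2 - q 0 4 ^ 9 * q 2 2

theorem c3z (h : PNine g q) (h3 : (3 : F) = 0) (h01 : q 0 1 = 0) (h12 : q 1 2 = 0) (h13 : q 1 3 = 0) (h14 : q 1 4 = 0) :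
    q 0 0 * (g ^ 16 * b30 q ^ 3) + q 0 2 * (g ^ 56 * b42 q ^ 3) = g ^ 64 * q 1 1 * m42 q ^ 3 ∧
      g ^ 24 * q 1 1 * m30 q ^ 3 = q 0 2 * (g ^ 16 * b30 q ^ 3) + q 2 2 * (g ^ 56 * b42 q ^ 3) := by
  have hs : ∀ x y, q x y = q y x := fun x y => by conv_lhs => rw [← h.sym, Matrix.transpose_apply]
  have e1 := h.c3s h3 0 0 1
  have e2 := h.c3s h3 0 1 2
  rw [Fin.sum_univ_five, Fin.sum_univ_five] at e1 e2
  obtain ⟨z01, z21, z31, z41, z10, z12⟩ := ZZ_vals (g := g) q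
  have a0 := AA_val q
  have h10 : q 1 0 = 0 := by rw [hs, h01]
  have h21 : q 2 1 = 0 := by rw [hs, h12]
  have h31 : q 3 1 = 0 := by rw [hs, h13]
  have h41 : q 4 1 = 0 := by rw [hs, h14]
  rw [z01, z21, z31, z41, z10, (a0 1).1, (a0 1).2.2.1, (a0 1).2.2.2.2, (a0 0).2.1, (a0 3).2.2.1, (a0 4).1,
    (a0 2).2.2.2.1, h01, h12, h13, h14, h10, h21, hs 2 0, hs 4 0, hs 4 2] at e1
  rw [z01, z21, z31, z41, z12, (a0 1).1, (a0 1).2.2.1, (a0 1).2.2.2.2, (a0 2).2.1, (a0 3).2.2.1, (a0 4).1,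
    (a0 0).2.2.2.2, h01, h12, h13, h14, h10, h21, hs 2 0, hs 3 2, hs 3 0] at e2
  refine ⟨?_, ?_⟩
  · rw [b30, b42, m42]
    linear_combination -e1
  · rw [b30, b42, m30]
    linear_combination -e2

theorem sub_cube (h3 : (3 : F) = 0) (x y : F) : (x - y) ^ 3 = x ^ 3 - y ^ 3 := by
  linear_combination (x * y ^ 2 - x ^ 2 * y) * h3

theorem sub_nine (h3 : (3 : F) = 0) (x y : F) : (x - y) ^ 9 = x ^ 9 - y ^ 9 := by
  have e : (x - y) ^ 9 = ((x - y) ^ 3) ^ 3 := by ring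
  rw [e, sub_cube h3, sub_cube h3]
  ring

theorem m30_nine (h : PNine g q) (h3 : (3 : F) = 0) : m30 q ^ 9 = b30 q := by
  rw [m30, b30, sub_nine h3]
  have e1 := h.pow81 2 3
  have e2 := h.pow81 0 3
  linear_combination (q 0 0 ^ 9) * e1 - (q 0 2 ^ 9) * e2

theorem m42_nine (h : PNine g q) (h3 : (3 : F) = 0) : m42 q ^ 9 = b42 q := by
  rw [m42, b42, sub_nine h3]
  have e1 := h.pow81 2 4
  have e2 := h.pow81 0 4
  linear_combination (q 0 2 ^ 9) * e1 - (q 2 2 ^ 9) * e2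

end
end Cfsg.Agent.H455.P9
end

-- part: H455/P9/Zc3
section
/-!
# S5925, box H: the branch `q01 = q12 = q13 = q14 = 0`, sub-plans `plZ0c`, `plZ0b` (helper455)
-/

set_option autoImplicit false
set_option linter.style.longLine false

namespace Cfsg.Agent.H455.P9
open Matrix Cfsg.Agent.H879.E83 Cfsg.Agent.H780.P9

section
variable {F : Type*} [Field F] {g : F} {q p : Mt F} {m : F} {t : Fin 10 → F}

theorem wp_Z0c (c : Ctx g q p m t) (hpq : p = q) (h01 : p 0 1 = 0) (h12 : p 1 2 = 0) (h13 : p 1 3 = 0)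
    (h14 : p 1 4 = 0) (h : ∀ x y, WS3 g q p t x y) :
    WP g (Sol g q) plZ0c (K40 g p t (p 0 4) (p 2 3)) (LC p ++ [p 0 3, p 2 4]) := by
  have hc := c3z c.nine c.h3 (hpq ▸ h01) (hpq ▸ h12) (hpq ▸ h13) (hpq ▸ h14)
  have n30 := m30_nine c.nine c.h3
  have n42 := m42_nine c.nine c.h3
  rw [← hpq] at hc n30 n42
  have e30 : ((p 2 3 ^ 3) ^ 3) * p 0 0 - ((p 0 3 ^ 3) ^ 3) * p 0 2 = m30 p := by rw [m30]; ring
  have e42 : ((p 2 4 ^ 3) ^ 3) * p 0 2 - ((p 0 4 ^ 3) ^ 3) * p 2 2 = m42 p := by rw [m42]; ring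
  unfold plZ0c
  refine WP_df (x := p 0 3 * ((p 0 4) ^ 3) ^ 3) rfl ?_
  refine WP_df (x := p 2 3 * ((p 2 4) ^ 3) ^ 3) rfl ?_
  refine WP_df (x := m30 p) e30 ?_
  refine WP_df (x := m42 p) e42 ?_
  refine WP_df (x := m30 p ^ 3) rfl ?_
  refine WP_df (x := m42 p ^ 3) rfl ?_
  refine WP_df (x := g ^ 16 * b30 p ^ 3) ?_ ?_
  · show g ^ 16 * (((m30 p ^ 3) ^ 3) ^ 3) = _
    rw [← n30]
    ring
  refine WP_df (x := g ^ 56 * b42 p ^ 3) ?_ ?_
  · show g ^ 56 * (((m42 p ^ 3) ^ 3) ^ 3) = _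
    rw [← n42]
    ring
  refine WP_fl (ls' := [p 0 0, p 0 2, p 2 2, p 0 3, p 2 4]) ?_ rfl ?_
  · intro e he
    simp only [List.mem_cons, List.not_mem_nil, or_false] at he
    rcases he with rfl | rfl | rfl | rfl
    · show (p 0 1 * p 0 1 ^ 9 + (p 0 0 * p 0 2 ^ 9 + (p 0 0 * p 0 2 ^ 9) ^ 9)) -
        (p 0 3 * ((p 0 4) ^ 3) ^ 3 + ((p 0 3 * ((p 0 4) ^ 3) ^ 3) ^ 3) ^ 3) = 0
      rw [ctx_e1 c]
      ring
    · show (p 1 2 * p 1 2 ^ 9 + (p 0 2 * p 2 2 ^ 9 + (p 0 2 * p 2 2 ^ 9) ^ 9)) -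
        (p 2 3 * ((p 2 4) ^ 3) ^ 3 + ((p 2 3 * ((p 2 4) ^ 3) ^ 3) ^ 3) ^ 3) = 0
      rw [ctx_e4 c]
      ring
    · show (p 0 0 * (g ^ 16 * b30 p ^ 3) + p 0 2 * (g ^ 56 * b42 p ^ 3)) - g ^ 64 * p 1 1 * m42 p ^ 3 = 0
      rw [hc.1, sub_self]
    · show g ^ 24 * p 1 1 * m30 p ^ 3 - (p 0 2 * (g ^ 16 * b30 p ^ 3) + p 2 2 * (g ^ 56 * b42 p ^ 3)) = 0
      rw [hc.2, sub_self]
  · refine WP_df (x := p 0 4) rfl ?_
    refine WP_df (x := p 2 3) rfl ?_
    refine WP_df (x := 0) rfl ?_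
    refine WP_sel (ls' := LS3 q) ?_ (h _ _)
    show [p 0 0, p 0 2, p 2 2, p 0 3, p 2 3, 0, p 0 4, p 2 4, 0] = LS3 q
    rw [LS3, ← hpq, h13, h14]

/-- **`plZ0b`** -/
theorem wp_Z0b (c : Ctx g q p m t) (hpq : p = q) (h01 : p 0 1 = 0) (h12 : p 1 2 = 0) (h13 : p 1 3 = 0)
    (h14 : p 1 4 = 0) (h : ∀ x y, WS3 g q p t x y) :
    WP g (Sol g q) plZ0b (K40 g p t (p 0 4) (p 2 3)) (LC p) := by
  have hc := wp_Z0c c hpq h01 h12 h13 h14 h
  show WP g (Sol g q) (PR 34 36 7 plZ0c) (K40 g p t (p 0 4) (p 2 3)) (LC p)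
  refine wp_PR (x := p 0 3) (z := p 2 4) rfl (c.p81 0 3) (c.p81 2 4) ?_ ?_ hc
  · exact QQ03 p
  · rw [← QQ03]; rfl

end
end Cfsg.Agent.H455.P9
end

-- part: H277/P9/Z0Top
section
/-!
# S5925, box H: `wp_Z0` (plan v3), the exact statement of the interface
-/

set_option autoImplicit false
set_option linter.style.longLine false

namespace Cfsg.Agent.H277.P9
open Matrix Cfsg.Agent.H879.E83 Cfsg.Agent.H780.P9

variable {F : Type*} [Field F] {g : F} {q p : Mt F} {m : F} {t : Fin 10 → F}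

theorem wp_Z0 (c : Ctx g q p m t) (hpq : p = q) (h01 : p 0 1 = 0) (h12 : p 1 2 = 0) (h13 : p 1 3 = 0)
    (h14 : p 1 4 = 0) (hn : NZ g q) (h : ∀ x y, WS3 g q p t x y) : WC g q p t plZ0 :=
  wp_Z0_of c hpq h13 h14 hn h (Cfsg.Agent.H455.P9.wp_Z0b c hpq h01 h12 h13 h14 h)

end Cfsg.Agent.H277.P9
end

private theorem dce_2ec75f95733b : _root_.True := by
  try have : _root_.True := by simp only [_root_.Cfsg.Agent.H780.P9.K17.eq_1]
  try have : _root_.True := by simp only [_root_.Cfsg.Agent.H780.P9.tau.eq_1]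
  try have : _root_.True := by simp only [_root_.Cfsg.Agent.H780.P9.B02.eq_1]
  try have : _root_.True := by simp only [_root_.Cfsg.Agent.H780.P9.B04.eq_1]
  try have : _root_.True := by simp only [_root_.Cfsg.Agent.H455.P9.b30.eq_1]
  try have : _root_.True := by simp only [_root_.Cfsg.Agent.H780.P9.B03.eq_1]
  try have : _root_.True := by simp only [_root_.Cfsg.Agent.H455.P9.b42.eq_1]
  try have : _root_.True := by simp only [_root_.Cfsg.Agent.H455.P9.m42.eq_1]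
  try have : _root_.True := by simp only [_root_.Cfsg.Agent.H780.P9.B00.eq_1]
  try have : _root_.True := by simp only [_root_.Cfsg.Agent.H455.P9.m30.eq_1]
  try have : _root_.True := by simp only [_root_.Cfsg.Agent.H780.P9.QQ.eq_1]
  try have : _root_.True := by simp only [_root_.Cfsg.Agent.H780.P9.LS3.eq_1]
  exact _root_.True.intro
end

-- part: H780/P9/All
section
prune_inst 0x30000200000000000200006448000102006008000020050600000340004001008c90041290863200580000000000015000000000000034000002002080881002300002040c000f000004000000000000000000000000000000000000000000000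
set_option linter.all false
open scoped Cfsg.Agent.FastGrp

-- part: H879/E83/WpSThree
section
/-!
# S5925, box H: the WP lemma of `plS3` (C3 for `D = e_0`)
-/

set_option autoImplicit false
set_option linter.style.longLine false
set_option linter.unusedVariables false
set_option linter.unusedSimpArgs false

namespace Cfsg.Agent.H879.E83
open Matrix Cfsg.Agent.H780.P9

section
variable {F : Type*} [Field F] {g : F} {q : Mt F}


section look
variable {G : Prop} {ks ls K L L' ls' : List F}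

theorem kf' {e : Ex} {p : Plan} {x : F} (hx : e.eval g (K ++ L) [] = x) (hL : L ++ [x] = L')
    (h : WP g G p (K ++ L') ls) : WP g G (.kf e p) (K ++ L) ls := by
  subst hL; rw [← List.append_assoc] at h; exact WP_kf hx h

theorem df' {e : Ex} {p : Plan} {x : F} (hx : e.eval g ks ls = x) (hL : ls ++ [x] = ls')
    (h : WP g G p ks ls') : WP g G (.df e p) ks ls := by
  subst hL; exact WP_df hx h
theorem gK0 (hK : K.length = 40) (a0 : F) (L : List F) : (K ++ (a0 :: L)).getD 40 0 = a0 := by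
  rw [List.getD_append_right _ _ _ _ (by omega), hK]; rfl
theorem gK1 (hK : K.length = 40) (a0 a1 : F) (L : List F) : (K ++ (a0 :: a1 :: L)).getD 41 0 = a1 := by
  rw [List.getD_append_right _ _ _ _ (by omega), hK]; rfl
theorem gK2 (hK : K.length = 40) (a0 a1 a2 : F) (L : List F) : (K ++ (a0 :: a1 :: a2 :: L)).getD 42 0 = a2 := by
  rw [List.getD_append_right _ _ _ _ (by omega), hK]; rfl
theorem gK3 (hK : K.length = 40) (a0 a1 a2 a3 : F) (L : List F) : (K ++ (a0 :: a1 :: a2 :: a3 :: L)).getD 43 0 = a3 := by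
  rw [List.getD_append_right _ _ _ _ (by omega), hK]; rfl
theorem gK4 (hK : K.length = 40) (a0 a1 a2 a3 a4 : F) (L : List F) : (K ++ (a0 :: a1 :: a2 :: a3 :: a4 :: L)).getD 44 0 = a4 := by
  rw [List.getD_append_right _ _ _ _ (by omega), hK]; rfl
theorem gK5 (hK : K.length = 40) (a0 a1 a2 a3 a4 a5 : F) (L : List F) : (K ++ (a0 :: a1 :: a2 :: a3 :: a4 :: a5 :: L)).getD 45 0 = a5 := by
  rw [List.getD_append_right _ _ _ _ (by omega), hK]; rfl
theorem gK6 (hK : K.length = 40) (a0 a1 a2 a3 a4 a5 a6 : F) (L : List F) : (K ++ (a0 :: a1 :: a2 :: a3 :: a4 :: a5 :: a6 :: L)).getD 46 0 = a6 := by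
  rw [List.getD_append_right _ _ _ _ (by omega), hK]; rfl
theorem gK7 (hK : K.length = 40) (a0 a1 a2 a3 a4 a5 a6 a7 : F) (L : List F) : (K ++ (a0 :: a1 :: a2 :: a3 :: a4 :: a5 :: a6 :: a7 :: L)).getD 47 0 = a7 := by
  rw [List.getD_append_right _ _ _ _ (by omega), hK]; rfl
theorem gK8 (hK : K.length = 40) (a0 a1 a2 a3 a4 a5 a6 a7 a8 : F) (L : List F) : (K ++ (a0 :: a1 :: a2 :: a3 :: a4 :: a5 :: a6 :: a7 :: a8 :: L)).getD 48 0 = a8 := by
  rw [List.getD_append_right _ _ _ _ (by omega), hK]; rfl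
theorem gK9 (hK : K.length = 40) (a0 a1 a2 a3 a4 a5 a6 a7 a8 a9 : F) (L : List F) : (K ++ (a0 :: a1 :: a2 :: a3 :: a4 :: a5 :: a6 :: a7 :: a8 :: a9 :: L)).getD 49 0 = a9 := by
  rw [List.getD_append_right _ _ _ _ (by omega), hK]; rfl
theorem gK10 (hK : K.length = 40) (a0 a1 a2 a3 a4 a5 a6 a7 a8 a9 a10 : F) (L : List F) : (K ++ (a0 :: a1 :: a2 :: a3 :: a4 :: a5 :: a6 :: a7 :: a8 :: a9 :: a10 :: L)).getD 50 0 = a10 := by
  rw [List.getD_append_right _ _ _ _ (by omega), hK]; rfl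
theorem vL0 (a0 : F) (L : List F) : (a0 :: L).getD 0 0 = a0 := rfl
theorem vL1 (a0 a1 : F) (L : List F) : (a0 :: a1 :: L).getD 1 0 = a1 := rfl
theorem vL2 (a0 a1 a2 : F) (L : List F) : (a0 :: a1 :: a2 :: L).getD 2 0 = a2 := rfl
theorem vL3 (a0 a1 a2 a3 : F) (L : List F) : (a0 :: a1 :: a2 :: a3 :: L).getD 3 0 = a3 := rfl
theorem vL4 (a0 a1 a2 a3 a4 : F) (L : List F) : (a0 :: a1 :: a2 :: a3 :: a4 :: L).getD 4 0 = a4 := rfl
theorem vL5 (a0 a1 a2 a3 a4 a5 : F) (L : List F) : (a0 :: a1 :: a2 :: a3 :: a4 :: a5 :: L).getD 5 0 = a5 := rfl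
theorem vL6 (a0 a1 a2 a3 a4 a5 a6 : F) (L : List F) : (a0 :: a1 :: a2 :: a3 :: a4 :: a5 :: a6 :: L).getD 6 0 = a6 := rfl
theorem vL7 (a0 a1 a2 a3 a4 a5 a6 a7 : F) (L : List F) : (a0 :: a1 :: a2 :: a3 :: a4 :: a5 :: a6 :: a7 :: L).getD 7 0 = a7 := rfl
theorem vL8 (a0 a1 a2 a3 a4 a5 a6 a7 a8 : F) (L : List F) : (a0 :: a1 :: a2 :: a3 :: a4 :: a5 :: a6 :: a7 :: a8 :: L).getD 8 0 = a8 := rfl
theorem vL9 (a0 a1 a2 a3 a4 a5 a6 a7 a8 a9 : F) (L : List F) : (a0 :: a1 :: a2 :: a3 :: a4 :: a5 :: a6 :: a7 :: a8 :: a9 :: L).getD 9 0 = a9 := rfl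
theorem vL10 (a0 a1 a2 a3 a4 a5 a6 a7 a8 a9 a10 : F) (L : List F) : (a0 :: a1 :: a2 :: a3 :: a4 :: a5 :: a6 :: a7 :: a8 :: a9 :: a10 :: L).getD 10 0 = a10 := rfl
theorem vL11 (a0 a1 a2 a3 a4 a5 a6 a7 a8 a9 a10 a11 : F) (L : List F) : (a0 :: a1 :: a2 :: a3 :: a4 :: a5 :: a6 :: a7 :: a8 :: a9 :: a10 :: a11 :: L).getD 11 0 = a11 := rfl
theorem vL12 (a0 a1 a2 a3 a4 a5 a6 a7 a8 a9 a10 a11 a12 : F) (L : List F) : (a0 :: a1 :: a2 :: a3 :: a4 :: a5 :: a6 :: a7 :: a8 :: a9 :: a10 :: a11 :: a12 :: L).getD 12 0 = a12 := rfl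
theorem vL13 (a0 a1 a2 a3 a4 a5 a6 a7 a8 a9 a10 a11 a12 a13 : F) (L : List F) : (a0 :: a1 :: a2 :: a3 :: a4 :: a5 :: a6 :: a7 :: a8 :: a9 :: a10 :: a11 :: a12 :: a13 :: L).getD 13 0 = a13 := rfl
theorem vL14 (a0 a1 a2 a3 a4 a5 a6 a7 a8 a9 a10 a11 a12 a13 a14 : F) (L : List F) : (a0 :: a1 :: a2 :: a3 :: a4 :: a5 :: a6 :: a7 :: a8 :: a9 :: a10 :: a11 :: a12 :: a13 :: a14 :: L).getD 14 0 = a14 := rfl
theorem vL15 (a0 a1 a2 a3 a4 a5 a6 a7 a8 a9 a10 a11 a12 a13 a14 a15 : F) (L : List F) : (a0 :: a1 :: a2 :: a3 :: a4 :: a5 :: a6 :: a7 :: a8 :: a9 :: a10 :: a11 :: a12 :: a13 :: a14 :: a15 :: L).getD 15 0 = a15 := rfl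
theorem vL16 (a0 a1 a2 a3 a4 a5 a6 a7 a8 a9 a10 a11 a12 a13 a14 a15 a16 : F) (L : List F) : (a0 :: a1 :: a2 :: a3 :: a4 :: a5 :: a6 :: a7 :: a8 :: a9 :: a10 :: a11 :: a12 :: a13 :: a14 :: a15 :: a16 :: L).getD 16 0 = a16 := rfl
theorem vL17 (a0 a1 a2 a3 a4 a5 a6 a7 a8 a9 a10 a11 a12 a13 a14 a15 a16 a17 : F) (L : List F) : (a0 :: a1 :: a2 :: a3 :: a4 :: a5 :: a6 :: a7 :: a8 :: a9 :: a10 :: a11 :: a12 :: a13 :: a14 :: a15 :: a16 :: a17 :: L).getD 17 0 = a17 := rfl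
theorem vL18 (a0 a1 a2 a3 a4 a5 a6 a7 a8 a9 a10 a11 a12 a13 a14 a15 a16 a17 a18 : F) (L : List F) : (a0 :: a1 :: a2 :: a3 :: a4 :: a5 :: a6 :: a7 :: a8 :: a9 :: a10 :: a11 :: a12 :: a13 :: a14 :: a15 :: a16 :: a17 :: a18 :: L).getD 18 0 = a18 := rfl
theorem vL19 (a0 a1 a2 a3 a4 a5 a6 a7 a8 a9 a10 a11 a12 a13 a14 a15 a16 a17 a18 a19 : F) (L : List F) : (a0 :: a1 :: a2 :: a3 :: a4 :: a5 :: a6 :: a7 :: a8 :: a9 :: a10 :: a11 :: a12 :: a13 :: a14 :: a15 :: a16 :: a17 :: a18 :: a19 :: L).getD 19 0 = a19 := rfl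
theorem vL20 (a0 a1 a2 a3 a4 a5 a6 a7 a8 a9 a10 a11 a12 a13 a14 a15 a16 a17 a18 a19 a20 : F) (L : List F) : (a0 :: a1 :: a2 :: a3 :: a4 :: a5 :: a6 :: a7 :: a8 :: a9 :: a10 :: a11 :: a12 :: a13 :: a14 :: a15 :: a16 :: a17 :: a18 :: a19 :: a20 :: L).getD 20 0 = a20 := rfl
theorem vL21 (a0 a1 a2 a3 a4 a5 a6 a7 a8 a9 a10 a11 a12 a13 a14 a15 a16 a17 a18 a19 a20 a21 : F) (L : List F) : (a0 :: a1 :: a2 :: a3 :: a4 :: a5 :: a6 :: a7 :: a8 :: a9 :: a10 :: a11 :: a12 :: a13 :: a14 :: a15 :: a16 :: a17 :: a18 :: a19 :: a20 :: a21 :: L).getD 21 0 = a21 := rfl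
theorem vL22 (a0 a1 a2 a3 a4 a5 a6 a7 a8 a9 a10 a11 a12 a13 a14 a15 a16 a17 a18 a19 a20 a21 a22 : F) (L : List F) : (a0 :: a1 :: a2 :: a3 :: a4 :: a5 :: a6 :: a7 :: a8 :: a9 :: a10 :: a11 :: a12 :: a13 :: a14 :: a15 :: a16 :: a17 :: a18 :: a19 :: a20 :: a21 :: a22 :: L).getD 22 0 = a22 := rfl
end look


/-- the registers of `plS3`, literally -/
theorem s3_raw (h : PNine g q) (h3 : (3 : F) = 0) {Q00 Q01 Q02 Q03 Q04 : F}
    (hQ00 : Q00 = q 0 0 * (q 2 2 ^ (3:ℕ)) ^ (3:ℕ)) (hQ01 : Q01 = q 0 1 * (q 1 2 ^ (3:ℕ)) ^ (3:ℕ))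
    (hQ02 : Q02 = q 0 2 * (q 0 2 ^ (3:ℕ)) ^ (3:ℕ)) (hQ03 : Q03 = q 0 3 * (q 2 4 ^ (3:ℕ)) ^ (3:ℕ))
    (hQ04 : Q04 = q 0 4 * (q 2 3 ^ (3:ℕ)) ^ (3:ℕ)) {k11 k01 k12 c01 c12 : F} (hk11 : k11 = q 1 1) (hk01 : k01 = q 0 1)
    (hk12 : k12 = q 1 2) (hc01 : c01 = (q 0 1 ^ (3:ℕ)) ^ (3:ℕ)) (hc12 : c12 = (q 1 2 ^ (3:ℕ)) ^ (3:ℕ)) {A40 A41 A42 A43 A44 A45 A46 A47 A48 A49 A50 R9 R10 R11 R12 R13 R14 R15 R16 R17 R18 R19 R20 R21 R22 : F}
    (hA40 : A40 = (Q00 - Q02))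
    (hA41 : A41 = (Q01 - (Q01 ^ (3:ℕ)) ^ (3:ℕ)))
    (hA42 : A42 = (Q02 - (Q00 ^ (3:ℕ)) ^ (3:ℕ)))
    (hA43 : A43 = ((Q04 ^ (3:ℕ)) ^ (3:ℕ) - Q03))
    (hA44 : A44 = ((Q03 ^ (3:ℕ)) ^ (3:ℕ) - Q04))
    (hA45 : A45 = ((((((g ^ (7:ℕ) * A41) + (g ^ (74:ℕ) * A42)) + (g ^ (26:ℕ) * A43)) + (g ^ (63:ℕ) * A44)) - ((((g ^ (7:ℕ) * A40 ^ (3:ℕ)) + (g ^ (61:ℕ) * A42 ^ (3:ℕ))) + (g ^ (69:ℕ) * A41 ^ (3:ℕ))) + (g ^ (63:ℕ) * A43 ^ (3:ℕ)))) + g ^ (0:ℕ)))
    (hA46 : A46 = (((((g ^ (63:ℕ) * A40) + (g ^ (7:ℕ) * A42)) + (g ^ (74:ℕ) * A43)) + (g ^ (26:ℕ) * A44)) - ((((g ^ (63:ℕ) * A40 ^ (3:ℕ)) + (g ^ (7:ℕ) * A42 ^ (3:ℕ))) + (g ^ (61:ℕ) * A44 ^ (3:ℕ))) + (g ^ (69:ℕ) * A43 ^ (3:ℕ)))))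
    (hA47 : A47 = ((((((g ^ (26:ℕ) * A40) + (g ^ (63:ℕ) * A41)) + (g ^ (7:ℕ) * A43)) + (g ^ (74:ℕ) * A44)) - ((((g ^ (69:ℕ) * A40 ^ (3:ℕ)) + (g ^ (63:ℕ) * A42 ^ (3:ℕ))) + (g ^ (7:ℕ) * A44 ^ (3:ℕ))) + (g ^ (61:ℕ) * A41 ^ (3:ℕ)))) - g ^ (0:ℕ)))
    (hA48 : A48 = (A47 - A45))
    (hA49 : A49 = (A46 - A45))
    (hA50 : A50 = (A47 - A46))
    (hR9 : R9 = ((q 2 2 ^ (3:ℕ)) ^ (3:ℕ) * q 0 2))
    (hR10 : R10 = (R9 - (R9 ^ (3:ℕ)) ^ (3:ℕ)))
    (hR11 : R11 = ((q 0 2 * c12) - (q 2 2 * c01)))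
    (hR12 : R12 = (((q 2 3 ^ (3:ℕ)) ^ (3:ℕ) * q 0 0) - ((q 0 3 ^ (3:ℕ)) ^ (3:ℕ) * q 0 2)))
    (hR13 : R13 = (((q 2 4 ^ (3:ℕ)) ^ (3:ℕ) * q 0 2) - ((q 0 4 ^ (3:ℕ)) ^ (3:ℕ) * q 2 2)))
    (hR14 : R14 = (((q 0 2 ^ (3:ℕ)) ^ (3:ℕ) * k01) - ((q 0 0 ^ (3:ℕ)) ^ (3:ℕ) * k12)))
    (hR15 : R15 = (((q 2 4 ^ (3:ℕ)) ^ (3:ℕ) * q 0 0) - ((q 0 4 ^ (3:ℕ)) ^ (3:ℕ) * q 0 2)))
    (hR16 : R16 = (((q 2 3 ^ (3:ℕ)) ^ (3:ℕ) * k01) - ((q 0 3 ^ (3:ℕ)) ^ (3:ℕ) * k12)))
    (hR17 : R17 = ((g ^ (50:ℕ) * R11) - (g ^ (24:ℕ) * R12 ^ (3:ℕ))))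
    (hR18 : R18 = ((g ^ (32:ℕ) * R14 ^ (3:ℕ)) - (g ^ (70:ℕ) * R13)))
    (hR19 : R19 = (-(((g ^ (70:ℕ) * (R14 ^ (3:ℕ)) ^ (3:ℕ)) + (g ^ (64:ℕ) * R13 ^ (3:ℕ))))))
    (hR20 : R20 = (-(((g ^ (50:ℕ) * R12) + (g ^ (72:ℕ) * ((R11 ^ (3:ℕ)) ^ (3:ℕ)) ^ (3:ℕ))))))
    (hR21 : R21 = (-(((g ^ (50:ℕ) * (R11 ^ (3:ℕ)) ^ (3:ℕ)) + (g ^ (16:ℕ) * ((R12 ^ (3:ℕ)) ^ (3:ℕ)) ^ (3:ℕ))))))
    (hR22 : R22 = ((g ^ (70:ℕ) * R14) - (g ^ (56:ℕ) * ((R13 ^ (3:ℕ)) ^ (3:ℕ)) ^ (3:ℕ)))) :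
    ((((((q 0 0 * R10) + (k01 * R17)) + (q 0 2 * A48)) + (q 0 3 * R18)) + (q 2 3 * R15)) - ((k12 * R19) + (q 2 4 * R20))) = 0 ∧
    (((((q 0 0 * R21) + (k01 * A49)) + (q 0 2 * R22)) + (q 1 3 * R15)) - (((q 0 4 * R16) + (k11 * R19)) + (q 1 4 * R20))) = 0 ∧
    ((((((k01 * R10) + (k11 * R17)) + (k12 * A50)) + (q 1 3 * R18)) + (q 2 4 * R16)) - ((q 0 2 * R21) + (q 2 2 * R22))) = 0 := by
  subst hk11 hk01 hk12
  exact s3_eqs h h3 hQ00 hQ01 hQ02 hQ03 hQ04 hc01 hc12 hA40 hA41 hA42 hA43 hA44 (by rw [hA45, pow_zero]) hA46 (by rw [hA47, pow_zero]) hA48 hA49 hA50 hR9 hR10 hR11 hR12 hR13 hR14 hR15 hR16 hR17 hR18 hR19 hR20 hR21 hR22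


set_option maxHeartbeats 4000000 in
/-- **the WP lemma of `plS3`** -/
theorem wp_S3 {p : Mt F} {m : F} {t : Fin 10 → F} (c : Ctx g q p m t) (x y : F) (h : ∀ s, WD1 g q p t x y s) :
    WS3 g q p t x y := by
  have n9 : ∀ x : F, x ^ 9 = (x ^ 3) ^ 3 := fun x => by rw [← pow_mul]
  have m80 := c.m80
  have hp11 : p 1 1 = q 1 1 := by
    have e : p 1 1 = 1 * 1 * q 1 1 := c.papp 1 1
    rw [e]; ring
  have hp01 : p 0 1 = q 0 1 := by
    have e : p 0 1 = 1 * 1 * q 0 1 := c.papp 0 1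
    rw [e]; ring
  have hp12 : p 1 2 = q 1 2 := by
    have e : p 1 2 = 1 * 1 * q 1 2 := c.papp 1 2
    rw [e]; ring
  have hc01 : p 0 1 ^ 9 = (q 0 1 ^ 3) ^ 3 := by rw [hp01, n9]
  have hc12 : p 1 2 ^ 9 = (q 1 2 ^ 3) ^ 3 := by rw [hp12, n9]
  have hQ00 : QQ p 0 0 = q 0 0 * (q 2 2 ^ 3) ^ 3 := by
    have e : QQ p 0 0 = p 0 0 * p 2 2 ^ 9 := rfl
    have e1 : p 0 0 = 1 * 1 * q 0 0 := c.papp 0 0
    have e2 : p 2 2 = 1 * 1 * q 2 2 := c.papp 2 2
    rw [e, e1, e2]; ring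
  have hQ01 : QQ p 0 1 = q 0 1 * (q 1 2 ^ 3) ^ 3 := by
    have e : QQ p 0 1 = p 0 1 * p 2 1 ^ 9 := rfl
    have e1 : p 2 1 = 1 * 1 * q 2 1 := c.papp 2 1
    rw [e, e1, hp01, c.symq 2 1]; ring
  have hQ02 : QQ p 0 2 = q 0 2 * (q 0 2 ^ 3) ^ 3 := by
    have e : QQ p 0 2 = p 0 2 * p 2 0 ^ 9 := rfl
    have e1 : p 0 2 = 1 * 1 * q 0 2 := c.papp 0 2
    have e2 : p 2 0 = 1 * 1 * q 2 0 := c.papp 2 0
    rw [e, e1, e2, c.symq 2 0]; ring
  have hQ03 : QQ p 0 3 = q 0 3 * (q 2 4 ^ 3) ^ 3 := by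
    have e : QQ p 0 3 = p 0 3 * p 2 4 ^ 9 := rfl
    have e1 : p 0 3 = 1 * m * q 0 3 := c.papp 0 3
    have e2 : p 2 4 = 1 * m ^ 71 * q 2 4 := c.papp 2 4
    rw [e, e1, e2]
    calc 1 * m * q 0 3 * (1 * m ^ 71 * q 2 4) ^ 9 = (m ^ 80) ^ 8 * (q 0 3 * (q 2 4 ^ 3) ^ 3) := by ring
      _ = _ := by rw [m80, one_pow, one_mul]
  have hQ04 : QQ p 0 4 = q 0 4 * (q 2 3 ^ 3) ^ 3 := by
    have e : QQ p 0 4 = p 0 4 * p 2 3 ^ 9 := rfl
    have e1 : p 0 4 = 1 * m ^ 71 * q 0 4 := c.papp 0 4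
    have e2 : p 2 3 = 1 * m * q 2 3 := c.papp 2 3
    rw [e, e1, e2]
    calc 1 * m ^ 71 * q 0 4 * (1 * m * q 2 3) ^ 9 = m ^ 80 * (q 0 4 * (q 2 3 ^ 3) ^ 3) := by ring
      _ = _ := by rw [m80, one_mul]
  obtain ⟨A40, hA40⟩ : ∃ z : F, z = (QQ p 0 0 - QQ p 0 2) := ⟨_, rfl⟩
  obtain ⟨A41, hA41⟩ : ∃ z : F, z = (QQ p 0 1 - (QQ p 0 1 ^ 3) ^ 3) := ⟨_, rfl⟩
  obtain ⟨A42, hA42⟩ : ∃ z : F, z = (QQ p 0 2 - (QQ p 0 0 ^ 3) ^ 3) := ⟨_, rfl⟩
  obtain ⟨A43, hA43⟩ : ∃ z : F, z = ((QQ p 0 4 ^ 3) ^ 3 - QQ p 0 3) := ⟨_, rfl⟩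
  obtain ⟨A44, hA44⟩ : ∃ z : F, z = ((QQ p 0 3 ^ 3) ^ 3 - QQ p 0 4) := ⟨_, rfl⟩
  obtain ⟨A45, hA45⟩ : ∃ z : F, z = ((((((g ^ 7 * A41) + (g ^ 74 * A42)) + (g ^ 26 * A43)) + (g ^ 63 * A44)) - ((((g ^ 7 * A40 ^ 3) + (g ^ 61 * A42 ^ 3)) + (g ^ 69 * A41 ^ 3)) + (g ^ 63 * A43 ^ 3))) + g ^ 0) := ⟨_, rfl⟩
  obtain ⟨A46, hA46⟩ : ∃ z : F, z = (((((g ^ 63 * A40) + (g ^ 7 * A42)) + (g ^ 74 * A43)) + (g ^ 26 * A44)) - ((((g ^ 63 * A40 ^ 3) + (g ^ 7 * A42 ^ 3)) + (g ^ 61 * A44 ^ 3)) + (g ^ 69 * A43 ^ 3))) := ⟨_, rfl⟩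
  obtain ⟨A47, hA47⟩ : ∃ z : F, z = ((((((g ^ 26 * A40) + (g ^ 63 * A41)) + (g ^ 7 * A43)) + (g ^ 74 * A44)) - ((((g ^ 69 * A40 ^ 3) + (g ^ 63 * A42 ^ 3)) + (g ^ 7 * A44 ^ 3)) + (g ^ 61 * A41 ^ 3))) - g ^ 0) := ⟨_, rfl⟩
  obtain ⟨A48, hA48⟩ : ∃ z : F, z = (A47 - A45) := ⟨_, rfl⟩
  obtain ⟨A49, hA49⟩ : ∃ z : F, z = (A46 - A45) := ⟨_, rfl⟩
  obtain ⟨A50, hA50⟩ : ∃ z : F, z = (A47 - A46) := ⟨_, rfl⟩
  obtain ⟨R9, hR9⟩ : ∃ z : F, z = ((q 2 2 ^ 3) ^ 3 * q 0 2) := ⟨_, rfl⟩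
  obtain ⟨R10, hR10⟩ : ∃ z : F, z = (R9 - (R9 ^ 3) ^ 3) := ⟨_, rfl⟩
  obtain ⟨R11, hR11⟩ : ∃ z : F, z = ((q 0 2 * p 1 2 ^ 9) - (q 2 2 * p 0 1 ^ 9)) := ⟨_, rfl⟩
  obtain ⟨R12, hR12⟩ : ∃ z : F, z = (((q 2 3 ^ 3) ^ 3 * q 0 0) - ((q 0 3 ^ 3) ^ 3 * q 0 2)) := ⟨_, rfl⟩
  obtain ⟨R13, hR13⟩ : ∃ z : F, z = (((q 2 4 ^ 3) ^ 3 * q 0 2) - ((q 0 4 ^ 3) ^ 3 * q 2 2)) := ⟨_, rfl⟩
  obtain ⟨R14, hR14⟩ : ∃ z : F, z = (((q 0 2 ^ 3) ^ 3 * p 0 1) - ((q 0 0 ^ 3) ^ 3 * p 1 2)) := ⟨_, rfl⟩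
  obtain ⟨R15, hR15⟩ : ∃ z : F, z = (((q 2 4 ^ 3) ^ 3 * q 0 0) - ((q 0 4 ^ 3) ^ 3 * q 0 2)) := ⟨_, rfl⟩
  obtain ⟨R16, hR16⟩ : ∃ z : F, z = (((q 2 3 ^ 3) ^ 3 * p 0 1) - ((q 0 3 ^ 3) ^ 3 * p 1 2)) := ⟨_, rfl⟩
  obtain ⟨R17, hR17⟩ : ∃ z : F, z = ((g ^ 50 * R11) - (g ^ 24 * R12 ^ 3)) := ⟨_, rfl⟩
  obtain ⟨R18, hR18⟩ : ∃ z : F, z = ((g ^ 32 * R14 ^ 3) - (g ^ 70 * R13)) := ⟨_, rfl⟩
  obtain ⟨R19, hR19⟩ : ∃ z : F, z = (-(((g ^ 70 * (R14 ^ 3) ^ 3) + (g ^ 64 * R13 ^ 3)))) := ⟨_, rfl⟩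
  obtain ⟨R20, hR20⟩ : ∃ z : F, z = (-(((g ^ 50 * R12) + (g ^ 72 * ((R11 ^ 3) ^ 3) ^ 3)))) := ⟨_, rfl⟩
  obtain ⟨R21, hR21⟩ : ∃ z : F, z = (-(((g ^ 50 * (R11 ^ 3) ^ 3) + (g ^ 16 * ((R12 ^ 3) ^ 3) ^ 3)))) := ⟨_, rfl⟩
  obtain ⟨R22, hR22⟩ : ∃ z : F, z = ((g ^ 70 * R14) - (g ^ 56 * ((R13 ^ 3) ^ 3) ^ 3)) := ⟨_, rfl⟩
  obtain ⟨E1, E2, E3⟩ := s3_raw c.nine c.h3 hQ00 hQ01 hQ02 hQ03 hQ04 hp11 hp01 hp12 hc01 hc12 hA40 hA41 hA42 hA43 hA44 hA45 hA46 hA47 hA48 hA49 hA50 hR9 hR10 hR11 hR12 hR13 hR14 hR15 hR16 hR17 hR18 hR19 hR20 hR21 hR22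
  have u7 : ∀ L : List F, (K40 g p t x y ++ L).getD 7 0 = QQ p 0 1 := fun L => rfl
  have u14 : ∀ L : List F, (K40 g p t x y ++ L).getD 14 0 = p 1 1 := fun L => rfl
  have u15 : ∀ L : List F, (K40 g p t x y ++ L).getD 15 0 = p 0 1 := fun L => rfl
  have u16 : ∀ L : List F, (K40 g p t x y ++ L).getD 16 0 = p 1 2 := fun L => rfl
  have u20 : ∀ L : List F, (K40 g p t x y ++ L).getD 20 0 = p 0 1 ^ 9 := fun L => rfl
  have u21 : ∀ L : List F, (K40 g p t x y ++ L).getD 21 0 = p 1 2 ^ 9 := fun L => rfl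
  have u30 : ∀ L : List F, (K40 g p t x y ++ L).getD 30 0 = QQ p 0 2 := fun L => rfl
  have u31 : ∀ L : List F, (K40 g p t x y ++ L).getD 31 0 = QQ p 0 0 := fun L => rfl
  have u34 : ∀ L : List F, (K40 g p t x y ++ L).getD 34 0 = QQ p 0 3 := fun L => rfl
  have u35 : ∀ L : List F, (K40 g p t x y ++ L).getD 35 0 = QQ p 0 4 := fun L => rfl
  have hl : (K40 g p t x y).length = 40 := rfl
  unfold WS3 plS3
  rw [← List.append_nil (K40 g p t x y)]
  change WP g (Sol g q) _ (K40 g p t x y ++ []) [q 0 0, q 0 2, q 2 2, q 0 3, q 2 3, q 1 3, q 0 4, q 2 4, q 1 4]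
  refine kf' (x := A40) (L' := [A40]) (by rw [hA40]; simp only [PM.Ex.eval, u7, u14, u15, u16, u20, u21, u30, u31, u34, u35, gK0 hl, gK1 hl, gK2 hl, gK3 hl, gK4 hl, gK5 hl, gK6 hl, gK7 hl, gK8 hl, gK9 hl, gK10 hl]) rfl ?_
  refine kf' (x := A41) (L' := [A40, A41]) (by rw [hA41]; simp only [PM.Ex.eval, u7, u14, u15, u16, u20, u21, u30, u31, u34, u35, gK0 hl, gK1 hl, gK2 hl, gK3 hl, gK4 hl, gK5 hl, gK6 hl, gK7 hl, gK8 hl, gK9 hl, gK10 hl]) rfl ?_
  refine kf' (x := A42) (L' := [A40, A41, A42]) (by rw [hA42]; simp only [PM.Ex.eval, u7, u14, u15, u16, u20, u21, u30, u31, u34, u35, gK0 hl, gK1 hl, gK2 hl, gK3 hl, gK4 hl, gK5 hl, gK6 hl, gK7 hl, gK8 hl, gK9 hl, gK10 hl]) rfl ?_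
  refine kf' (x := A43) (L' := [A40, A41, A42, A43]) (by rw [hA43]; simp only [PM.Ex.eval, u7, u14, u15, u16, u20, u21, u30, u31, u34, u35, gK0 hl, gK1 hl, gK2 hl, gK3 hl, gK4 hl, gK5 hl, gK6 hl, gK7 hl, gK8 hl, gK9 hl, gK10 hl]) rfl ?_
  refine kf' (x := A44) (L' := [A40, A41, A42, A43, A44]) (by rw [hA44]; simp only [PM.Ex.eval, u7, u14, u15, u16, u20, u21, u30, u31, u34, u35, gK0 hl, gK1 hl, gK2 hl, gK3 hl, gK4 hl, gK5 hl, gK6 hl, gK7 hl, gK8 hl, gK9 hl, gK10 hl]) rfl ?_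
  refine kf' (x := A45) (L' := [A40, A41, A42, A43, A44, A45]) (by rw [hA45]; simp only [PM.Ex.eval, u7, u14, u15, u16, u20, u21, u30, u31, u34, u35, gK0 hl, gK1 hl, gK2 hl, gK3 hl, gK4 hl, gK5 hl, gK6 hl, gK7 hl, gK8 hl, gK9 hl, gK10 hl]) rfl ?_
  refine kf' (x := A46) (L' := [A40, A41, A42, A43, A44, A45, A46]) (by rw [hA46]; simp only [PM.Ex.eval, u7, u14, u15, u16, u20, u21, u30, u31, u34, u35, gK0 hl, gK1 hl, gK2 hl, gK3 hl, gK4 hl, gK5 hl, gK6 hl, gK7 hl, gK8 hl, gK9 hl, gK10 hl]) rfl ?_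
  refine kf' (x := A47) (L' := [A40, A41, A42, A43, A44, A45, A46, A47]) (by rw [hA47]; simp only [PM.Ex.eval, u7, u14, u15, u16, u20, u21, u30, u31, u34, u35, gK0 hl, gK1 hl, gK2 hl, gK3 hl, gK4 hl, gK5 hl, gK6 hl, gK7 hl, gK8 hl, gK9 hl, gK10 hl]) rfl ?_
  refine kf' (x := A48) (L' := [A40, A41, A42, A43, A44, A45, A46, A47, A48]) (by rw [hA48]; simp only [PM.Ex.eval, u7, u14, u15, u16, u20, u21, u30, u31, u34, u35, gK0 hl, gK1 hl, gK2 hl, gK3 hl, gK4 hl, gK5 hl, gK6 hl, gK7 hl, gK8 hl, gK9 hl, gK10 hl]) rfl ?_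
  refine kf' (x := A49) (L' := [A40, A41, A42, A43, A44, A45, A46, A47, A48, A49]) (by rw [hA49]; simp only [PM.Ex.eval, u7, u14, u15, u16, u20, u21, u30, u31, u34, u35, gK0 hl, gK1 hl, gK2 hl, gK3 hl, gK4 hl, gK5 hl, gK6 hl, gK7 hl, gK8 hl, gK9 hl, gK10 hl]) rfl ?_
  refine kf' (x := A50) (L' := [A40, A41, A42, A43, A44, A45, A46, A47, A48, A49, A50]) (by rw [hA50]; simp only [PM.Ex.eval, u7, u14, u15, u16, u20, u21, u30, u31, u34, u35, gK0 hl, gK1 hl, gK2 hl, gK3 hl, gK4 hl, gK5 hl, gK6 hl, gK7 hl, gK8 hl, gK9 hl, gK10 hl]) rfl ?_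
  refine df' (x := R9) (ls' := [q 0 0, q 0 2, q 2 2, q 0 3, q 2 3, q 1 3, q 0 4, q 2 4, q 1 4, R9]) (by rw [hR9]; simp only [PM.Ex.eval, u7, u14, u15, u16, u20, u21, u30, u31, u34, u35, gK0 hl, gK1 hl, gK2 hl, gK3 hl, gK4 hl, gK5 hl, gK6 hl, gK7 hl, gK8 hl, gK9 hl, gK10 hl, vL0, vL1, vL2, vL3, vL4, vL5, vL6, vL7, vL8, vL9, vL10, vL11, vL12, vL13, vL14, vL15, vL16, vL17, vL18, vL19, vL20, vL21, vL22]) rfl ?_
  refine df' (x := R10) (ls' := [q 0 0, q 0 2, q 2 2, q 0 3, q 2 3, q 1 3, q 0 4, q 2 4, q 1 4, R9, R10]) (by rw [hR10]; simp only [PM.Ex.eval, u7, u14, u15, u16, u20, u21, u30, u31, u34, u35, gK0 hl, gK1 hl, gK2 hl, gK3 hl, gK4 hl, gK5 hl, gK6 hl, gK7 hl, gK8 hl, gK9 hl, gK10 hl, vL0, vL1, vL2, vL3, vL4, vL5, vL6, vL7, vL8, vL9, vL10, vL11, vL12, vL13, vL14, vL15, vL16, vL17, vL18, vL19, vL20, vL21, vL22]) rfl ?_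
  refine df' (x := R11) (ls' := [q 0 0, q 0 2, q 2 2, q 0 3, q 2 3, q 1 3, q 0 4, q 2 4, q 1 4, R9, R10, R11]) (by rw [hR11]; simp only [PM.Ex.eval, u7, u14, u15, u16, u20, u21, u30, u31, u34, u35, gK0 hl, gK1 hl, gK2 hl, gK3 hl, gK4 hl, gK5 hl, gK6 hl, gK7 hl, gK8 hl, gK9 hl, gK10 hl, vL0, vL1, vL2, vL3, vL4, vL5, vL6, vL7, vL8, vL9, vL10, vL11, vL12, vL13, vL14, vL15, vL16, vL17, vL18, vL19, vL20, vL21, vL22]) rfl ?_
  refine df' (x := R12) (ls' := [q 0 0, q 0 2, q 2 2, q 0 3, q 2 3, q 1 3, q 0 4, q 2 4, q 1 4, R9, R10, R11, R12]) (by rw [hR12]; simp only [PM.Ex.eval, u7, u14, u15, u16, u20, u21, u30, u31, u34, u35, gK0 hl, gK1 hl, gK2 hl, gK3 hl, gK4 hl, gK5 hl, gK6 hl, gK7 hl, gK8 hl, gK9 hl, gK10 hl, vL0, vL1, vL2, vL3, vL4, vL5, vL6, vL7, vL8, vL9, vL10, vL11, vL12, vL13, vL14, vL15, vL16, vL17, vL18, vL19, vL20, vL21, vL22]) rfl ?_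
  refine df' (x := R13) (ls' := [q 0 0, q 0 2, q 2 2, q 0 3, q 2 3, q 1 3, q 0 4, q 2 4, q 1 4, R9, R10, R11, R12, R13]) (by rw [hR13]; simp only [PM.Ex.eval, u7, u14, u15, u16, u20, u21, u30, u31, u34, u35, gK0 hl, gK1 hl, gK2 hl, gK3 hl, gK4 hl, gK5 hl, gK6 hl, gK7 hl, gK8 hl, gK9 hl, gK10 hl, vL0, vL1, vL2, vL3, vL4, vL5, vL6, vL7, vL8, vL9, vL10, vL11, vL12, vL13, vL14, vL15, vL16, vL17, vL18, vL19, vL20, vL21, vL22]) rfl ?_
  refine df' (x := R14) (ls' := [q 0 0, q 0 2, q 2 2, q 0 3, q 2 3, q 1 3, q 0 4, q 2 4, q 1 4, R9, R10, R11, R12, R13, R14]) (by rw [hR14]; simp only [PM.Ex.eval, u7, u14, u15, u16, u20, u21, u30, u31, u34, u35, gK0 hl, gK1 hl, gK2 hl, gK3 hl, gK4 hl, gK5 hl, gK6 hl, gK7 hl, gK8 hl, gK9 hl, gK10 hl, vL0, vL1, vL2, vL3, vL4, vL5, vL6, vL7, vL8, vL9, vL10, vL11, vL12, vL13, vL14, vL15, vL16, vL17, vL18, vL19, vL20, vL21, vL22]) rfl ?_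
  refine df' (x := R15) (ls' := [q 0 0, q 0 2, q 2 2, q 0 3, q 2 3, q 1 3, q 0 4, q 2 4, q 1 4, R9, R10, R11, R12, R13, R14, R15]) (by rw [hR15]; simp only [PM.Ex.eval, u7, u14, u15, u16, u20, u21, u30, u31, u34, u35, gK0 hl, gK1 hl, gK2 hl, gK3 hl, gK4 hl, gK5 hl, gK6 hl, gK7 hl, gK8 hl, gK9 hl, gK10 hl, vL0, vL1, vL2, vL3, vL4, vL5, vL6, vL7, vL8, vL9, vL10, vL11, vL12, vL13, vL14, vL15, vL16, vL17, vL18, vL19, vL20, vL21, vL22]) rfl ?_
  refine df' (x := R16) (ls' := [q 0 0, q 0 2, q 2 2, q 0 3, q 2 3, q 1 3, q 0 4, q 2 4, q 1 4, R9, R10, R11, R12, R13, R14, R15, R16]) (by rw [hR16]; simp only [PM.Ex.eval, u7, u14, u15, u16, u20, u21, u30, u31, u34, u35, gK0 hl, gK1 hl, gK2 hl, gK3 hl, gK4 hl, gK5 hl, gK6 hl, gK7 hl, gK8 hl, gK9 hl, gK10 hl, vL0, vL1, vL2, vL3, vL4, vL5, vL6, vL7, vL8, vL9, vL10, vL11, vL12, vL13, vL14, vL15, vL16, vL17, vL18, vL19, vL20, vL21, vL22]) rfl ?_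
  refine df' (x := R17) (ls' := [q 0 0, q 0 2, q 2 2, q 0 3, q 2 3, q 1 3, q 0 4, q 2 4, q 1 4, R9, R10, R11, R12, R13, R14, R15, R16, R17]) (by rw [hR17]; simp only [PM.Ex.eval, u7, u14, u15, u16, u20, u21, u30, u31, u34, u35, gK0 hl, gK1 hl, gK2 hl, gK3 hl, gK4 hl, gK5 hl, gK6 hl, gK7 hl, gK8 hl, gK9 hl, gK10 hl, vL0, vL1, vL2, vL3, vL4, vL5, vL6, vL7, vL8, vL9, vL10, vL11, vL12, vL13, vL14, vL15, vL16, vL17, vL18, vL19, vL20, vL21, vL22]) rfl ?_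
  refine df' (x := R18) (ls' := [q 0 0, q 0 2, q 2 2, q 0 3, q 2 3, q 1 3, q 0 4, q 2 4, q 1 4, R9, R10, R11, R12, R13, R14, R15, R16, R17, R18]) (by rw [hR18]; simp only [PM.Ex.eval, u7, u14, u15, u16, u20, u21, u30, u31, u34, u35, gK0 hl, gK1 hl, gK2 hl, gK3 hl, gK4 hl, gK5 hl, gK6 hl, gK7 hl, gK8 hl, gK9 hl, gK10 hl, vL0, vL1, vL2, vL3, vL4, vL5, vL6, vL7, vL8, vL9, vL10, vL11, vL12, vL13, vL14, vL15, vL16, vL17, vL18, vL19, vL20, vL21, vL22]) rfl ?_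
  refine df' (x := R19) (ls' := [q 0 0, q 0 2, q 2 2, q 0 3, q 2 3, q 1 3, q 0 4, q 2 4, q 1 4, R9, R10, R11, R12, R13, R14, R15, R16, R17, R18, R19]) (by rw [hR19]; simp only [PM.Ex.eval, u7, u14, u15, u16, u20, u21, u30, u31, u34, u35, gK0 hl, gK1 hl, gK2 hl, gK3 hl, gK4 hl, gK5 hl, gK6 hl, gK7 hl, gK8 hl, gK9 hl, gK10 hl, vL0, vL1, vL2, vL3, vL4, vL5, vL6, vL7, vL8, vL9, vL10, vL11, vL12, vL13, vL14, vL15, vL16, vL17, vL18, vL19, vL20, vL21, vL22]) rfl ?_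
  refine df' (x := R20) (ls' := [q 0 0, q 0 2, q 2 2, q 0 3, q 2 3, q 1 3, q 0 4, q 2 4, q 1 4, R9, R10, R11, R12, R13, R14, R15, R16, R17, R18, R19, R20]) (by rw [hR20]; simp only [PM.Ex.eval, u7, u14, u15, u16, u20, u21, u30, u31, u34, u35, gK0 hl, gK1 hl, gK2 hl, gK3 hl, gK4 hl, gK5 hl, gK6 hl, gK7 hl, gK8 hl, gK9 hl, gK10 hl, vL0, vL1, vL2, vL3, vL4, vL5, vL6, vL7, vL8, vL9, vL10, vL11, vL12, vL13, vL14, vL15, vL16, vL17, vL18, vL19, vL20, vL21, vL22]) rfl ?_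
  refine df' (x := R21) (ls' := [q 0 0, q 0 2, q 2 2, q 0 3, q 2 3, q 1 3, q 0 4, q 2 4, q 1 4, R9, R10, R11, R12, R13, R14, R15, R16, R17, R18, R19, R20, R21]) (by rw [hR21]; simp only [PM.Ex.eval, u7, u14, u15, u16, u20, u21, u30, u31, u34, u35, gK0 hl, gK1 hl, gK2 hl, gK3 hl, gK4 hl, gK5 hl, gK6 hl, gK7 hl, gK8 hl, gK9 hl, gK10 hl, vL0, vL1, vL2, vL3, vL4, vL5, vL6, vL7, vL8, vL9, vL10, vL11, vL12, vL13, vL14, vL15, vL16, vL17, vL18, vL19, vL20, vL21, vL22]) rfl ?_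
  refine df' (x := R22) (ls' := [q 0 0, q 0 2, q 2 2, q 0 3, q 2 3, q 1 3, q 0 4, q 2 4, q 1 4, R9, R10, R11, R12, R13, R14, R15, R16, R17, R18, R19, R20, R21, R22]) (by rw [hR22]; simp only [PM.Ex.eval, u7, u14, u15, u16, u20, u21, u30, u31, u34, u35, gK0 hl, gK1 hl, gK2 hl, gK3 hl, gK4 hl, gK5 hl, gK6 hl, gK7 hl, gK8 hl, gK9 hl, gK10 hl, vL0, vL1, vL2, vL3, vL4, vL5, vL6, vL7, vL8, vL9, vL10, vL11, vL12, vL13, vL14, vL15, vL16, vL17, vL18, vL19, vL20, vL21, vL22]) rfl ?_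
  refine WP_fl (ls' := [q 0 0, q 0 2, q 2 2, q 0 3, q 2 3, q 1 3, q 0 4, q 2 4, q 1 4]) ?_ rfl ?_
  · intro e he
    simp only [List.mem_cons, List.not_mem_nil, or_false] at he
    rcases he with rfl | rfl | rfl
    · simp only [PM.Ex.eval, u7, u14, u15, u16, u20, u21, u30, u31, u34, u35, gK0 hl, gK1 hl, gK2 hl, gK3 hl, gK4 hl, gK5 hl, gK6 hl, gK7 hl, gK8 hl, gK9 hl, gK10 hl, vL0, vL1, vL2, vL3, vL4, vL5, vL6, vL7, vL8, vL9, vL10, vL11, vL12, vL13, vL14, vL15, vL16, vL17, vL18, vL19, vL20, vL21, vL22]; exact E1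
    · simp only [PM.Ex.eval, u7, u14, u15, u16, u20, u21, u30, u31, u34, u35, gK0 hl, gK1 hl, gK2 hl, gK3 hl, gK4 hl, gK5 hl, gK6 hl, gK7 hl, gK8 hl, gK9 hl, gK10 hl, vL0, vL1, vL2, vL3, vL4, vL5, vL6, vL7, vL8, vL9, vL10, vL11, vL12, vL13, vL14, vL15, vL16, vL17, vL18, vL19, vL20, vL21, vL22]; exact E2
    · simp only [PM.Ex.eval, u7, u14, u15, u16, u20, u21, u30, u31, u34, u35, gK0 hl, gK1 hl, gK2 hl, gK3 hl, gK4 hl, gK5 hl, gK6 hl, gK7 hl, gK8 hl, gK9 hl, gK10 hl, vL0, vL1, vL2, vL3, vL4, vL5, vL6, vL7, vL8, vL9, vL10, vL11, vL12, vL13, vL14, vL15, vL16, vL17, vL18, vL19, vL20, vL21, vL22]; exact E3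
  · exact h ![A40, A41, A42, A43, A44, A45, A46, A47, A48, A49, A50]

end
end Cfsg.Agent.H879.E83
end

-- part: H879/E83/DThree
section
/-!
# S5925, box H: the equation C3 for `D = e_2`, pair `(0, 2)`, in the registers of the plan (`plD3`)
-/

set_option autoImplicit false
set_option linter.style.longLine false
set_option linter.unusedVariables false
set_option linter.unusedSimpArgs false

namespace Cfsg.Agent.H879.E83
open Matrix Cfsg.Agent.H780.P9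

section
variable {F : Type*} [Field F] {g : F} {q : Mt F}

theorem z2_02 (g : F) (q : Mt F) : ZZ g q 2 0 2 = ((1 * 1 * q 2 0 ^ 9) * q 2 2 - (1 * (-1) * q 2 3 ^ 9) * q 4 2) := rfl
theorem z2_12 (g : F) (q : Mt F) : ZZ g q 2 1 2 = g ^ 50 * ((1 * 1 * q 1 0 ^ 9) * q 2 2 - (1 * (-1) * q 1 3 ^ 9) * q 4 2) - g ^ 24 * ((-1) * 1) * (((-1) * (-1) * q 3 3 ^ 9) * q 4 0 - ((-1) * 1 * q 3 1 ^ 9) * q 1 0) ^ 3 := rfl
theorem z2_22 (g : F) (q : Mt F) : ZZ g q 2 2 2 = (g ^ (26:ℕ) * ((1 * 1 * q 2 0 ^ (9:ℕ)) * q 2 0 - (1 * (-1) * q 2 3 ^ (9:ℕ)) * q 4 0) + g ^ (63:ℕ) * ((1 * 1 * q 1 0 ^ (9:ℕ)) * q 2 1 - (1 * (-1) * q 1 3 ^ (9:ℕ)) * q 4 1) + 0 * ((1 * 1 * q 0 0 ^ (9:ℕ)) * q 2 2 - (1 * (-1) * q 0 3 ^ (9:ℕ)) * q 4 2) + g ^ (7:ℕ) * (((-1) * 1 * q 4 0 ^ (9:ℕ)) * q 2 3 - ((-1) * (-1) * q 4 3 ^ (9:ℕ)) * q 4 3) + g ^ (74:ℕ) * (((-1) * 1 * q 3 0 ^ (9:ℕ)) * q 2 4 - ((-1) * (-1) * q 3 3 ^ (9:ℕ)) * q 4 4)) - (g ^ (69:ℕ)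 * ((1 * (-1) * q 2 3 ^ (9:ℕ)) * q 4 0 - (1 * 1 * q 2 1 ^ (9:ℕ)) * q 1 0) ^ (3:ℕ) + g ^ (63:ℕ) * ((1 * (-1) * q 0 3 ^ (9:ℕ)) * q 4 2 - (1 * 1 * q 0 1 ^ (9:ℕ)) * q 1 2) ^ (3:ℕ) + g ^ (7:ℕ) * (((-1) * (-1) * q 3 3 ^ (9:ℕ)) * q 4 4 - ((-1) * 1 * q 3 1 ^ (9:ℕ)) * q 1 4) ^ (3:ℕ) + g ^ (61:ℕ) * ((1 * (-1) * q 1 3 ^ (9:ℕ)) * q 4 1 - (1 * 1 * q 1 1 ^ (9:ℕ)) * q 1 1) ^ (3:ℕ) + 0 * (((-1) * (-1) * q 4 3 ^ (9:ℕ)) * q 4 3 - ((-1) * 1 * q 4 1 ^ (9:ℕ)) * q 1 3) ^ (3:ℕ)) - (0 - 1) := by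
  have e : ZZ g q 2 2 2 = (∑ c, k00 g (2 - c) * AA q 2 c c) - (∑ c, k01 g (2 - c) * AA q (2 * 2) (2 * c) (2 * c) ^ 3)
      - (0 - 1) := by
    unfold ZZ; rw [if_pos rfl]; rfl
  rw [e, Fin.sum_univ_five, Fin.sum_univ_five]; rfl
theorem z2_32 (g : F) (q : Mt F) : ZZ g q 2 3 2 = g ^ 70 * (((-1) * 1 * q 4 0 ^ 9) * q 2 2 - ((-1) * (-1) * q 4 3 ^ 9) * q 4 2) - g ^ 32 * (1 * (-1)) * ((1 * (-1) * q 0 3 ^ 9) * q 4 1 - (1 * 1 * q 0 1 ^ 9) * q 1 1) ^ 3 := rfl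
theorem z2_42 (g : F) (q : Mt F) : ZZ g q 2 4 2 = 0 := rfl
theorem z2_00 (g : F) (q : Mt F) : ZZ g q 2 0 0 = (0 * ((1 * 1 * q 2 0 ^ (9:ℕ)) * q 2 0 - (1 * (-1) * q 2 3 ^ (9:ℕ)) * q 4 0) + g ^ (7:ℕ) * ((1 * 1 * q 1 0 ^ (9:ℕ)) * q 2 1 - (1 * (-1) * q 1 3 ^ (9:ℕ)) * q 4 1) + g ^ (74:ℕ) * ((1 * 1 * q 0 0 ^ (9:ℕ)) * q 2 2 - (1 * (-1) * q 0 3 ^ (9:ℕ)) * q 4 2) + g ^ (26:ℕ) * (((-1) * 1 * q 4 0 ^ (9:ℕ)) * q 2 3 - ((-1) * (-1) * q 4 3 ^ (9:ℕ)) * q 4 3) + g ^ (63:ℕ) * (((-1) * 1 * q 3 0 ^ (9:ℕ)) * q 2 4 - ((-1) * (-1) * q 3 3 ^ (9:ℕ)) * q 4 4)) - (g ^ (7:ℕ) * ((1 * (-1) * q 2 3 ^ (9:ℕ)) * q 4 0 - (1 * 1 * q 2 1 ^ (9:ℕ)) * q 1 0) ^ (3:ℕ) + g ^ (61:ℕ) * ((1 * (-1) * q 0 3 ^ (9:ℕ)) * q 4 2 - (1 * 1 * q 0 1 ^ (9:ℕ)) * q 1 2) ^ (3:ℕ) + 0 * (((-1) * (-1) * q 3 3 ^ (9:ℕ)) * q 4 4 - ((-1) * 1 * q 3 1 ^ (9:ℕ)) * q 1 4) ^ (3:ℕ) + g ^ (69:ℕ) * ((1 * (-1) * q 1 3 ^ (9:ℕ)) * q 4 1 - (1 * 1 * q 1 1 ^ (9:ℕ)) *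 q 1 1) ^ (3:ℕ) + g ^ (63:ℕ) * (((-1) * (-1) * q 4 3 ^ (9:ℕ)) * q 4 3 - ((-1) * 1 * q 4 1 ^ (9:ℕ)) * q 1 3) ^ (3:ℕ)) - (0 - 0) := by
  have e : ZZ g q 2 0 0 = (∑ c, k00 g (0 - c) * AA q 2 c c) - (∑ c, k01 g (0 - c) * AA q (2 * 2) (2 * c) (2 * c) ^ 3)
      - (0 - 0) := by
    unfold ZZ; rw [if_pos rfl]; rfl
  rw [e, Fin.sum_univ_five, Fin.sum_univ_five]; rfl
theorem z2_10 (g : F) (q : Mt F) : ZZ g q 2 1 0 = g ^ 70 * ((1 * 1 * q 1 0 ^ 9) * q 2 0 - (1 * (-1) * q 1 3 ^ 9) * q 4 0) - g ^ 64 * ((-1) * 1) * (((-1) * (-1) * q 4 3 ^ 9) * q 4 2 - ((-1) * 1 * q 4 1 ^ 9) * q 1 2) ^ 3 := rfl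
theorem z2_20 (g : F) (q : Mt F) : ZZ g q 2 2 0 = 0 := rfl
theorem z2_30 (g : F) (q : Mt F) : ZZ g q 2 3 0 = (((-1) * 1 * q 4 0 ^ 9) * q 2 0 - ((-1) * (-1) * q 4 3 ^ 9) * q 4 0) := rfl
theorem z2_40 (g : F) (q : Mt F) : ZZ g q 2 4 0 = g ^ 50 * (((-1) * 1 * q 3 0 ^ 9) * q 2 0 - ((-1) * (-1) * q 3 3 ^ 9) * q 4 0) - g ^ 72 * (1 * (-1)) * ((1 * (-1) * q 2 3 ^ 9) * q 4 1 - (1 * 1 * q 2 1 ^ 9) * q 1 1) ^ 3 := rfl

/-- the registers of `plD3` -/
theorem d3_eq (h : PNine g q) (h3 : (3 : F) = 0) {c11 c01 c12 : F} (hc11 : c11 = (q 1 1 ^ (3:ℕ)) ^ (3:ℕ)) (hc01 : c01 = (q 0 1 ^ (3:ℕ)) ^ (3:ℕ))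
    (hc12 : c12 = (q 1 2 ^ (3:ℕ)) ^ (3:ℕ)) {R12 R13 R14 R15 R16 R17 R18 R19 : F}
    (hR12 : R12 = ((((q 0 2) ^ (3:ℕ)) ^ (3:ℕ) * q 2 2) + (((q 2 3) ^ (3:ℕ)) ^ (3:ℕ) * q 2 4)))
    (hR13 : R13 = ((g ^ (50:ℕ) * ((c01 * q 2 2) + (((q 1 3) ^ (3:ℕ)) ^ (3:ℕ) * q 2 4))) + (g ^ (24:ℕ) * (((((q 3 3) ^ (3:ℕ)) ^ (3:ℕ) * q 0 4) + (((q 1 3) ^ (3:ℕ)) ^ (3:ℕ) * q 0 1))) ^ (3:ℕ))))
    (hR14 : R14 = ((((((g ^ (26:ℕ) * ((((q 0 2) ^ (3:ℕ)) ^ (3:ℕ) * q 0 2) + (((q 2 3) ^ (3:ℕ)) ^ (3:ℕ) * q 0 4))) + (g ^ (63:ℕ) * ((c01 * q 1 2) + (((q 1 3) ^ (3:ℕ)) ^ (3:ℕ) * q 1 4)))) + (g ^ (7:ℕ) * (-(((((q 0 4) ^ (3:ℕ)) ^ (3:ℕ) * q 2 3) + (((q 3 4) ^ (3:ℕ)) ^ (3:ℕ) * q 3 4)))))) + (g ^ (74:ℕ) * (-(((((q 0 3) ^ (3:ℕ)) ^ (3:ℕ) * q 2 4) + (((q 3 3) ^ (3:ℕ)) ^ (3:ℕ) * q 4 4)))))) - ((((g ^ (69:ℕ) * ((-(((((q 2 3) ^ (3:ℕ)) ^ (3:ℕ) * q 0 4) + (c12 * q 0 1))))) ^ (3:ℕ)) + (g ^ (63:ℕ) * ((-(((((q 0 3) ^ (3:ℕ)) ^ (3:ℕ) * q 2 4) +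 (c01 * q 1 2))))) ^ (3:ℕ))) + (g ^ (7:ℕ) * (((((q 3 3) ^ (3:ℕ)) ^ (3:ℕ) * q 4 4) + (((q 1 3) ^ (3:ℕ)) ^ (3:ℕ) * q 1 4))) ^ (3:ℕ))) + (g ^ (61:ℕ) * ((-(((((q 1 3) ^ (3:ℕ)) ^ (3:ℕ) * q 1 4) + (c11 * q 1 1))))) ^ (3:ℕ)))) + g ^ (0:ℕ)))
    (hR15 : R15 = ((g ^ (70:ℕ) * (-(((((q 0 4) ^ (3:ℕ)) ^ (3:ℕ) * q 2 2) + (((q 3 4) ^ (3:ℕ)) ^ (3:ℕ) * q 2 4))))) + (g ^ (32:ℕ) * ((-(((((q 0 3) ^ (3:ℕ)) ^ (3:ℕ) * q 1 4) + (c01 * q 1 1))))) ^ (3:ℕ))))
    (hR16 : R16 = (((((g ^ (7:ℕ) * ((c01 * q 1 2) + (((q 1 3) ^ (3:ℕ)) ^ (3:ℕ) * q 1 4))) + (g ^ (74:ℕ) * ((((q 0 0) ^ (3:ℕ)) ^ (3:ℕ) * q 2 2) + (((q 0 3) ^ (3:ℕ)) ^ (3:ℕ) * q 2 4)))) + (g ^ (26:ℕ) * (-(((((q 0 4) ^ (3:ℕ)) ^ (3:ℕ) * q 2 3) + (((q 3 4) ^ (3:ℕ)) ^ (3:ℕ) * q 3 4)))))) + (g ^ (63:ℕ) * (-(((((q 0 3) ^ (3:ℕ)) ^ (3:ℕ) * q 2 4) + (((q 3 3) ^ (3:ℕ)) ^ (3:ℕ) * q 4 4)))))) - ((((g ^ (7:ℕ) * ((-(((((q 2 3) ^ (3:ℕ)) ^ (3:ℕ) * q 0 4) + (c12 * q 0 1))))) ^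 (3:ℕ)) + (g ^ (61:ℕ) * ((-(((((q 0 3) ^ (3:ℕ)) ^ (3:ℕ) * q 2 4) + (c01 * q 1 2))))) ^ (3:ℕ))) + (g ^ (69:ℕ) * ((-(((((q 1 3) ^ (3:ℕ)) ^ (3:ℕ) * q 1 4) + (c11 * q 1 1))))) ^ (3:ℕ))) + (g ^ (63:ℕ) * (((((q 3 4) ^ (3:ℕ)) ^ (3:ℕ) * q 3 4) + (((q 1 4) ^ (3:ℕ)) ^ (3:ℕ) * q 1 3))) ^ (3:ℕ)))))
    (hR17 : R17 = ((g ^ (70:ℕ) * ((c01 * q 0 2) + (((q 1 3) ^ (3:ℕ)) ^ (3:ℕ) * q 0 4))) + (g ^ (64:ℕ) * (((((q 3 4) ^ (3:ℕ)) ^ (3:ℕ) * q 2 4) + (((q 1 4) ^ (3:ℕ)) ^ (3:ℕ) * q 1 2))) ^ (3:ℕ))))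
    (hR18 : R18 = (-(((((q 0 4) ^ (3:ℕ)) ^ (3:ℕ) * q 0 2) + (((q 3 4) ^ (3:ℕ)) ^ (3:ℕ) * q 0 4)))))
    (hR19 : R19 = ((g ^ (50:ℕ) * (-(((((q 0 3) ^ (3:ℕ)) ^ (3:ℕ) * q 0 2) + (((q 3 3) ^ (3:ℕ)) ^ (3:ℕ) * q 0 4))))) + (g ^ (72:ℕ) * ((-(((((q 2 3) ^ (3:ℕ)) ^ (3:ℕ) * q 1 4) + (c12 * q 1 1))))) ^ (3:ℕ)))) :
    (((((q 0 0 * R12) + (q 0 1 * R13)) + (q 0 2 * R14)) + (q 0 3 * R15)) - ((((q 0 2 * R16) + (q 1 2 * R17)) + (q 2 3 * R18)) + (q 2 4 * R19))) = 0 := by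
  have hs : ∀ x y, q x y = q y x := fun x y => by
    conv_lhs => rw [← h.sym, Matrix.transpose_apply]
  have s10 := hs 1 0
  have s20 := hs 2 0
  have s21 := hs 2 1
  have s30 := hs 3 0
  have s31 := hs 3 1
  have s32 := hs 3 2
  have s40 := hs 4 0
  have s41 := hs 4 1
  have s42 := hs 4 2
  have s43 := hs 4 3
  have p : ∀ a b, (((q a b ^ 3) ^ 3) ^ 3) ^ 3 = q a b := fun a b => by
    rw [← pow_mul, ← pow_mul, ← pow_mul]; exact h.pow81 a b
  have n9 : ∀ x : F, x ^ 9 = (x ^ 3) ^ 3 := fun x => by rw [← pow_mul]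
  have e02 := h.c3s h3 2 0 2
  rw [Fin.sum_univ_five, Fin.sum_univ_five] at e02
  simp only [z2_02, z2_12, z2_22, z2_32, z2_42, z2_00, z2_10, z2_20, z2_30, z2_40,
    s10, s20, s21, s30, s31, s32, s40, s41, s42, s43, n9, sb3 h3, ad3 h3, ng3, mul_pow, one_pow, neg_mul, mul_neg,
    one_mul, mul_one, neg_neg, p] at e02
  subst hR19 hR18 hR17 hR16 hR15 hR14 hR13 hR12 hc11 hc01 hc12
  simp only [sb3 h3, ad3 h3, ng3, mul_pow, p]
  linear_combination e02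

end
end Cfsg.Agent.H879.E83
end

-- part: H861/P9/Ids
section
/-!
# S5925, box H: identities of the last stages of the search (helper861)
-/

set_option autoImplicit false
set_option linter.style.longLine false
set_option linter.unusedSimpArgs false

namespace Cfsg.Agent.H861.P9
open Matrix Cfsg.Agent.H879.E83 Cfsg.Agent.H780.P9

section
variable {F : Type*} [Field F] {g : F} {q : Mt F}

/-- an entry of `Mh q * q = 1` -/
theorem hrow (h : Mh q * q = 1) (a c : Fin 5) :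
    Jv a * (q (sgm a) 2 ^ 9 * q 0 c + q (sgm a) 1 ^ 9 * q 1 c + q (sgm a) 0 ^ 9 * q 2 c
      - q (sgm a) 4 ^ 9 * q 3 c - q (sgm a) 3 ^ 9 * q 4 c) = (1 : Mt F) a c := by
  rw [← h, Matrix.mul_apply, Fin.sum_univ_five]
  have e0 : sgm (0 : Fin 5) = 2 := by decide
  have e1 : sgm (1 : Fin 5) = 1 := by decide
  have e2 : sgm (2 : Fin 5) = 0 := by decide
  have e3 : sgm (3 : Fin 5) = 4 := by decide
  have e4 : sgm (4 : Fin 5) = 3 := by decide
  have j0 : Jv (0 : Fin 5) = (1 : F) := rfl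
  have j1 : Jv (1 : Fin 5) = (1 : F) := rfl
  have j2 : Jv (2 : Fin 5) = (1 : F) := rfl
  have j3 : Jv (3 : Fin 5) = (-1 : F) := rfl
  have j4 : Jv (4 : Fin 5) = (-1 : F) := rfl
  simp only [Mh, e0, e1, e2, e3, e4, j0, j1, j2, j3, j4]
  ring

/-- symmetry with the smaller index first -/
structure Sy (q : Mt F) : Prop where
  s10 : q 1 0 = q 0 1
  s20 : q 2 0 = q 0 2
  s30 : q 3 0 = q 0 3
  s40 : q 4 0 = q 0 4
  s21 : q 2 1 = q 1 2
  s31 : q 3 1 = q 1 3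
  s41 : q 4 1 = q 1 4
  s32 : q 3 2 = q 2 3
  s42 : q 4 2 = q 2 4
  s43 : q 4 3 = q 3 4

theorem Sy.of (h : qᵀ = q) : Sy q := by
  have hs : ∀ x y, q x y = q y x := fun x y => by
    conv_lhs => rw [← h, Matrix.transpose_apply]
  exact ⟨hs _ _, hs _ _, hs _ _, hs _ _, hs _ _, hs _ _, hs _ _, hs _ _, hs _ _, hs _ _⟩

/-- the ten equations of the last stages -/
structure HE (q : Mt F) : Prop where
  h13 : q 1 2 ^ 9 * q 0 3 + q 1 1 ^ 9 * q 1 3 + q 0 1 ^ 9 * q 2 3 - q 1 3 ^ 9 * q 3 4 = q 1 4 ^ 9 * q 3 3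
  h23 : q 0 2 ^ 9 * q 0 3 + q 0 1 ^ 9 * q 1 3 + q 0 0 ^ 9 * q 2 3 - q 0 3 ^ 9 * q 3 4 = q 0 4 ^ 9 * q 3 3
  h03 : q 2 2 ^ 9 * q 0 3 + q 1 2 ^ 9 * q 1 3 + q 0 2 ^ 9 * q 2 3 - q 2 3 ^ 9 * q 3 4 = q 2 4 ^ 9 * q 3 3
  h14 : q 1 2 ^ 9 * q 0 4 + q 1 1 ^ 9 * q 1 4 + q 0 1 ^ 9 * q 2 4 - q 1 4 ^ 9 * q 3 4 = q 1 3 ^ 9 * q 4 4
  h24 : q 0 2 ^ 9 * q 0 4 + q 0 1 ^ 9 * q 1 4 + q 0 0 ^ 9 * q 2 4 - q 0 4 ^ 9 * q 3 4 = q 0 3 ^ 9 * q 4 4
  h04 : q 2 2 ^ 9 * q 0 4 + q 1 2 ^ 9 * q 1 4 + q 0 2 ^ 9 * q 2 4 - q 2 4 ^ 9 * q 3 4 = q 2 3 ^ 9 * q 4 4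
  h43 : q 2 3 ^ 9 * q 0 3 + q 1 3 ^ 9 * q 1 3 + q 0 3 ^ 9 * q 2 3 - q 3 4 ^ 9 * q 3 3 - q 3 3 ^ 9 * q 3 4 = 0
  h34 : q 2 4 ^ 9 * q 0 4 + q 1 4 ^ 9 * q 1 4 + q 0 4 ^ 9 * q 2 4 - q 4 4 ^ 9 * q 3 4 - q 3 4 ^ 9 * q 4 4 = 0
  h33 : q 3 4 ^ 9 * q 3 4 + q 4 4 ^ 9 * q 3 3 - (q 2 4 ^ 9 * q 0 3 + q 1 4 ^ 9 * q 1 3 + q 0 4 ^ 9 * q 2 3) = 1

theorem HE.of (h : Mh q * q = 1) (hs : Sy q) : HE q := by
  have e0 : sgm (0 : Fin 5) = 2 := by decide
  have e1 : sgm (1 : Fin 5) = 1 := by decide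
  have e2 : sgm (2 : Fin 5) = 0 := by decide
  have e3 : sgm (3 : Fin 5) = 4 := by decide
  have e4 : sgm (4 : Fin 5) = 3 := by decide
  have j0 : Jv (0 : Fin 5) = (1 : F) := rfl
  have j1 : Jv (1 : Fin 5) = (1 : F) := rfl
  have j2 : Jv (2 : Fin 5) = (1 : F) := rfl
  have j3 : Jv (3 : Fin 5) = (-1 : F) := rfl
  have j4 : Jv (4 : Fin 5) = (-1 : F) := rfl
  obtain ⟨s10, s20, s30, s40, s21, s31, s41, s32, s42, s43⟩ := hs
  refine ⟨?_, ?_, ?_, ?_, ?_, ?_, ?_, ?_, ?_⟩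
  · have e := hrow h 1 3
    simp only [e1, j1, s10, s20, s30, s40, s21, s31, s41, s32, s42, s43] at e
    rw [Matrix.one_apply_ne (by decide)] at e
    linear_combination e
  · have e := hrow h 2 3
    simp only [e2, j2, s10, s20, s30, s40, s21, s31, s41, s32, s42, s43] at e
    rw [Matrix.one_apply_ne (by decide)] at e
    linear_combination e
  · have e := hrow h 0 3
    simp only [e0, j0, s10, s20, s30, s40, s21, s31, s41, s32, s42, s43] at e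
    rw [Matrix.one_apply_ne (by decide)] at e
    linear_combination e
  · have e := hrow h 1 4
    simp only [e1, j1, s10, s20, s30, s40, s21, s31, s41, s32, s42, s43] at e
    rw [Matrix.one_apply_ne (by decide)] at e
    linear_combination e
  · have e := hrow h 2 4
    simp only [e2, j2, s10, s20, s30, s40, s21, s31, s41, s32, s42, s43] at e
    rw [Matrix.one_apply_ne (by decide)] at e
    linear_combination e
  · have e := hrow h 0 4
    simp only [e0, j0, s10, s20, s30, s40, s21, s31, s41, s32, s42, s43] at e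
    rw [Matrix.one_apply_ne (by decide)] at e
    linear_combination e
  · have e := hrow h 4 3
    simp only [e4, j4, s10, s20, s30, s40, s21, s31, s41, s32, s42, s43] at e
    rw [Matrix.one_apply_ne (by decide)] at e
    linear_combination -e
  · have e := hrow h 3 4
    simp only [e3, j3, s10, s20, s30, s40, s21, s31, s41, s32, s42, s43] at e
    rw [Matrix.one_apply_ne (by decide)] at e
    linear_combination -e
  · have e := hrow h 3 3
    simp only [e3, j3, s10, s20, s30, s40, s21, s31, s41, s32, s42, s43] at e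
    rw [Matrix.one_apply_eq] at e
    linear_combination e

end
end Cfsg.Agent.H861.P9
end

-- part: H861/P9/WPD
section
/-!
# S5925, box H: the WP lemmas of `plD1`, `plD2`, `plD3` (helper861)
-/

set_option autoImplicit false
set_option linter.style.longLine false
set_option linter.unusedVariables false
set_option linter.unusedSimpArgs false

namespace Cfsg.Agent.H861.P9
open Matrix Cfsg.Agent.H879.E83 Cfsg.Agent.H780.P9

section
variable {F : Type*} [Field F] {g : F} {q p : Mt F} {m : F} {t : Fin 10 → F}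

theorem flr {G : Prop} {ks ls ls' : List F} {cs : List Ex} {js : List ℕ} {P : Plan}
    (hx : ∀ c ∈ cs, c.eval g ks ls = 0) (hs : (js.map fun j => ls.getD j 0) = ls') (h : WP g G P ks ls') :
    WP g G (.fl cs js P) ks ls := by subst hs; exact ⟨hx, h⟩

theorem ctx_m0 (c : Ctx g q p m t) : m ≠ 0 := by
  rintro rfl
  have h := c.m80
  rw [zero_pow (by norm_num)] at h
  exact zero_ne_one h

theorem ctx_p11 (c : Ctx g q p m t) : p 1 1 = q 1 1 := by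
  have e := c.papp 1 1
  change p 1 1 = 1 * 1 * q 1 1 at e
  rw [e]; ring

theorem ctx_p01 (c : Ctx g q p m t) : p 0 1 = q 0 1 := by
  have e := c.papp 0 1
  change p 0 1 = 1 * 1 * q 0 1 at e
  rw [e]; ring

theorem ctx_p12 (c : Ctx g q p m t) : p 1 2 = q 1 2 := by
  have e := c.papp 1 2
  change p 1 2 = 1 * 1 * q 1 2 at e
  rw [e]; ring

theorem ctx_p13 (c : Ctx g q p m t) : p 1 3 = m * q 1 3 := by
  have e := c.papp 1 3
  change p 1 3 = 1 * m * q 1 3 at e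
  rw [e]; ring

theorem ctx_p14 (c : Ctx g q p m t) : p 1 4 = m ^ 71 * q 1 4 := by
  have e := c.papp 1 4
  change p 1 4 = 1 * m ^ 71 * q 1 4 at e
  rw [e]; ring

theorem ctx_Q34 (c : Ctx g q p m t) : QQ p 3 4 = q 3 4 * q 3 4 ^ 9 := by
  have e1 : p 3 4 = m * m ^ 71 * q 3 4 := c.papp 3 4
  have e2 : QQ p 3 4 = p 3 4 * p 4 3 ^ 9 := rfl
  rw [e2, c.sym 4 3, e1]
  calc m * m ^ 71 * q 3 4 * (m * m ^ 71 * q 3 4) ^ 9 = (m ^ 80) ^ 9 * (q 3 4 * q 3 4 ^ 9) := by ring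
    _ = _ := by rw [c.m80, one_pow, one_mul]

theorem ctx_Q33 (c : Ctx g q p m t) : QQ p 3 3 = q 3 3 * q 4 4 ^ 9 := by
  have e1 : p 3 3 = m * m * q 3 3 := c.papp 3 3
  have e3 : p 4 4 = m ^ 71 * m ^ 71 * q 4 4 := c.papp 4 4
  have e2 : QQ p 3 3 = p 3 3 * p 4 4 ^ 9 := rfl
  rw [e2, e1, e3]
  calc m * m * q 3 3 * (m ^ 71 * m ^ 71 * q 4 4) ^ 9 = (m ^ 80) ^ 16 * (q 3 3 * q 4 4 ^ 9) := by ring
    _ = _ := by rw [c.m80, one_pow, one_mul]

/-- the scalars of the last stages, entries of `q` -/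
def K54 (g : F) (q p : Mt F) (t : Fin 10 → F) (x y : F) (s : Fin 11 → F) : List F :=
  [t 0, t 1, t 2, t 3, t 4, t 5, t 6, QQ p 0 1, QQ p 1 3, QQ p 1 1, B02 t, B00 g t, B03 g t, B04 g t,
   q 1 1, q 0 1, q 1 2, p 1 3, p 1 4, q 1 1 ^ 9, q 0 1 ^ 9, q 1 2 ^ 9, p 1 3 ^ 9, p 1 4 ^ 9, (p 1 4 ^ 9) ^ 79,
   q 0 1 * q 1 1 ^ 9, q 1 2 * q 1 1 ^ 9, q 0 1 * q 0 1 ^ 9, q 1 2 * q 1 2 ^ 9, t 7, QQ p 0 2, QQ p 0 0, QQ p 0 0 ^ 9,
   t 8, QQ p 0 3, QQ p 0 4, QQ p 0 3 ^ 9, QQ p 0 4 ^ 9, x, y, s 0, s 1, s 2, s 3, s 4, s 5, s 6, s 7, s 8, s 9, s 10,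
   t 9, q 3 4 * q 3 4 ^ 9, q 3 3 * q 4 4 ^ 9]

theorem K51_eq (c : Ctx g q p m t) (x y : F) (s : Fin 11 → F) :
    K51 g p t x y s ++ [t 9] ++ [q 3 4 * q 3 4 ^ 9] ++ [q 3 3 * q 4 4 ^ 9] = K54 g q p t x y s := by
  simp only [K51, K40, K38, K33, K29, ctx_p11 c, ctx_p01 c, ctx_p12 c]
  rfl

theorem pow80' (c : Ctx g q p m t) {a b : Fin 5} (h : q a b ≠ 0) : q a b ^ 80 = 1 := by
  have e : q a b * q a b ^ 80 = q a b * 1 := by rw [mul_one, ← pow_succ']; exact c.q81 a b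
  exact mul_left_cancel₀ h e

/-- the leaf -/
theorem sol_of (c : Ctx g q p m t) (h00 : ((q 0 0) - g ^ 63) = 0) (h01 : ((q 0 1) - g ^ 0) = 0) (h02 : ((q 0 2) - g ^ 4) = 0) (h03 : ((q 0 3) - g ^ 35) = 0) (h04 : ((q 0 4) - g ^ 72) = 0) (h11 : ((q 1 1) - g ^ 1) = 0) (h12 : ((q 1 2) - g ^ 10) = 0) (h13 : ((q 1 3) - g ^ 44) = 0) (h14 : ((q 1 4) - g ^ 4) = 0) (h22 : ((q 2 2) - g ^ 3) = 0) (h23 : ((q 2 3) - g ^ 42) = 0) (h24 : ((q 2 4) - g ^ 5) = 0) (h33 : ((q 3 3) - g ^ 65) = 0) (h34 : ((q 3 4) - g ^ 33) = 0) (h44 : ((q 4 4) - g ^ 65) = 0) : Sol g q := by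
  intro a b
  have hs := c.symq
  fin_cases a <;> fin_cases b
  · exact sub_eq_zero.1 h00
  · exact sub_eq_zero.1 h01
  · exact sub_eq_zero.1 h02
  · exact sub_eq_zero.1 h03
  · exact sub_eq_zero.1 h04
  · exact (hs 1 0).trans (sub_eq_zero.1 h01)
  · exact sub_eq_zero.1 h11
  · exact sub_eq_zero.1 h12
  · exact sub_eq_zero.1 h13
  · exact sub_eq_zero.1 h14
  · exact (hs 2 0).trans (sub_eq_zero.1 h02)
  · exact (hs 2 1).trans (sub_eq_zero.1 h12)
  · exact sub_eq_zero.1 h22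
  · exact sub_eq_zero.1 h23
  · exact sub_eq_zero.1 h24
  · exact (hs 3 0).trans (sub_eq_zero.1 h03)
  · exact (hs 3 1).trans (sub_eq_zero.1 h13)
  · exact (hs 3 2).trans (sub_eq_zero.1 h23)
  · exact sub_eq_zero.1 h33
  · exact sub_eq_zero.1 h34
  · exact (hs 4 0).trans (sub_eq_zero.1 h04)
  · exact (hs 4 1).trans (sub_eq_zero.1 h14)
  · exact (hs 4 2).trans (sub_eq_zero.1 h24)
  · exact (hs 4 3).trans (sub_eq_zero.1 h34)
  · exact sub_eq_zero.1 h44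

theorem wp_D3 (c : Ctx g q p m t) (x y : F) (s : Fin 11 → F) :
    WP g (Sol g q) plD3 (K54 g q p t x y s) [q 0 0, q 0 2, q 2 2, q 0 3, q 2 3, q 1 3, q 0 4, q 2 4, q 1 4, q 3 3, q 3 4, q 4 4] := by
  have H := d3_eq c.nine c.h3 (c11 := q 1 1 ^ 9) (c01 := q 0 1 ^ 9) (c12 := q 1 2 ^ 9) (by rw [← pow_mul]) (by rw [← pow_mul]) (by rw [← pow_mul]) rfl rfl rfl rfl rfl rfl rfl rfl
  obtain ⟨R12, hR12⟩ : ∃ r : F, r = (((((q 0 2) ^ 3) ^ 3) * (q 2 2)) + ((((q 2 3) ^ 3) ^ 3) * (q 2 4))) := ⟨_, rfl⟩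
  obtain ⟨R13, hR13⟩ : ∃ r : F, r = ((g ^ 50 * (((q 0 1 ^ 9) * (q 2 2)) + ((((q 1 3) ^ 3) ^ 3) * (q 2 4)))) + (g ^ 24 * ((((((q 3 3) ^ 3) ^ 3) * (q 0 4)) + ((((q 1 3) ^ 3) ^ 3) * (q 0 1))) ^ 3))) := ⟨_, rfl⟩
  obtain ⟨R14, hR14⟩ : ∃ r : F, r = ((((((g ^ (26:ℕ) * (((((q 0 2) ^ (3:ℕ)) ^ (3:ℕ)) * (q 0 2)) + ((((q 2 3) ^ (3:ℕ)) ^ (3:ℕ)) * (q 0 4)))) + (g ^ (63:ℕ) * (((q 0 1 ^ (9:ℕ)) * (q 1 2)) + ((((q 1 3) ^ (3:ℕ)) ^ (3:ℕ)) * (q 1 4))))) + (g ^ (7:ℕ) * (-(((((q 0 4) ^ (3:ℕ)) ^ (3:ℕ)) * (q 2 3)) + ((((q 3 4) ^ (3:ℕ)) ^ (3:ℕ)) * (q 3 4)))))) + (g ^ (74:ℕ) * (-(((((q 0 3) ^ (3:ℕ)) ^ (3:ℕ)) * (q 2 4)) + ((((q 3 3) ^ (3:ℕ)) ^ (3:ℕ)) * (q 4 4)))))) - ((((g ^ (69:ℕ) * ((-(((((q 2 3) ^ (3:ℕ)) ^ (3:ℕ)) * (q 0 4)) + ((q 1 2 ^ (9:ℕ)) * (q 0 1)))) ^ (3:ℕ))) + (g ^ (63:ℕ) * ((-(((((q 0 3) ^ (3:ℕ)) ^ (3:ℕ)) * (q 2 4)) + ((q 0 1 ^ (9:ℕ)) * (q 1 2)))) ^ (3:ℕ)))) + (g ^ (7:ℕ) * ((((((q 3 3) ^ (3:ℕ)) ^ (3:ℕ))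 * (q 4 4)) + ((((q 1 3) ^ (3:ℕ)) ^ (3:ℕ)) * (q 1 4))) ^ (3:ℕ)))) + (g ^ (61:ℕ) * ((-(((((q 1 3) ^ (3:ℕ)) ^ (3:ℕ)) * (q 1 4)) + ((q 1 1 ^ (9:ℕ)) * (q 1 1)))) ^ (3:ℕ))))) + g ^ (0:ℕ)) := ⟨_, rfl⟩
  obtain ⟨R15, hR15⟩ : ∃ r : F, r = ((g ^ 70 * (-(((((q 0 4) ^ 3) ^ 3) * (q 2 2)) + ((((q 3 4) ^ 3) ^ 3) * (q 2 4))))) + (g ^ 32 * ((-(((((q 0 3) ^ 3) ^ 3) * (q 1 4)) + ((q 0 1 ^ 9) * (q 1 1)))) ^ 3))) := ⟨_, rfl⟩
  obtain ⟨R16, hR16⟩ : ∃ r : F, r = (((((g ^ (7:ℕ) * (((q 0 1 ^ (9:ℕ)) * (q 1 2)) + ((((q 1 3) ^ (3:ℕ)) ^ (3:ℕ)) * (q 1 4)))) + (g ^ (74:ℕ) * (((((q 0 0) ^ (3:ℕ)) ^ (3:ℕ)) * (q 2 2)) + ((((q 0 3) ^ (3:ℕ)) ^ (3:ℕ)) * (q 2 4))))) + (g ^ (26:ℕ) * (-(((((q 0 4) ^ (3:ℕ)) ^ (3:ℕ)) * (q 2 3)) + ((((q 3 4) ^ (3:ℕ)) ^ (3:ℕ)) * (q 3 4)))))) + (g ^ (63:ℕ) * (-(((((q 0 3) ^ (3:ℕ)) ^ (3:ℕ)) * (q 2 4)) + ((((q 3 3) ^ (3:ℕ)) ^ (3:ℕ)) * (q 4 4)))))) - ((((g ^ (7:ℕ) * ((-(((((q 2 3) ^ (3:ℕ)) ^ (3:ℕ)) *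 (q 0 4)) + ((q 1 2 ^ (9:ℕ)) * (q 0 1)))) ^ (3:ℕ))) + (g ^ (61:ℕ) * ((-(((((q 0 3) ^ (3:ℕ)) ^ (3:ℕ)) * (q 2 4)) + ((q 0 1 ^ (9:ℕ)) * (q 1 2)))) ^ (3:ℕ)))) + (g ^ (69:ℕ) * ((-(((((q 1 3) ^ (3:ℕ)) ^ (3:ℕ)) * (q 1 4)) + ((q 1 1 ^ (9:ℕ)) * (q 1 1)))) ^ (3:ℕ)))) + (g ^ (63:ℕ) * ((((((q 3 4) ^ (3:ℕ)) ^ (3:ℕ)) * (q 3 4)) + ((((q 1 4) ^ (3:ℕ)) ^ (3:ℕ)) * (q 1 3))) ^ (3:ℕ))))) := ⟨_, rfl⟩
  obtain ⟨R17, hR17⟩ : ∃ r : F, r = ((g ^ 70 * (((q 0 1 ^ 9) * (q 0 2)) + ((((q 1 3) ^ 3) ^ 3) * (q 0 4)))) + (g ^ 64 * ((((((q 3 4) ^ 3) ^ 3) * (q 2 4)) + ((((q 1 4) ^ 3) ^ 3) * (q 1 2))) ^ 3))) := ⟨_, rfl⟩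
  obtain ⟨R18, hR18⟩ : ∃ r : F, r = (-(((((q 0 4) ^ 3) ^ 3) * (q 0 2)) + ((((q 3 4) ^ 3) ^ 3) * (q 0 4)))) := ⟨_, rfl⟩
  obtain ⟨R19, hR19⟩ : ∃ r : F, r = ((g ^ 50 * (-(((((q 0 3) ^ 3) ^ 3) * (q 0 2)) + ((((q 3 3) ^ 3) ^ 3) * (q 0 4))))) + (g ^ 72 * ((-(((((q 2 3) ^ 3) ^ 3) * (q 1 4)) + ((q 1 2 ^ 9) * (q 1 1)))) ^ 3))) := ⟨_, rfl⟩
  rw [← hR12, ← hR13, ← hR14, ← hR15, ← hR16, ← hR17, ← hR18, ← hR19] at H
  refine WP_df (x := R12) hR12.symm ?_
  dsimp only [List.cons_append, List.nil_append]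
  refine WP_df (x := R13) hR13.symm ?_
  dsimp only [List.cons_append, List.nil_append]
  refine WP_df (x := R14) hR14.symm ?_
  dsimp only [List.cons_append, List.nil_append]
  refine WP_df (x := R15) hR15.symm ?_
  dsimp only [List.cons_append, List.nil_append]
  refine WP_df (x := R16) hR16.symm ?_
  dsimp only [List.cons_append, List.nil_append]
  refine WP_df (x := R17) hR17.symm ?_
  dsimp only [List.cons_append, List.nil_append]
  refine WP_df (x := R18) hR18.symm ?_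
  dsimp only [List.cons_append, List.nil_append]
  refine WP_df (x := R19) hR19.symm ?_
  dsimp only [List.cons_append, List.nil_append]
  refine flr (ls' := [q 0 0, q 0 2, q 2 2, q 0 3, q 2 3, q 1 3, q 0 4, q 2 4, q 1 4, q 3 3, q 3 4, q 4 4]) ?_ rfl (WP_leaf fun h => ?_)
  · intro e he
    obtain rfl := List.mem_singleton.1 he
    exact H
  · simp only [List.forall_mem_cons] at h
    obtain ⟨l0, l1, l2, l3, l4, l5, l6, l7, l8, l9, l10, l11, l12, l13, l14, -⟩ := h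
    exact sol_of c l0 l1 l2 l3 l4 l5 l6 l7 l8 l9 l10 l11 l12 l13 l14

theorem wp_D2 (c : Ctx g q p m t) (x y : F) (s : Fin 11 → F) :
    WP g (Sol g q) plD2 (K54 g q p t x y s) [q 0 0, q 0 2, q 2 2, q 0 3, q 2 3, q 1 3, q 0 4, q 2 4, q 1 4, q 3 3, q 3 4] := by
  have E := HE.of c.nine.herm (Sy.of c.nine.sym)
  refine WP_ksp (fun h0 => ?_) (fun h0 => ?_)
  · have h0' : p 1 3 = 0 := h0
    have z : q 1 3 = 0 := (mul_eq_zero.1 ((ctx_p13 c).symm.trans h0')).resolve_left (ctx_m0 c)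
    refine flr (ls' := [q 0 0, q 0 2, q 2 2, q 0 3, q 2 3, q 1 3, q 0 4, q 2 4, q 1 4, q 3 3, q 3 4]) ?_ rfl (WP_df (x := q 0 3 ^ 9 * q 4 4) ?_ (WP_df (x := q 2 3 ^ 9 * q 4 4) ?_ (WP_ex (q 4 4) (c.q81 4 4)
      (flr (ls' := [q 0 0, q 0 2, q 2 2, q 0 3, q 2 3, q 1 3, q 0 4, q 2 4, q 1 4, q 3 3, q 3 4, q 4 4]) ?_ rfl (flr (ls' := [q 0 0, q 0 2, q 2 2, q 0 3, q 2 3, q 1 3, q 0 4, q 2 4, q 1 4, q 3 3, q 3 4, q 4 4]) ?_ rfl (wp_D3 c x y s))))))
    · refine List.forall_mem_cons.2 ⟨?_, List.forall_mem_nil _⟩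
      show (((((q 1 2 ^ 9) * (q 0 4)) + ((q 1 1 ^ 9) * (q 1 4))) + ((q 0 1 ^ 9) * (q 2 4))) - ((((q 1 4) ^ 3) ^ 3) * (q 3 4))) = 0
      linear_combination E.h14 + (q 1 3 ^ 8 * q 4 4) * z
    · show (((((((q 0 2) ^ 3) ^ 3) * (q 0 4)) + ((q 0 1 ^ 9) * (q 1 4))) + ((((q 0 0) ^ 3) ^ 3) * (q 2 4))) - ((((q 0 4) ^ 3) ^ 3) * (q 3 4))) = q 0 3 ^ 9 * q 4 4
      linear_combination E.h24
    · show (((((((q 2 2) ^ 3) ^ 3) * (q 0 4)) + ((q 1 2 ^ 9) * (q 1 4))) + ((((q 0 2) ^ 3) ^ 3) * (q 2 4))) - ((((q 2 4) ^ 3) ^ 3) * (q 3 4))) = q 2 3 ^ 9 * q 4 4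
      linear_combination E.h04
    · refine List.forall_mem_cons.2 ⟨?_, List.forall_mem_cons.2 ⟨?_, List.forall_mem_nil _⟩⟩
      · show ((q 0 3 ^ 9 * q 4 4) - ((((q 0 3) ^ 3) ^ 3) * (q 4 4))) = 0
        ring
      · show ((q 2 3 ^ 9 * q 4 4) - ((((q 2 3) ^ 3) ^ 3) * (q 4 4))) = 0
        ring
    · refine List.forall_mem_cons.2 ⟨?_, List.forall_mem_cons.2 ⟨?_, List.forall_mem_cons.2 ⟨?_, List.forall_mem_cons.2 ⟨?_, List.forall_mem_cons.2 ⟨?_, List.forall_mem_cons.2 ⟨?_, List.forall_mem_nil _⟩⟩⟩⟩⟩⟩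
      · show (((q 3 3) * (((q 4 4) ^ 3) ^ 3)) - (q 3 3 * q 4 4 ^ 9)) = 0
        ring
      · show (((((((q 0 2) ^ 3) ^ 3) * (q 0 4)) + ((q 0 1 ^ 9) * (q 1 4))) + ((((q 0 0) ^ 3) ^ 3) * (q 2 4))) - (((((q 0 4) ^ 3) ^ 3) * (q 3 4)) + ((((q 0 3) ^ 3) ^ 3) * (q 4 4)))) = 0
        linear_combination E.h24
      · show (((((((q 2 2) ^ 3) ^ 3) * (q 0 4)) + ((q 1 2 ^ 9) * (q 1 4))) + ((((q 0 2) ^ 3) ^ 3) * (q 2 4))) - (((((q 2 4) ^ 3) ^ 3) * (q 3 4)) + ((((q 2 3) ^ 3) ^ 3) * (q 4 4)))) = 0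
        linear_combination E.h04
      · show ((((((q 3 4) ^ 3) ^ 3) * (q 3 3)) + ((((q 3 3) ^ 3) ^ 3) * (q 3 4))) - ((((((q 2 3) ^ 3) ^ 3) * (q 0 3)) + ((((q 1 3) ^ 3) ^ 3) * (q 1 3))) + ((((q 0 3) ^ 3) ^ 3) * (q 2 3)))) = 0
        linear_combination -E.h43
      · show ((((((q 4 4) ^ 3) ^ 3) * (q 3 4)) + ((((q 3 4) ^ 3) ^ 3) * (q 4 4))) - ((((((q 2 4) ^ 3) ^ 3) * (q 0 4)) + ((((q 1 4) ^ 3) ^ 3) * (q 1 4))) + ((((q 0 4) ^ 3) ^ 3) * (q 2 4)))) = 0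
        linear_combination -E.h34
      · show (((((((q 4 4) ^ 3) ^ 3) * (q 3 3)) + ((((q 3 4) ^ 3) ^ 3) * (q 3 4))) - ((((((q 2 4) ^ 3) ^ 3) * (q 0 3)) + ((((q 1 4) ^ 3) ^ 3) * (q 1 3))) + ((((q 0 4) ^ 3) ^ 3) * (q 2 3)))) - g ^ 0) = 0
        linear_combination E.h33
  · have h0' : p 1 3 ≠ 0 := h0
    have z : q 1 3 ≠ 0 := fun z => h0' (by rw [ctx_p13 c, z, mul_zero])
    have w : (q 1 3 ^ 9) ^ 80 = 1 := by
      calc (q 1 3 ^ 9) ^ 80 = (q 1 3 ^ 80) ^ 9 := by ring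
        _ = 1 := by rw [pow80' c z, one_pow]
    refine WP_df (x := q 4 4) ?_ (flr (ls' := [q 0 0, q 0 2, q 2 2, q 0 3, q 2 3, q 1 3, q 0 4, q 2 4, q 1 4, q 3 3, q 3 4, q 4 4]) ?_ rfl (wp_D3 c x y s))
    · show ((((((q 1 2 ^ (9:ℕ)) * (q 0 4)) + ((q 1 1 ^ (9:ℕ)) * (q 1 4))) + ((q 0 1 ^ (9:ℕ)) * (q 2 4))) - ((((q 1 4) ^ (3:ℕ)) ^ (3:ℕ)) * (q 3 4))) * ((((q 1 3) ^ (3:ℕ)) ^ (3:ℕ)) * (((((((q 1 3) ^ (3:ℕ)) ^ (3:ℕ)) ^ (3:ℕ)) * (((((q 1 3) ^ (3:ℕ)) ^ (3:ℕ)) ^ (3:ℕ)) ^ (3:ℕ))) * ((((((q 1 3) ^ (3:ℕ)) ^ (3:ℕ)) ^ (3:ℕ)) ^ (3:ℕ)) ^ (3:ℕ))) * ((((((q 1 3) ^ (3:ℕ)) ^ (3:ℕ)) ^ (3:ℕ)) * (((((q 1 3) ^ (3:ℕ)) ^ (3:ℕ)) ^ (3:ℕ)) ^ (3:ℕ))) * ((((((q 1 3) ^ (3:ℕ)) ^ (3:ℕ)) ^ (3:ℕ)) ^ (3:ℕ)) ^ (3:ℕ)))))) = q 4 4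
      linear_combination (q 1 3 ^ 9) ^ 79 * E.h14 + q 4 4 * w
    · refine List.forall_mem_cons.2 ⟨?_, List.forall_mem_cons.2 ⟨?_, List.forall_mem_cons.2 ⟨?_, List.forall_mem_cons.2 ⟨?_, List.forall_mem_cons.2 ⟨?_, List.forall_mem_cons.2 ⟨?_, List.forall_mem_nil _⟩⟩⟩⟩⟩⟩
      · show (((q 3 3) * (((q 4 4) ^ 3) ^ 3)) - (q 3 3 * q 4 4 ^ 9)) = 0
        ring
      · show (((((((q 0 2) ^ 3) ^ 3) * (q 0 4)) + ((q 0 1 ^ 9) * (q 1 4))) + ((((q 0 0) ^ 3) ^ 3) * (q 2 4))) - (((((q 0 4) ^ 3) ^ 3) * (q 3 4)) + ((((q 0 3) ^ 3) ^ 3) * (q 4 4)))) = 0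
        linear_combination E.h24
      · show (((((((q 2 2) ^ 3) ^ 3) * (q 0 4)) + ((q 1 2 ^ 9) * (q 1 4))) + ((((q 0 2) ^ 3) ^ 3) * (q 2 4))) - (((((q 2 4) ^ 3) ^ 3) * (q 3 4)) + ((((q 2 3) ^ 3) ^ 3) * (q 4 4)))) = 0
        linear_combination E.h04
      · show ((((((q 3 4) ^ 3) ^ 3) * (q 3 3)) + ((((q 3 3) ^ 3) ^ 3) * (q 3 4))) - ((((((q 2 3) ^ 3) ^ 3) * (q 0 3)) + ((((q 1 3) ^ 3) ^ 3) * (q 1 3))) + ((((q 0 3) ^ 3) ^ 3) * (q 2 3)))) = 0
        linear_combination -E.h43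
      · show ((((((q 4 4) ^ 3) ^ 3) * (q 3 4)) + ((((q 3 4) ^ 3) ^ 3) * (q 4 4))) - ((((((q 2 4) ^ 3) ^ 3) * (q 0 4)) + ((((q 1 4) ^ 3) ^ 3) * (q 1 4))) + ((((q 0 4) ^ 3) ^ 3) * (q 2 4)))) = 0
        linear_combination -E.h34
      · show (((((((q 4 4) ^ 3) ^ 3) * (q 3 3)) + ((((q 3 4) ^ 3) ^ 3) * (q 3 4))) - ((((((q 2 4) ^ 3) ^ 3) * (q 0 3)) + ((((q 1 4) ^ 3) ^ 3) * (q 1 3))) + ((((q 0 4) ^ 3) ^ 3) * (q 2 3)))) - g ^ 0) = 0
        linear_combination E.h33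

theorem tr_mem (c : Ctx g q p m t) (ks ls : List F) (i : Fin 10) :
    ∃ e ∈ ([.zero, .pw 0, .neg (.pw 0)] : List Ex), e.eval g ks ls = t i := by
  rcases c.tr i with h | h | h
  · exact ⟨.zero, by simp, h.symm⟩
  · exact ⟨.pw 0, by simp, (pow_zero g).trans h.symm⟩
  · refine ⟨.neg (.pw 0), by simp, ?_⟩
    show -(g ^ 0) = t i
    rw [h, pow_zero]

theorem wp_D1 (c : Ctx g q p m t) (x y : F) (s : Fin 11 → F) : WD1 g q p t x y s := by
  have E := HE.of c.nine.herm (Sy.of c.nine.sym)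
  obtain ⟨e, he, hx⟩ := tr_mem c (K51 g p t x y s) [] 9
  refine WP_alt e he hx (WP_kf (x := q 3 4 * q 3 4 ^ 9) ?_ (WP_kf (x := q 3 3 * q 4 4 ^ 9) ?_ ?_))
  · show ((((g ^ 0 + (g ^ 20 * (((((t 1) + (t 2)) + (t 3)) + (t 5)) + (t 6)))) + (t 4)) + (-(t 8))) + (g ^ 60 * (t 9))) = q 3 4 * q 3 4 ^ 9
    rw [← ctx_Q34 c, c.Q34]
    ring
  · show ((((((((t 0) + (g ^ 43 * (t 1))) + (g ^ 46 * (t 2))) + (g ^ 55 * (t 3))) + (g ^ 42 * (t 5))) + (g ^ 3 * (t 6))) + (t 8)) + (g ^ 20 * (t 9))) = q 3 3 * q 4 4 ^ 9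
    rw [← ctx_Q33 c, c.Q33]
  rw [K51_eq c]
  refine WP_ex (q 3 4) (c.q81 3 4) (flr (ls' := [q 0 0, q 0 2, q 2 2, q 0 3, q 2 3, q 1 3, q 0 4, q 2 4, q 1 4, q 3 4]) ?_ rfl (WP_ksp (fun h0 => ?_) (fun h0 => ?_)))
  · refine List.forall_mem_cons.2 ⟨?_, List.forall_mem_nil _⟩
    show (((q 3 4) * (((q 3 4) ^ 3) ^ 3)) - (q 3 4 * q 3 4 ^ 9)) = 0
    ring
  · have h0' : p 1 4 = 0 := h0
    have z : q 1 4 = 0 := (mul_eq_zero.1 ((ctx_p14 c).symm.trans h0')).resolve_left (pow_ne_zero _ (ctx_m0 c))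
    refine flr (ls' := [q 0 0, q 0 2, q 2 2, q 0 3, q 2 3, q 1 3, q 0 4, q 2 4, q 1 4, q 3 4]) ?_ rfl (WP_df (x := q 0 4 ^ 9 * q 3 3) ?_ (WP_df (x := q 2 4 ^ 9 * q 3 3) ?_ (WP_ex (q 3 3) (c.q81 3 3)
      (flr (ls' := [q 0 0, q 0 2, q 2 2, q 0 3, q 2 3, q 1 3, q 0 4, q 2 4, q 1 4, q 3 3, q 3 4]) ?_ rfl (wp_D2 c x y s)))))
    · refine List.forall_mem_cons.2 ⟨?_, List.forall_mem_nil _⟩
      show (((((q 1 2 ^ 9) * (q 0 3)) + ((q 1 1 ^ 9) * (q 1 3))) + ((q 0 1 ^ 9) * (q 2 3))) - ((((q 1 3) ^ 3) ^ 3) * (q 3 4))) = 0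
      linear_combination E.h13 + (q 1 4 ^ 8 * q 3 3) * z
    · show (((((((q 0 2) ^ 3) ^ 3) * (q 0 3)) + ((q 0 1 ^ 9) * (q 1 3))) + ((((q 0 0) ^ 3) ^ 3) * (q 2 3))) - ((((q 0 3) ^ 3) ^ 3) * (q 3 4))) = q 0 4 ^ 9 * q 3 3
      linear_combination E.h23
    · show (((((((q 2 2) ^ 3) ^ 3) * (q 0 3)) + ((q 1 2 ^ 9) * (q 1 3))) + ((((q 0 2) ^ 3) ^ 3) * (q 2 3))) - ((((q 2 3) ^ 3) ^ 3) * (q 3 4))) = q 2 4 ^ 9 * q 3 3
      linear_combination E.h03
    · refine List.forall_mem_cons.2 ⟨?_, List.forall_mem_cons.2 ⟨?_, List.forall_mem_nil _⟩⟩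
      · show ((q 0 4 ^ 9 * q 3 3) - ((((q 0 4) ^ 3) ^ 3) * (q 3 3))) = 0
        ring
      · show ((q 2 4 ^ 9 * q 3 3) - ((((q 2 4) ^ 3) ^ 3) * (q 3 3))) = 0
        ring
  · have h0' : p 1 4 ≠ 0 := h0
    have z : q 1 4 ≠ 0 := fun z => h0' (by rw [ctx_p14 c, z, mul_zero])
    have w : (q 1 4 ^ 9) ^ 80 = 1 := by
      calc (q 1 4 ^ 9) ^ 80 = (q 1 4 ^ 80) ^ 9 := by ring
        _ = 1 := by rw [pow80' c z, one_pow]
    refine WP_df (x := q 3 3) ?_ (flr (ls' := [q 0 0, q 0 2, q 2 2, q 0 3, q 2 3, q 1 3, q 0 4, q 2 4, q 1 4, q 3 3, q 3 4]) ?_ rfl (wp_D2 c x y s))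
    · show ((((((q 1 2 ^ (9:ℕ)) * (q 0 3)) + ((q 1 1 ^ (9:ℕ)) * (q 1 3))) + ((q 0 1 ^ (9:ℕ)) * (q 2 3))) - ((((q 1 3) ^ (3:ℕ)) ^ (3:ℕ)) * (q 3 4))) * ((((q 1 4) ^ (3:ℕ)) ^ (3:ℕ)) * (((((((q 1 4) ^ (3:ℕ)) ^ (3:ℕ)) ^ (3:ℕ)) * (((((q 1 4) ^ (3:ℕ)) ^ (3:ℕ)) ^ (3:ℕ)) ^ (3:ℕ))) * ((((((q 1 4) ^ (3:ℕ)) ^ (3:ℕ)) ^ (3:ℕ)) ^ (3:ℕ)) ^ (3:ℕ))) * ((((((q 1 4) ^ (3:ℕ)) ^ (3:ℕ)) ^ (3:ℕ)) * (((((q 1 4) ^ (3:ℕ)) ^ (3:ℕ)) ^ (3:ℕ)) ^ (3:ℕ))) * ((((((q 1 4) ^ (3:ℕ)) ^ (3:ℕ)) ^ (3:ℕ)) ^ (3:ℕ)) ^ (3:ℕ)))))) = q 3 3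
      linear_combination (q 1 4 ^ 9) ^ 79 * E.h13 + q 3 3 * w
    · refine List.forall_mem_cons.2 ⟨?_, List.forall_mem_cons.2 ⟨?_, List.forall_mem_nil _⟩⟩
      · show ((((((((q 0 2) ^ 3) ^ 3) * (q 0 3)) + ((q 0 1 ^ 9) * (q 1 3))) + ((((q 0 0) ^ 3) ^ 3) * (q 2 3))) - ((((q 0 3) ^ 3) ^ 3) * (q 3 4))) - ((((q 0 4) ^ 3) ^ 3) * (q 3 3))) = 0
        linear_combination E.h23
      · show ((((((((q 2 2) ^ 3) ^ 3) * (q 0 3)) + ((q 1 2 ^ 9) * (q 1 3))) + ((((q 0 2) ^ 3) ^ 3) * (q 2 3))) - ((((q 2 3) ^ 3) ^ 3) * (q 3 4))) - ((((q 2 4) ^ 3) ^ 3) * (q 3 3))) = 0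
        linear_combination E.h03

end
end Cfsg.Agent.H861.P9
end

-- part: H377/P9/STwo
section
/-!
# S5925, box H: the WP lemma of `plS2` (helper377)

`plS2` undoes the torus gauge `p = gau 1 (tau m) q`: with `y = m` the six new registers are
`q03, q23, q13, q04, q24, q14`.
-/

set_option autoImplicit false
set_option linter.style.longLine false

namespace Cfsg.Agent.H377.P9
open Matrix Cfsg.Agent.H879.E83 Cfsg.Agent.H780.P9

section
variable {F : Type*} [Field F] {g : F} {q p : Mt F} {m : F} {t : Fin 10 → F}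

theorem st3 {m x : F} (hm : m ^ 80 = 1) : m ^ 79 * (m * x) = x := by
  linear_combination x * hm

theorem st4 {m x : F} (hm : m ^ 80 = 1) : (m ^ 3) ^ 3 * (m ^ 71 * x) = x := by
  linear_combination x * hm

theorem p_low (c : Ctx g q p m t) : p 0 0 = q 0 0 ∧ p 0 2 = q 0 2 ∧ p 2 2 = q 2 2 ∧ p 0 3 = m * q 0 3 ∧
    p 2 3 = m * q 2 3 ∧ p 1 3 = m * q 1 3 ∧ p 0 4 = m ^ 71 * q 0 4 ∧ p 2 4 = m ^ 71 * q 2 4 ∧
    p 1 4 = m ^ 71 * q 1 4 := by
  refine ⟨?_, ?_, ?_, ?_, ?_, ?_, ?_, ?_, ?_⟩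
  · rw [c.papp]; change (1 : F) * 1 * _ = _; ring
  · rw [c.papp]; change (1 : F) * 1 * _ = _; ring
  · rw [c.papp]; change (1 : F) * 1 * _ = _; ring
  · rw [c.papp]; change (1 : F) * m * _ = _; ring
  · rw [c.papp]; change (1 : F) * m * _ = _; ring
  · rw [c.papp]; change (1 : F) * m * _ = _; ring
  · rw [c.papp]; change (1 : F) * m ^ 71 * _ = _; ring
  · rw [c.papp]; change (1 : F) * m ^ 71 * _ = _; ring
  · rw [c.papp]; change (1 : F) * m ^ 71 * _ = _; ring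

theorem wp_S2 (c : Ctx g q p m t) (h : WS3 g q p t 0 0) : WS2 g q p t := by
  obtain ⟨e00, e02, e22, e03, e23, e13, e04, e24, e14⟩ := p_low c
  have hm := c.m80
  unfold WS2 plS2
  refine WP_exn m hm ?_
  refine WP_df (x := q 0 3) ?_ ?_
  · change m ^ 79 * p 0 3 = _
    rw [e03]; exact st3 hm
  refine WP_df (x := q 2 3) ?_ ?_
  · change m ^ 79 * p 2 3 = _
    rw [e23]; exact st3 hm
  refine WP_df (x := q 1 3) ?_ ?_
  · change m ^ 79 * p 1 3 = _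
    rw [e13]; exact st3 hm
  refine WP_df (x := q 0 4) ?_ ?_
  · change (m ^ 3) ^ 3 * p 0 4 = _
    rw [e04]; exact st4 hm
  refine WP_df (x := q 2 4) ?_ ?_
  · change (m ^ 3) ^ 3 * p 2 4 = _
    rw [e24]; exact st4 hm
  refine WP_df (x := q 1 4) ?_ ?_
  · change (m ^ 3) ^ 3 * p 1 4 = _
    rw [e14]; exact st4 hm
  refine WP_sel (ls' := LS3 q) ?_ h
  change [p 0 0, p 0 2, p 2 2, q 0 3, q 2 3, q 1 3, q 0 4, q 2 4, q 1 4] = LS3 q
  rw [e00, e02, e22]; rfl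

end
end Cfsg.Agent.H377.P9
end

-- part: H377/P9/STwoB
section
/-!
# S5925, box H: the WP lemmas of `plS2i`, `plS2j` (helper377)

In the branch `q01 = q12 = 0` the gauge parameter `m` is one of four powers of `g`.
-/

set_option autoImplicit false
set_option linter.style.longLine false

namespace Cfsg.Agent.H377.P9
open Matrix Cfsg.Agent.H879.E83 Cfsg.Agent.H780.P9

section
variable {F : Type*} [Field F] {g : F} {q p : Mt F} {m : F} {t : Fin 10 → F}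

/-- the common shape of `plS2i`, `plS2j` -/
def S2k (es : List Ex) (P : Plan) : Plan :=
  .alt es (.kf (.mul (.k 38) (.mul (.mul (.mul (.fr (.k 38)) (.fr (.fr (.k 38)))) (.fr (.fr (.fr (.k 38))))) (.mul (.mul (.fr (.k 38)) (.fr (.fr (.k 38)))) (.fr (.fr (.fr (.k 38)))))))
    (.df (.mul (.k 39) (.v 3)) (.df (.mul (.k 39) (.v 6)) (.df (.mul (.k 39) (.k 17))
      (.df (.mul (.fr (.fr (.k 38))) (.v 5)) (.df (.mul (.fr (.fr (.k 38))) (.v 4)) (.df (.mul (.fr (.fr (.k 38))) (.k 18))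
        (.sel [0, 1, 2, 7, 8, 9, 10, 11, 12] P))))))))

theorem wp_S2k {G : Prop} (c : Ctx g q p m t) {es : List Ex} {P : Plan} (e : Ex) (he : e ∈ es)
    (hx : ∀ ks ls, e.eval g ks ls = m) (h : WP g G P (K40 g p t m (m ^ 79)) (LS3 q)) :
    WP g G (S2k es P) (K38 g p t) (LS2 p) := by
  obtain ⟨e00, e02, e22, e03, e23, e13, e04, e24, e14⟩ := p_low c
  have hm := c.m80
  unfold S2k
  refine WP_alt e he (hx _ _) ?_
  refine WP_kf (x := m ^ 79) ?_ ?_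
  · change m * (m ^ 3 * (m ^ 3) ^ 3 * ((m ^ 3) ^ 3) ^ 3 * (m ^ 3 * (m ^ 3) ^ 3 * ((m ^ 3) ^ 3) ^ 3)) = m ^ 79
    ring
  refine WP_df (x := q 0 3) ?_ ?_
  · change m ^ 79 * p 0 3 = _
    rw [e03]; exact st3 hm
  refine WP_df (x := q 2 3) ?_ ?_
  · change m ^ 79 * p 2 3 = _
    rw [e23]; exact st3 hm
  refine WP_df (x := q 1 3) ?_ ?_
  · change m ^ 79 * p 1 3 = _
    rw [e13]; exact st3 hm
  refine WP_df (x := q 0 4) ?_ ?_
  · change (m ^ 3) ^ 3 * p 0 4 = _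
    rw [e04]; exact st4 hm
  refine WP_df (x := q 2 4) ?_ ?_
  · change (m ^ 3) ^ 3 * p 2 4 = _
    rw [e24]; exact st4 hm
  refine WP_df (x := q 1 4) ?_ ?_
  · change (m ^ 3) ^ 3 * p 1 4 = _
    rw [e14]; exact st4 hm
  refine WP_sel (ls' := LS3 q) ?_ h
  change [p 0 0, p 0 2, p 2 2, q 0 3, q 2 3, q 1 3, q 0 4, q 2 4, q 1 4] = LS3 q
  rw [e00, e02, e22]; rfl

theorem m_i (c : Ctx g q p m t) (h13 : p 1 3 = 1) (hq : ∃ i < 4, q 1 3 = g ^ i) :
    m = g ^ 0 ∨ m = g ^ 79 ∨ m = g ^ 78 ∨ m = g ^ 77 := by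
  obtain ⟨i, hi, e⟩ := hq
  obtain ⟨-, -, -, -, -, e13, -, -, -⟩ := p_low c
  have h80 : g ^ 80 = 1 := g80 c.hg c.h3
  rw [h13, e] at e13
  have key : m = g ^ (80 - i) := by
    have e2 : g ^ i * g ^ (80 - i) = 1 := by rw [← pow_add, show i + (80 - i) = 80 by omega]; exact h80
    calc m = m * (g ^ i * g ^ (80 - i)) := by rw [e2, mul_one]
      _ = (m * g ^ i) * g ^ (80 - i) := by ring
      _ = g ^ (80 - i) := by rw [← e13, one_mul]
  rw [key]
  interval_cases i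
  · left; rw [pow_zero]; exact h80
  · right; left; rfl
  · right; right; left; rfl
  · right; right; right; rfl

theorem m_j (c : Ctx g q p m t) (h14 : p 1 4 = 1) (hq : ∃ i < 4, q 1 4 = g ^ i) :
    m = g ^ 0 ∨ m = g ^ 9 ∨ m = g ^ 18 ∨ m = g ^ 27 := by
  obtain ⟨i, hi, e⟩ := hq
  obtain ⟨-, -, -, -, -, -, -, -, e14⟩ := p_low c
  rw [h14, e] at e14
  have e3 : m ^ 9 = g ^ i := by
    calc m ^ 9 = m ^ 9 * (m ^ 71 * g ^ i) := by rw [← e14, mul_one]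
      _ = m ^ 80 * g ^ i := by ring
      _ = g ^ i := by rw [c.m80, one_mul]
  have key : m = g ^ (9 * i) := by
    calc m = m ^ 80 * m := by rw [c.m80, one_mul]
      _ = (m ^ 9) ^ 9 := by ring
      _ = g ^ (9 * i) := by rw [e3, ← pow_mul, mul_comm]
  rw [key]
  interval_cases i
  · left; rfl
  · right; left; rfl
  · right; right; left; rfl
  · right; right; right; rfl

theorem wp_S2k_i {G : Prop} {P : Plan} (c : Ctx g q p m t) (h13 : p 1 3 = 1) (hq : ∃ i < 4, q 1 3 = g ^ i)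
    (h : ∀ x y, WP g G P (K40 g p t x y) (LS3 q)) :
    WP g G (S2k [.pw 0, .pw 79, .pw 78, .pw 77] P) (K38 g p t) (LS2 p) := by
  rcases m_i c h13 hq with e | e | e | e
  · exact wp_S2k c (.pw 0) (by simp) (fun _ _ => e.symm) (h _ _)
  · exact wp_S2k c (.pw 79) (by simp) (fun _ _ => e.symm) (h _ _)
  · exact wp_S2k c (.pw 78) (by simp) (fun _ _ => e.symm) (h _ _)
  · exact wp_S2k c (.pw 77) (by simp) (fun _ _ => e.symm) (h _ _)

theorem wp_S2k_j {G : Prop} {P : Plan} (c : Ctx g q p m t) (h14 : p 1 4 = 1) (hq : ∃ i < 4, q 1 4 = g ^ i)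
    (h : ∀ x y, WP g G P (K40 g p t x y) (LS3 q)) :
    WP g G (S2k [.pw 0, .pw 9, .pw 18, .pw 27] P) (K38 g p t) (LS2 p) := by
  rcases m_j c h14 hq with e | e | e | e
  · exact wp_S2k c (.pw 0) (by simp) (fun _ _ => e.symm) (h _ _)
  · exact wp_S2k c (.pw 9) (by simp) (fun _ _ => e.symm) (h _ _)
  · exact wp_S2k c (.pw 18) (by simp) (fun _ _ => e.symm) (h _ _)
  · exact wp_S2k c (.pw 27) (by simp) (fun _ _ => e.symm) (h _ _)

theorem wp_S2i (c : Ctx g q p m t) (h13 : p 1 3 = 1) (hq : ∃ i < 4, q 1 3 = g ^ i) (h : ∀ x y, WS3 g q p t x y) :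
    WS2x g q p t plS2i := wp_S2k_i c h13 hq h

theorem wp_S2j (c : Ctx g q p m t) (h14 : p 1 4 = 1) (hq : ∃ i < 4, q 1 4 = g ^ i) (h : ∀ x y, WS3 g q p t x y) :
    WS2x g q p t plS2j := wp_S2k_j c h14 hq h

end
end Cfsg.Agent.H377.P9
end

-- part: H908/P9/Alpha
section
/-!
# S5925, box H: the WP lemmas `wp_Alpha`, `wp_Alpha0` (plan v3) (helper908)

General blocks: `T9` (choice of `t 8` and the four scalars), `PR` (pair of lanes), `AT` (stage `plAT`), for any continuation.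
-/

set_option autoImplicit false
set_option linter.style.longLine false

namespace Cfsg.Agent.H908.P9
open Matrix Cfsg.Agent.H879.E83 Cfsg.Agent.H780.P9

/-- the choice of `t 8` and the four scalars -/
def T9 (pl : Plan) : Plan :=
  (.alt [.zero, (.pw 0), (.neg (.pw 0))]
  (.kf (.neg (.add (.add (.k 12) (.mul (.pw 20) (.k 29))) (.k 33)))
  (.kf (.neg (.add (.add (.k 13) (.mul (.pw 60) (.k 29))) (.neg (.k 33))))
  (.kf (.fr (.fr (.k 34)))
  (.kf (.fr (.fr (.k 35))) pl)))))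

/-- the pair `(q03, q24)` -/
def PR (pl : Plan) : Plan :=
  (.ksp (.k 34)
  (.or (.ex (.df .zero (.sel [0, 1, 2, 3, 4, 5, 6, 7, 9] pl)))
  (.exn (.df .zero (.sel [0, 1, 2, 3, 4, 5, 6, 9, 7] pl))))
  (.exn (.df (.mul (.k 36) (.fr (.fr (.v 8)))) (.sel [0, 1, 2, 3, 4, 5, 6, 7, 9] pl))))

/-- the stage `plAT` -/
def AT (pl : Plan) : Plan :=
  (.df (.sub (.v 3) (.mul (.v 7) (.k 23)))
  (.df (.mul (.sub (.v 4) (.v 8)) (.k 24))
  (.df (.mul (.v 7) (.fr (.fr (.v 9))))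
  (.df (.mul (.v 10) (.fr (.fr (.v 8))))
  (.fl [(.sub (.mul (.v 9) (.fr (.fr (.v 10)))) (.k 35)), (.sub (.v 5) (.add (.v 11) (.fr (.fr (.v 11))))),
    (.sub (.v 6) (.add (.v 12) (.fr (.fr (.v 12)))))] [1, 0, 2, 7, 8, 9, 10] pl)))))

section
variable {F : Type*} [Field F] {g : F} {q p : Mt F} {m : F} {t : Fin 10 → F} {G : Prop}

theorem hermA (c : Ctx g q p m t) (a b : Fin 5) :
    p a 2 ^ 9 * p 0 b + p a 1 ^ 9 * p 1 b + p a 0 ^ 9 * p 2 b - p a 4 ^ 9 * p 3 b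
      - p a 3 ^ 9 * p 4 b = if sgm a = b then Jv (sgm a) else 0 :=
  herm_exp' c.four.herm a b

theorem hK (_ : Ctx g q p m t) : K38 g p t = K33 g p t ++ [t 8] ++ [QQ p 0 3] ++ [QQ p 0 4] ++ [QQ p 0 3 ^ 9] ++ [QQ p 0 4 ^ 9] := by
  rw [K38]
  simp only [List.append_assoc, List.cons_append, List.nil_append]

theorem wp_T9 (c : Ctx g q p m t) {pl : Plan} {ls : List F} (h : WP g G pl (K38 g p t) ls) : WP g G (T9 pl) (K33 g p t) ls := by
  have key : ∀ e : Ex, e ∈ ([.zero, (.pw 0), (.neg (.pw 0))] : List Ex) → e.eval g (K33 g p t) [] = t 8 →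
      WP g G (T9 pl) (K33 g p t) ls := by
    intro e he h8
    rw [hK c] at h
    refine WP_alt (x := t 8) e he h8 (WP_kf (x := QQ p 0 3) ?_ (WP_kf (x := QQ p 0 4) ?_ (WP_kf (x := QQ p 0 3 ^ 9) ?_
      (WP_kf (x := QQ p 0 4 ^ 9) ?_ h))))
    · show -(B03 g t + g ^ 20 * t 7 + t 8) = QQ p 0 3
      exact c.Q03.symm
    · show -(B04 g t + g ^ 60 * t 7 + -t 8) = QQ p 0 4
      exact c.Q04.symm
    · show (QQ p 0 3 ^ 3) ^ 3 = QQ p 0 3 ^ 9
      rw [← pow_mul]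
    · show (QQ p 0 4 ^ 3) ^ 3 = QQ p 0 4 ^ 9
      rw [← pow_mul]
  rcases c.tr 8 with h8 | h8 | h8
  · exact key .zero (by simp) h8.symm
  · exact key (.pw 0) (by simp) (by rw [h8]; exact pow_zero g)
  · exact key (.neg (.pw 0)) (by simp) (by rw [h8]; exact congrArg Neg.neg (pow_zero g))

theorem wp_PR (c : Ctx g q p m t) {pl : Plan} (tl : List F) (h : WP g G pl (K38 g p t ++ tl) (LC p ++ [p 0 3, p 2 4])) :
    WP g G (PR pl) (K38 g p t ++ tl) (LC p) := by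
  refine WP_ksp ?_ ?_
  · intro h0
    have h1 : p 0 3 * p 2 4 ^ 9 = 0 := h0
    by_cases h2 : p 2 4 = 0
    · refine WP_or_left (WP_ex (p 0 3) (c.p81 0 3) (WP_df (x := 0) rfl (WP_sel (ls' := LC p ++ [p 0 3, p 2 4]) ?_ h)))
      rw [h2]; rfl
    · have h3 : p 0 3 = 0 := (mul_eq_zero.1 h1).resolve_right (pow_ne_zero _ h2)
      refine WP_or_right (WP_exn (p 2 4) (pow80_of (c.p81 2 4) h2) (WP_df (x := 0) rfl
        (WP_sel (ls' := LC p ++ [p 0 3, p 2 4]) ?_ h)))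
      rw [h3]; rfl
  · intro h0
    have h1 : p 0 3 * p 2 4 ^ 9 ≠ 0 := h0
    have h2 : p 0 3 ≠ 0 := left_ne_zero_of_mul h1
    have e80 := pow80_of (c.p81 0 3) h2
    refine WP_exn (p 0 3) e80 (WP_df (x := p 2 4) ?_ (WP_sel (ls' := LC p ++ [p 0 3, p 2 4]) rfl h))
    show (p 0 3 * p 2 4 ^ 9) ^ 9 * (((p 0 3 ^ 79) ^ 3) ^ 3) = p 2 4
    calc (p 0 3 * p 2 4 ^ 9) ^ 9 * (((p 0 3 ^ 79) ^ 3) ^ 3) = (p 0 3 ^ 80) ^ 9 * p 2 4 ^ 81 := by ring
      _ = p 2 4 := by rw [e80, one_pow, one_mul, c.p81]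

theorem wp_AT (c : Ctx g q p m t) (h13 : p 1 3 = 1) (h14 : p 1 4 ≠ 0) {pl : Plan} (tl : List F)
    (h : WP g G pl (K38 g p t ++ tl) (LS2 p)) : WP g G (AT pl) (K38 g p t ++ tl) (LC p ++ [p 0 3, p 2 4]) := by
  have s := c.sym
  have e10 : p 1 2 ^ 9 * p 0 0 + p 1 1 ^ 9 * p 0 1 + p 0 1 ^ 9 * p 0 2 - p 1 4 ^ 9 * p 0 3 - p 0 4 = 0 := by
    have := hermA c 1 0
    rw [if_neg (by decide), h13, s 1 0, s 2 0, s 3 0, s 4 0] at this
    linear_combination this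
  have e12 : p 1 2 ^ 9 * p 0 2 + p 1 1 ^ 9 * p 1 2 + p 0 1 ^ 9 * p 2 2 - p 1 4 ^ 9 * p 2 3 - p 2 4 = 0 := by
    have := hermA c 1 2
    rw [if_neg (by decide), h13, s 1 0, s 3 2, s 4 2] at this
    linear_combination this
  have e00 : p 0 2 ^ 9 * p 0 0 + p 0 1 ^ 9 * p 0 1 + p 0 0 ^ 9 * p 0 2 - p 0 4 ^ 9 * p 0 3 - p 0 3 ^ 9 * p 0 4 = 0 := by
    have := hermA c 0 0
    rw [if_neg (by decide), s 1 0, s 2 0, s 3 0, s 4 0] at this
    exact this
  have e22 : p 2 2 ^ 9 * p 0 2 + p 1 2 ^ 9 * p 1 2 + p 0 2 ^ 9 * p 2 2 - p 2 4 ^ 9 * p 2 3 - p 2 3 ^ 9 * p 2 4 = 0 := by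
    have := hermA c 2 2
    rw [if_neg (by decide), s 2 0, s 2 1, s 3 2, s 4 2] at this
    exact this
  have e80 : p 1 4 ^ 80 = 1 := pow80_of (c.p81 1 4) h14
  have x04 := c.p81 0 4
  have x02 := c.p81 0 2
  have x22 := c.p81 2 2
  have x24 := c.p81 2 4
  have f1 : p 0 4 * (p 2 3 ^ 3) ^ 3 - QQ p 0 4 = 0 := by
    show p 0 4 * (p 2 3 ^ 3) ^ 3 - p 0 4 * p 2 3 ^ 9 = 0
    ring
  have f2 : (p 0 1 * p 0 1 ^ 9 + (p 0 0 * p 0 2 ^ 9 + (p 0 0 * p 0 2 ^ 9) ^ 9)) -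
      (p 0 3 * p 0 4 ^ 9 + ((p 0 3 * p 0 4 ^ 9) ^ 3) ^ 3) = 0 := by
    linear_combination e00 + p 0 0 ^ 9 * x02 - p 0 3 ^ 9 * x04
  have f3 : (p 1 2 * p 1 2 ^ 9 + (p 0 2 * p 2 2 ^ 9 + (p 0 2 * p 2 2 ^ 9) ^ 9)) -
      (p 2 3 * p 2 4 ^ 9 + ((p 2 3 * p 2 4 ^ 9) ^ 3) ^ 3) = 0 := by
    linear_combination e22 + p 0 2 ^ 9 * x22 - p 2 3 ^ 9 * x24
  refine WP_df (x := p 0 4) ?_ (WP_df (x := p 2 3) ?_ (WP_df (x := p 0 3 * p 0 4 ^ 9) ?_
    (WP_df (x := p 2 3 * p 2 4 ^ 9) ?_ (WP_fl (ls' := LS2 p) ?_ rfl h))))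
  · show (p 0 0 * p 1 2 ^ 9 + p 0 1 * p 1 1 ^ 9 + p 0 2 * p 0 1 ^ 9) - p 0 3 * p 1 4 ^ 9 = p 0 4
    linear_combination e10
  · show ((p 0 2 * p 1 2 ^ 9 + p 1 2 * p 1 1 ^ 9 + p 2 2 * p 0 1 ^ 9) - p 2 4) * (p 1 4 ^ 9) ^ 79 = p 2 3
    have e : (p 1 4 ^ 9) ^ 80 = 1 := by
      calc (p 1 4 ^ 9) ^ 80 = (p 1 4 ^ 80) ^ 9 := by ring
        _ = 1 := by rw [e80, one_pow]
    have e' : p 1 4 ^ 9 * (p 1 4 ^ 9) ^ 79 = 1 := by rw [← pow_succ']; exact e
    linear_combination (p 1 4 ^ 9) ^ 79 * e12 + p 2 3 * e'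
  · show p 0 3 * (p 0 4 ^ 3) ^ 3 = p 0 3 * p 0 4 ^ 9
    rw [← pow_mul]
  · show p 2 3 * (p 2 4 ^ 3) ^ 3 = p 2 3 * p 2 4 ^ 9
    rw [← pow_mul]
  · intro d hd
    rcases List.mem_cons.1 hd with rfl | hd
    · exact f1
    rcases List.mem_cons.1 hd with rfl | hd
    · exact f2
    rcases List.mem_cons.1 hd with rfl | hd
    · exact f3
    · exact absurd hd List.not_mem_nil

/-- **the branch `q13 = 1`, `q14 ≠ 0`** -/
theorem wp_Alpha (c : Ctx g q p m t) (h13 : p 1 3 = 1) (h14 : p 1 4 ≠ 0) (h : WS2 g q p t) :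
    WC g q p t plAlpha := by
  have h1 : WP g (Sol g q) (PR (AT plS2)) (K38 g p t ++ [0, 0]) (LC p) := wp_PR c _ (wp_AT c h13 h14 _ h)
  have h2 : WP g (Sol g q) (PR (AT plS2)) (K38 g p t ++ [0] ++ [0]) (LC p) := by
    rwa [List.append_assoc]
  exact wp_T9 c (pl := .kf .zero (.kf .zero (PR (AT plS2)))) (WP_kf (x := 0) rfl (WP_kf (x := 0) rfl h2))

/-- **the branch `q13 = 1`, `q14 ≠ 0`**, `q01 = q12 = 0` -/
theorem wp_Alpha0 (c : Ctx g q p m t) (h13 : p 1 3 = 1) (h14 : p 1 4 ≠ 0) (h : WS2x g q p t plS2i) :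
    WC g q p t plAlpha0 := by
  have h0 : WP g (Sol g q) plS2i (K38 g p t ++ []) (LS2 p) := by rw [List.append_nil]; exact h
  have h1 : WP g (Sol g q) (PR (AT plS2i)) (K38 g p t ++ []) (LC p) := wp_PR c _ (wp_AT c h13 h14 _ h0)
  rw [List.append_nil] at h1
  exact wp_T9 c h1

end
end Cfsg.Agent.H908.P9
end

-- part: H51/P9/Beta
section
/-!
# S5925, box H: the WP lemmas of `plBeta1`, `plBeta2`, `plBeta10`, `plBeta20`
-/

set_option autoImplicit false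
set_option linter.style.longLine false

namespace Cfsg.Agent.H51.P9
open Matrix Cfsg.Agent.H879.E83 Cfsg.Agent.H780.P9

section
variable {F : Type*} [Field F] {g : F} {q p : Mt F} {m : F} {t : Fin 10 → F}

/-- the lanes of the continuations in terms of row 3, 4 entries -/
theorem lc_eq (c : Ctx g q p m t) : LC p =
    [p 0 2, p 0 0, p 2 2, p 1 4 ^ 9 * p 0 3 + p 1 3 ^ 9 * p 0 4, p 1 4 ^ 9 * p 2 3 + p 1 3 ^ 9 * p 2 4,
      p 0 3 * p 0 4 ^ 9 + (p 0 3 * p 0 4 ^ 9) ^ 9, p 2 3 * p 2 4 ^ 9 + (p 2 3 * p 2 4 ^ 9) ^ 9] := by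
  have H := c.four.herm
  have h1 := herm_exp' H 1 0
  have h2 := herm_exp' H 1 2
  have h3 := herm_exp' H 0 0
  have h4 := herm_exp' H 2 2
  rw [if_neg (by decide)] at h1 h2 h3 h4
  rw [c.sym 1 0, c.sym 2 0, c.sym 3 0, c.sym 4 0] at h1 h3
  rw [c.sym 1 0, c.sym 3 2, c.sym 4 2] at h2
  rw [c.sym 3 2, c.sym 4 2, c.sym 2 0, c.sym 2 1] at h4
  have a1 : p 0 0 * p 1 2 ^ 9 + p 0 1 * p 1 1 ^ 9 + p 0 2 * p 0 1 ^ 9 = p 1 4 ^ 9 * p 0 3 + p 1 3 ^ 9 * p 0 4 := by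
    linear_combination h1
  have a2 : p 0 2 * p 1 2 ^ 9 + p 1 2 * p 1 1 ^ 9 + p 2 2 * p 0 1 ^ 9 = p 1 4 ^ 9 * p 2 3 + p 1 3 ^ 9 * p 2 4 := by
    linear_combination h2
  have a3 : p 0 1 * p 0 1 ^ 9 + (p 0 0 * p 0 2 ^ 9 + (p 0 0 * p 0 2 ^ 9) ^ 9)
      = p 0 3 * p 0 4 ^ 9 + (p 0 3 * p 0 4 ^ 9) ^ 9 := by
    have e2 := c.p81 0 2
    have e4 := c.p81 0 4
    linear_combination h3 + p 0 0 ^ 9 * e2 - p 0 3 ^ 9 * e4
  have a4 : p 1 2 * p 1 2 ^ 9 + (p 0 2 * p 2 2 ^ 9 + (p 0 2 * p 2 2 ^ 9) ^ 9)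
      = p 2 3 * p 2 4 ^ 9 + (p 2 3 * p 2 4 ^ 9) ^ 9 := by
    have e2 := c.p81 2 2
    have e4 := c.p81 2 4
    linear_combination h4 + p 0 2 ^ 9 * e2 - p 2 3 ^ 9 * e4
  rw [LC, a1, a2, a3, a4]

/-- the choice of a trit -/
theorem wp_trit {G : Prop} {ks ls : List F} {pl : Plan} {x : F} (hx : x = 0 ∨ x = 1 ∨ x = -1) (h : WP g G pl (ks ++ [x]) ls) :
    WP g G (.alt [.zero, .pw 0, .neg (.pw 0)] pl) ks ls := by
  rcases hx with rfl | rfl | rfl
  · exact WP_alt .zero (by simp) rfl h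
  · exact WP_alt (.pw 0) (by simp) (pow_zero g) h
  · exact WP_alt (.neg (.pw 0)) (by simp) (congrArg Neg.neg (pow_zero g)) h

/-- the scalars `t9, Q03, Q04, bar Q03, bar Q04` -/
theorem wp_t9 {G : Prop} {ls : List F} {pl : Plan} (c : Ctx g q p m t) (h : WP g G pl (K38 g p t) ls) :
    WP g G (.alt [.zero, .pw 0, .neg (.pw 0)]
      (.kf (.neg (.add (.add (.k 12) (.mul (.pw 20) (.k 29))) (.k 33)))
      (.kf (.neg (.add (.add (.k 13) (.mul (.pw 60) (.k 29))) (.neg (.k 33))))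
      (.kf (.fr (.fr (.k 34)))
      (.kf (.fr (.fr (.k 35))) pl))))) (K33 g p t) ls := by
  have c3 : ∀ x : F, (x ^ 3) ^ 3 = x ^ 9 := fun x => by ring
  refine wp_trit (c.tr 8) (WP_kf (x := QQ p 0 3) ?_ (WP_kf (x := QQ p 0 4) ?_ (WP_kf (x := QQ p 0 3 ^ 9) ?_ (WP_kf (x := QQ p 0 4 ^ 9) ?_ ?_))))
  · exact c.Q03.symm
  · exact c.Q04.symm
  · exact c3 _
  · exact c3 _
  · exact h

/-- `t9` with the two dummy zeros -/
theorem wp_t9z {G : Prop} {ls : List F} {pl : Plan} (c : Ctx g q p m t) (h : WP g G pl (K40 g p t 0 0) ls) :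
    WP g G (.alt [.zero, .pw 0, .neg (.pw 0)]
      (.kf (.neg (.add (.add (.k 12) (.mul (.pw 20) (.k 29))) (.k 33)))
      (.kf (.neg (.add (.add (.k 13) (.mul (.pw 60) (.k 29))) (.neg (.k 33))))
      (.kf (.fr (.fr (.k 34)))
      (.kf (.fr (.fr (.k 35))) (.kf .zero (.kf .zero pl))))))) (K33 g p t) ls :=
  wp_t9 c (WP_kf (x := 0) rfl (WP_kf (x := 0) rfl h))

/-- the common part of `plBeta1`, `plBeta10` (after the scalars) -/
theorem wp_b1 {G : Prop} {ks : List F} {pl : Plan} (c : Ctx g q p m t) (h13 : p 1 3 = 1) (h14 : p 1 4 = 0)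
    (k34 : ks.getD 34 0 = QQ p 0 3) (k35 : ks.getD 35 0 = QQ p 0 4) (h : WP g G pl ks (LS2 p)) :
    WP g G (.ex (.df (.mul (.v 7) (.fr (.fr (.v 3))))
      (.fl [(.sub (.mul (.v 7) (.fr (.fr (.v 4)))) (.k 34)), (.sub (.v 5) (.add (.v 9) (.fr (.fr (.v 9)))))] [0, 1, 2, 3, 4, 5, 6, 7]
      (.ex (.df (.mul (.v 8) (.fr (.fr (.v 4))))
      (.fl [(.sub (.mul (.v 3) (.fr (.fr (.v 8)))) (.k 35)), (.sub (.v 6) (.add (.v 10) (.fr (.fr (.v 10)))))] [1, 0, 2, 7, 4, 3, 8]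
      pl)))))) ks (LC p) := by
  have c3 : ∀ x : F, (x ^ 3) ^ 3 = x ^ 9 := fun x => by ring
  have e0 : LC p = [p 0 2, p 0 0, p 2 2, p 0 4, p 2 4,
      p 0 3 * p 0 4 ^ 9 + (p 0 3 * p 0 4 ^ 9) ^ 9, p 2 3 * p 2 4 ^ 9 + (p 2 3 * p 2 4 ^ 9) ^ 9] := by
    rw [lc_eq c, h13, h14]
    simp only [one_pow, one_mul, ne_eq, OfNat.ofNat_ne_zero, not_false_eq_true, zero_pow, zero_mul, zero_add]
  rw [e0]
  refine WP_ex (p 0 3) (c.p81 0 3) (WP_df (x := p 0 3 * p 0 4 ^ 9) ?_ (WP_fl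
    (ls' := [p 0 2, p 0 0, p 2 2, p 0 4, p 2 4, p 0 3 * p 0 4 ^ 9 + (p 0 3 * p 0 4 ^ 9) ^ 9,
      p 2 3 * p 2 4 ^ 9 + (p 2 3 * p 2 4 ^ 9) ^ 9, p 0 3]) ?_ rfl ?_))
  · exact congrArg (p 0 3 * ·) (c3 _)
  · intro e he
    simp only [List.mem_cons, List.not_mem_nil, or_false] at he
    rcases he with rfl | rfl
    · show p 0 3 * (p 2 4 ^ 3) ^ 3 - ks.getD 34 0 = 0
      rw [k34]
      show p 0 3 * (p 2 4 ^ 3) ^ 3 - p 0 3 * p 2 4 ^ 9 = 0
      ring
    · show p 0 3 * p 0 4 ^ 9 + (p 0 3 * p 0 4 ^ 9) ^ 9 - (p 0 3 * p 0 4 ^ 9 + ((p 0 3 * p 0 4 ^ 9) ^ 3) ^ 3) = 0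
      ring
  · refine WP_ex (p 2 3) (c.p81 2 3) (WP_df (x := p 2 3 * p 2 4 ^ 9) ?_ (WP_fl (ls' := LS2 p) ?_ rfl h))
    · exact congrArg (p 2 3 * ·) (c3 _)
    · intro e he
      simp only [List.mem_cons, List.not_mem_nil, or_false] at he
      rcases he with rfl | rfl
      · show p 0 4 * (p 2 3 ^ 3) ^ 3 - ks.getD 35 0 = 0
        rw [k35]
        show p 0 4 * (p 2 3 ^ 3) ^ 3 - p 0 4 * p 2 3 ^ 9 = 0
        ring
      · show p 2 3 * p 2 4 ^ 9 + (p 2 3 * p 2 4 ^ 9) ^ 9 - (p 2 3 * p 2 4 ^ 9 + ((p 2 3 * p 2 4 ^ 9) ^ 3) ^ 3) = 0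
        ring

/-- the common part of `plBeta2`, `plBeta20` (after the scalars) -/
theorem wp_b2 {G : Prop} {ks : List F} {pl : Plan} (c : Ctx g q p m t) (h13 : p 1 3 = 0) (h14 : p 1 4 = 1)
    (k34 : ks.getD 34 0 = QQ p 0 3) (k35 : ks.getD 35 0 = QQ p 0 4) (h : WP g G pl ks (LS2 p)) :
    WP g G (.ex (.df (.mul (.v 3) (.fr (.fr (.v 7))))
      (.fl [(.sub (.mul (.v 7) (.fr (.fr (.v 4)))) (.k 35)), (.sub (.v 5) (.add (.v 9) (.fr (.fr (.v 9)))))] [0, 1, 2, 3, 4, 5, 6, 7]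
      (.ex (.df (.mul (.v 4) (.fr (.fr (.v 8))))
      (.fl [(.sub (.mul (.v 3) (.fr (.fr (.v 8)))) (.k 34)), (.sub (.v 6) (.add (.v 10) (.fr (.fr (.v 10)))))] [1, 0, 2, 3, 8, 7, 4]
      pl)))))) ks (LC p) := by
  have c3 : ∀ x : F, (x ^ 3) ^ 3 = x ^ 9 := fun x => by ring
  have e0 : LC p = [p 0 2, p 0 0, p 2 2, p 0 3, p 2 3,
      p 0 3 * p 0 4 ^ 9 + (p 0 3 * p 0 4 ^ 9) ^ 9, p 2 3 * p 2 4 ^ 9 + (p 2 3 * p 2 4 ^ 9) ^ 9] := by
    rw [lc_eq c, h13, h14]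
    simp only [one_pow, one_mul, ne_eq, OfNat.ofNat_ne_zero, not_false_eq_true, zero_pow, zero_mul, add_zero]
  rw [e0]
  refine WP_ex (p 0 4) (c.p81 0 4) (WP_df (x := p 0 3 * p 0 4 ^ 9) ?_ (WP_fl
    (ls' := [p 0 2, p 0 0, p 2 2, p 0 3, p 2 3, p 0 3 * p 0 4 ^ 9 + (p 0 3 * p 0 4 ^ 9) ^ 9,
      p 2 3 * p 2 4 ^ 9 + (p 2 3 * p 2 4 ^ 9) ^ 9, p 0 4]) ?_ rfl ?_))
  · exact congrArg (p 0 3 * ·) (c3 _)
  · intro e he
    simp only [List.mem_cons, List.not_mem_nil, or_false] at he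
    rcases he with rfl | rfl
    · show p 0 4 * (p 2 3 ^ 3) ^ 3 - ks.getD 35 0 = 0
      rw [k35]
      show p 0 4 * (p 2 3 ^ 3) ^ 3 - p 0 4 * p 2 3 ^ 9 = 0
      ring
    · show p 0 3 * p 0 4 ^ 9 + (p 0 3 * p 0 4 ^ 9) ^ 9 - (p 0 3 * p 0 4 ^ 9 + ((p 0 3 * p 0 4 ^ 9) ^ 3) ^ 3) = 0
      ring
  · refine WP_ex (p 2 4) (c.p81 2 4) (WP_df (x := p 2 3 * p 2 4 ^ 9) ?_ (WP_fl (ls' := LS2 p) ?_ rfl h))
    · exact congrArg (p 2 3 * ·) (c3 _)
    · intro e he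
      simp only [List.mem_cons, List.not_mem_nil, or_false] at he
      rcases he with rfl | rfl
      · show p 0 3 * (p 2 4 ^ 3) ^ 3 - ks.getD 34 0 = 0
        rw [k34]
        show p 0 3 * (p 2 4 ^ 3) ^ 3 - p 0 3 * p 2 4 ^ 9 = 0
        ring
      · show p 2 3 * p 2 4 ^ 9 + (p 2 3 * p 2 4 ^ 9) ^ 9 - (p 2 3 * p 2 4 ^ 9 + ((p 2 3 * p 2 4 ^ 9) ^ 3) ^ 3) = 0
        ring

theorem wp_Beta1 (c : Ctx g q p m t) (h13 : p 1 3 = 1) (h14 : p 1 4 = 0) (h : WS2 g q p t) : WC g q p t plBeta1 :=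
  wp_t9z c (wp_b1 c h13 h14 rfl rfl h)

theorem wp_Beta2 (c : Ctx g q p m t) (h13 : p 1 3 = 0) (h14 : p 1 4 = 1) (h : WS2 g q p t) : WC g q p t plBeta2 :=
  wp_t9z c (wp_b2 c h13 h14 rfl rfl h)

theorem wp_Beta10 (c : Ctx g q p m t) (h13 : p 1 3 = 1) (h14 : p 1 4 = 0) (h : WS2x g q p t plS2i) : WC g q p t plBeta10 :=
  wp_t9 c (wp_b1 c h13 h14 rfl rfl h)

theorem wp_Beta20 (c : Ctx g q p m t) (h13 : p 1 3 = 0) (h14 : p 1 4 = 1) (h : WS2x g q p t plS2j) : WC g q p t plBeta20 :=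
  wp_t9 c (wp_b2 c h13 h14 rfl rfl h)

end
end Cfsg.Agent.H51.P9
end

-- part: H239/P9/Beta3
section
/-!
# S5925, box H: the WP lemma of `plBeta3` (helper239)
-/

set_option autoImplicit false
set_option linter.style.longLine false

namespace Cfsg.Agent.H239.P9

open Matrix Cfsg.Agent.H879.E83 Cfsg.Agent.H780.P9

section
variable {F : Type*} [Field F] {g : F}

theorem fr9 (x : F) : (x ^ 3) ^ 3 = x ^ 9 := by rw [← pow_mul]

theorem pow80 {x : F} (h : x ^ 81 = x) (h0 : x ≠ 0) : x ^ 80 = 1 := by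
  have h1 : x ^ 80 * x = 1 * x := by rw [← pow_succ, h, one_mul]
  exact mul_right_cancel₀ h0 h1

/-- two factors with a given nonzero hermitian product -/
theorem second {x y : F} (hx : x ^ 81 = x) (hy : y ^ 81 = y) (h : x * y ^ 9 ≠ 0) :
    (x * y ^ 9) ^ 9 * (x ^ 79) ^ 9 = y := by
  have hx0 : x ≠ 0 := left_ne_zero_of_mul h
  have h1 : (x * y ^ 9) ^ 9 * (x ^ 79) ^ 9 = (x ^ 80) ^ 9 * y ^ 81 := by ring
  rw [h1, pow80 hx hx0, one_pow, one_mul, hy]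

theorem left_pow80 {x y : F} (hx : x ^ 81 = x) (h : x * y ^ 9 ≠ 0) : x ^ 80 = 1 :=
  pow80 hx (left_ne_zero_of_mul h)

variable {q p : Mt F} {m : F} {t : Fin 10 → F}

/-- the lanes of the last stage -/
theorem wp_B3c (c : Ctx g q p m t) (hpq : p = q) (h13 : p 1 3 = 0) (h14 : p 1 4 = 0) (h : WS3 g q p t 0 0) :
    WP g (Sol g q) plB3c (K40 g p t 0 0)
      [p 0 2, p 0 0, p 2 2, p 0 1 * p 0 1 ^ 9 + (p 0 0 * p 0 2 ^ 9 + (p 0 0 * p 0 2 ^ 9) ^ 9),
        p 1 2 * p 1 2 ^ 9 + (p 0 2 * p 2 2 ^ 9 + (p 0 2 * p 2 2 ^ 9) ^ 9), p 0 3, p 2 4, p 0 4, p 2 3] := by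
  have e0 := herm_exp' c.four.herm 0 0
  have e2 := herm_exp' c.four.herm 2 2
  rw [if_neg (by decide)] at e0 e2
  rw [c.sym 1 0, c.sym 2 0, c.sym 3 0, c.sym 4 0] at e0
  rw [c.sym 2 1, c.sym 2 0, c.sym 3 2, c.sym 4 2] at e2
  have a1 : (p 0 0 * p 0 2 ^ 9) ^ 9 = p 0 0 ^ 9 * p 0 2 := by
    have : (p 0 0 * p 0 2 ^ 9) ^ 9 = p 0 0 ^ 9 * p 0 2 ^ 81 := by ring
    rw [this, c.p81]
  have a2 : (p 0 2 * p 2 2 ^ 9) ^ 9 = p 0 2 ^ 9 * p 2 2 := by
    have : (p 0 2 * p 2 2 ^ 9) ^ 9 = p 0 2 ^ 9 * p 2 2 ^ 81 := by ring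
    rw [this, c.p81]
  have a3 : (p 0 3 * p 0 4 ^ 9) ^ 9 = p 0 3 ^ 9 * p 0 4 := by
    have : (p 0 3 * p 0 4 ^ 9) ^ 9 = p 0 3 ^ 9 * p 0 4 ^ 81 := by ring
    rw [this, c.p81]
  have a4 : (p 2 3 * p 2 4 ^ 9) ^ 9 = p 2 3 ^ 9 * p 2 4 := by
    have : (p 2 3 * p 2 4 ^ 9) ^ 9 = p 2 3 ^ 9 * p 2 4 ^ 81 := by ring
    rw [this, c.p81]
  refine WP_df (x := p 0 3 * p 0 4 ^ 9) (congrArg (fun z => p 0 3 * z) (fr9 (p 0 4))) ?_
  refine WP_df (x := p 2 3 * p 2 4 ^ 9) (congrArg (fun z => p 2 3 * z) (fr9 (p 2 4))) ?_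
  refine WP_fl ?_ rfl ?_
  · intro e he
    simp only [List.mem_cons, List.not_mem_nil, or_false] at he
    rcases he with rfl | rfl
    · have : p 0 1 * p 0 1 ^ 9 + (p 0 0 * p 0 2 ^ 9 + (p 0 0 * p 0 2 ^ 9) ^ 9) -
          (p 0 3 * p 0 4 ^ 9 + ((p 0 3 * p 0 4 ^ 9) ^ 3) ^ 3) = 0 := by
        rw [fr9, a1, a3]
        linear_combination e0
      exact this
    · have : p 1 2 * p 1 2 ^ 9 + (p 0 2 * p 2 2 ^ 9 + (p 0 2 * p 2 2 ^ 9) ^ 9) -
          (p 2 3 * p 2 4 ^ 9 + ((p 2 3 * p 2 4 ^ 9) ^ 3) ^ 3) = 0 := by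
        rw [fr9, a2, a4]
        linear_combination e2
      exact this
  · refine WP_df (x := 0) rfl (WP_sel (ls' := LS3 q) ?_ h)
    rw [← hpq]
    show [p 0 0, p 0 2, p 2 2, p 0 3, p 2 3, 0, p 0 4, p 2 4, 0] = LS3 p
    rw [LS3, h13, h14]

/-- the choice of `q04`, `q23` -/
theorem wp_in (c : Ctx g q p m t) (hpq : p = q) (h13 : p 1 3 = 0) (h14 : p 1 4 = 0) (h : WS3 g q p t 0 0) :
    WP g (Sol g q) (.ksp (.k 35)
      (.or (.ex (.df .zero (.sel [0, 1, 2, 3, 4, 5, 6, 7, 9] plB3c)))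
        (.exn (.df .zero (.sel [0, 1, 2, 3, 4, 5, 6, 9, 7] plB3c))))
      (.exn (.df (.mul (.k 37) (.fr (.fr (.v 8)))) (.sel [0, 1, 2, 3, 4, 5, 6, 7, 9] plB3c)))) (K40 g p t 0 0)
      [p 0 2, p 0 0, p 2 2, p 0 1 * p 0 1 ^ 9 + (p 0 0 * p 0 2 ^ 9 + (p 0 0 * p 0 2 ^ 9) ^ 9),
        p 1 2 * p 1 2 ^ 9 + (p 0 2 * p 2 2 ^ 9 + (p 0 2 * p 2 2 ^ 9) ^ 9), p 0 3, p 2 4] := by
  have hB := wp_B3c c hpq h13 h14 h
  have hQ : QQ p 0 4 = p 0 4 * p 2 3 ^ 9 := rfl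
  refine WP_ksp (fun h0 => ?_) (fun h0 => ?_)
  · have h1 : p 0 4 * p 2 3 ^ 9 = 0 := h0
    by_cases h2 : p 2 3 = 0
    · refine WP_or_left (WP_ex (p 0 4) (c.p81 _ _) (WP_df (x := 0) rfl (WP_sel ?_ hB)))
      rw [h2]
      rfl
    · have h3 : p 0 4 = 0 := by
        rcases mul_eq_zero.1 h1 with h3 | h3
        · exact h3
        · exact absurd (pow_eq_zero_iff (by norm_num) |>.1 h3) h2
      refine WP_or_right (WP_exn (p 2 3) (pow80 (c.p81 _ _) h2) (WP_df (x := 0) rfl (WP_sel ?_ hB)))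
      rw [h3]
      rfl
  · have h1 : p 0 4 * p 2 3 ^ 9 ≠ 0 := h0
    refine WP_exn (p 0 4) (left_pow80 (c.p81 _ _) h1) (WP_df (x := p 2 3) ?_ (WP_sel rfl hB))
    have h2 : QQ p 0 4 ^ 9 * ((p 0 4 ^ 79) ^ 3) ^ 3 = p 2 3 := by
      rw [fr9, hQ]
      exact second (c.p81 _ _) (c.p81 _ _) h1
    exact h2

/-- **the WP lemma of `plBeta3`** -/
theorem wp_Beta3 (c : Ctx g q p m t) (hpq : p = q) (h13 : p 1 3 = 0) (h14 : p 1 4 = 0) (h : WS3 g q p t 0 0) :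
    WC g q p t plBeta3 := by
  have e0 := herm_exp' c.four.herm 1 0
  have e2 := herm_exp' c.four.herm 1 2
  rw [if_neg (by decide), h13, h14, c.sym 1 0, c.sym 2 0] at e0
  rw [if_neg (by decide), h13, h14, c.sym 1 0] at e2
  have z9 : (0 : F) ^ 9 = 0 := zero_pow (by norm_num)
  rw [z9] at e0 e2
  have hI := wp_in c hpq h13 h14 h
  have hQ : QQ p 0 3 = p 0 3 * p 2 4 ^ 9 := rfl
  refine WP_fl (ls' := [p 0 2, p 0 0, p 2 2, p 0 1 * p 0 1 ^ 9 + (p 0 0 * p 0 2 ^ 9 + (p 0 0 * p 0 2 ^ 9) ^ 9),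
        p 1 2 * p 1 2 ^ 9 + (p 0 2 * p 2 2 ^ 9 + (p 0 2 * p 2 2 ^ 9) ^ 9)]) ?_ rfl ?_
  · intro e he
    simp only [List.mem_cons, List.not_mem_nil, or_false] at he
    rcases he with rfl | rfl
    · have : p 0 0 * p 1 2 ^ 9 + p 0 1 * p 1 1 ^ 9 + p 0 2 * p 0 1 ^ 9 = 0 := by linear_combination e0
      exact this
    · have : p 0 2 * p 1 2 ^ 9 + p 1 2 * p 1 1 ^ 9 + p 2 2 * p 0 1 ^ 9 = 0 := by linear_combination e2
      exact this
  obtain ⟨e, he, hev⟩ : ∃ e ∈ ([.zero, (.pw 0), (.neg (.pw 0))] : List Ex), e.eval g (K33 g p t) [] = t 8 := by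
    rcases c.tr 8 with h8 | h8 | h8
    · exact ⟨.zero, by simp, h8.symm⟩
    · exact ⟨.pw 0, by simp, (pow_zero g).trans h8.symm⟩
    · exact ⟨.neg (.pw 0), by simp, (congrArg Neg.neg (pow_zero g)).trans h8.symm⟩
  refine WP_alt e he hev ?_
  dsimp only [K33, K29, List.cons_append, List.nil_append]
  refine WP_kf (x := QQ p 0 3) c.Q03.symm ?_
  dsimp only [List.cons_append, List.nil_append]
  refine WP_kf (x := QQ p 0 4) c.Q04.symm ?_
  dsimp only [List.cons_append, List.nil_append]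
  refine WP_kf (x := QQ p 0 3 ^ 9) (fr9 (QQ p 0 3)) ?_
  dsimp only [List.cons_append, List.nil_append]
  refine WP_kf (x := QQ p 0 4 ^ 9) (fr9 (QQ p 0 4)) ?_
  dsimp only [List.cons_append, List.nil_append]
  refine WP_kf (x := 0) rfl ?_
  dsimp only [List.cons_append, List.nil_append]
  refine WP_kf (x := 0) rfl ?_
  dsimp only [List.cons_append, List.nil_append]
  refine WP_ksp (fun h0 => ?_) (fun h0 => ?_)
  · have h1 : p 0 3 * p 2 4 ^ 9 = 0 := h0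
    by_cases h2 : p 2 4 = 0
    · refine WP_or_left (WP_ex (p 0 3) (c.p81 _ _) (WP_df (x := 0) rfl ((WP_sel ?_ hI :))))
      rw [h2]
      rfl
    · have h3 : p 0 3 = 0 := by
        rcases mul_eq_zero.1 h1 with h3 | h3
        · exact h3
        · exact absurd (pow_eq_zero_iff (by norm_num) |>.1 h3) h2
      refine WP_or_right (WP_exn (p 2 4) (pow80 (c.p81 _ _) h2) (WP_df (x := 0) rfl (WP_sel ?_ hI)))
      rw [h3]
      rfl
  · have h1 : p 0 3 * p 2 4 ^ 9 ≠ 0 := h0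
    refine WP_exn (p 0 3) (left_pow80 (c.p81 _ _) h1) (WP_df (x := p 2 4) ?_ (WP_sel rfl hI))
    have h2 : QQ p 0 3 ^ 9 * ((p 0 3 ^ 79) ^ 3) ^ 3 = p 2 4 := by
      rw [fr9, hQ]
      exact second (c.p81 _ _) (c.p81 _ _) h1
    exact h2

end
end Cfsg.Agent.H239.P9
end

-- part: H518/P9/Stage
section
/-!
# S5925, box H: the WP lemmas of the stages `plT*`, `plL*`, `plC*` (helper518)

`wp_Ca`, `wp_Cb1`, `wp_Cb2`, `wp_Cb3`, `wp_Ca0`, `wp_Cb10`, `wp_Cb20`, `wp_Cz` (plan v3).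
-/

set_option autoImplicit false
set_option linter.style.longLine false

namespace Cfsg.Agent.H518.P9
open Matrix Cfsg.Agent.H879.E83 Cfsg.Agent.H780.P9

section
variable {F : Type*} [Field F] {g : F} {q p : Mt F} {m : F} {t : Fin 10 → F} {A : Plan}

/-- scalars 0 .. 18 -/
def K19 (g : F) (p : Mt F) (t : Fin 10 → F) : List F :=
  [t 0, t 1, t 2, t 3, t 4, t 5, t 6, QQ p 0 1, QQ p 1 3, QQ p 1 1, B02 t, B00 g t, B03 g t, B04 g t,
   p 1 1, p 0 1, p 1 2, p 1 3, p 1 4]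

/-- the lanes stage with continuation `A` -/
def stT (A : Plan) : Plan :=
  (.df (.add (.add (.mul (.v 1) (.k 21)) (.k 25)) (.mul (.v 0) (.k 20)))
  (.df (.add (.add (.mul (.v 0) (.k 21)) (.k 26)) (.mul (.v 2) (.k 20)))
  (.df (.mul (.v 1) (.fr (.fr (.v 0))))
  (.df (.mul (.v 0) (.fr (.fr (.v 2))))
  (.df (.add (.k 27) (.add (.v 5) (.fr (.fr (.v 5)))))
  (.df (.add (.k 28) (.add (.v 6) (.fr (.fr (.v 6)))))
  (.sel [0, 1, 2, 3, 4, 7, 8]
  A)))))))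

/-- the stage with continuation `A` -/
def stL (A : Plan) : Plan :=
  (.alt [.zero, (.pw 0), (.neg (.pw 0))]
  (.kf (.add (.k 10) (.mul (.pw 20) (.k 29)))
  (.kf (.add (.k 11) (.mul (.pw 60) (.k 29)))
  (.kf (.fr (.fr (.k 31)))
  (.ex (.fl [(.sub (.mul (.v 0) (.fr (.fr (.v 0)))) (.k 30))] [0]
  (.ksp (.k 31)
  (.or (.ex (.df .zero
  (.sel [0, 1, 3]
  A)))
  (.exn (.df .zero
  (.sel [0, 3, 1]
  A))))
  (.exn (.df (.mul (.k 32) (.fr (.fr (.v 2))))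
  (.sel [0, 1, 3]
  A))))))))))

/-- the constants -/
def stC (A : Plan) : Plan :=
  (.kf (.fr (.fr (.k 14)))
  (.kf (.fr (.fr (.k 15)))
  (.kf (.fr (.fr (.k 16)))
  (.kf (.fr (.fr (.k 17)))
  (.kf (.fr (.fr (.k 18)))
  (.kf (.mul (.k 23) (.mul (.mul (.mul (.fr (.k 23)) (.fr (.fr (.k 23)))) (.fr (.fr (.fr (.k 23))))) (.mul (.mul (.fr (.k 23)) (.fr (.fr (.k 23)))) (.fr (.fr (.fr (.k 23)))))))
  (.kf (.mul (.k 15) (.k 19))
  (.kf (.mul (.k 16) (.k 19))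
  (.kf (.mul (.k 15) (.k 20))
  (.kf (.mul (.k 16) (.k 21))
  A))))))))))

theorem p9 (x : F) : (x ^ 3) ^ 3 = x ^ 9 := (pow_mul x 3 3).symm

theorem wp_stT (h : WC g q p t A) : WP g (Sol g q) (stT A) (K33 g p t) [p 0 2, p 0 0, p 2 2] := by
  refine WP_df (x := p 0 0 * p 1 2 ^ 9 + p 0 1 * p 1 1 ^ 9 + p 0 2 * p 0 1 ^ 9) rfl ?_
  dsimp only [List.cons_append, List.nil_append]
  refine WP_df (x := p 0 2 * p 1 2 ^ 9 + p 1 2 * p 1 1 ^ 9 + p 2 2 * p 0 1 ^ 9) rfl ?_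
  dsimp only [List.cons_append, List.nil_append]
  refine WP_df (x := p 0 0 * p 0 2 ^ 9) ?_ ?_
  · show p 0 0 * (p 0 2 ^ 3) ^ 3 = _
    rw [p9]
  dsimp only [List.cons_append, List.nil_append]
  refine WP_df (x := p 0 2 * p 2 2 ^ 9) ?_ ?_
  · show p 0 2 * (p 2 2 ^ 3) ^ 3 = _
    rw [p9]
  dsimp only [List.cons_append, List.nil_append]
  refine WP_df (x := p 0 1 * p 0 1 ^ 9 + (p 0 0 * p 0 2 ^ 9 + (p 0 0 * p 0 2 ^ 9) ^ 9)) ?_ ?_
  · show p 0 1 * p 0 1 ^ 9 + (p 0 0 * p 0 2 ^ 9 + ((p 0 0 * p 0 2 ^ 9) ^ 3) ^ 3) = _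
    rw [p9]
  dsimp only [List.cons_append, List.nil_append]
  refine WP_df (x := p 1 2 * p 1 2 ^ 9 + (p 0 2 * p 2 2 ^ 9 + (p 0 2 * p 2 2 ^ 9) ^ 9)) ?_ ?_
  · show p 1 2 * p 1 2 ^ 9 + (p 0 2 * p 2 2 ^ 9 + ((p 0 2 * p 2 2 ^ 9) ^ 3) ^ 3) = _
    rw [p9]
  dsimp only [List.cons_append, List.nil_append]
  exact WP_sel (ls' := LC p) rfl h

theorem exists_tr {x : F} (h : x = 0 ∨ x = 1 ∨ x = -1) (ks ls : List F) :
    ∃ e ∈ ([.zero, (.pw 0), (.neg (.pw 0))] : List Ex), e.eval g ks ls = x := by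
  rcases h with rfl | rfl | rfl
  · exact ⟨.zero, by simp, rfl⟩
  · exact ⟨.pw 0, by simp, pow_zero g⟩
  · exact ⟨.neg (.pw 0), by simp, congrArg Neg.neg (pow_zero g)⟩

theorem pow80 (c : Ctx g q p m t) {a b : Fin 5} (h : p a b ≠ 0) : p a b ^ 80 = 1 := pow80_of (c.p81 a b) h

theorem wp_stL (c : Ctx g q p m t) (h : WP g (Sol g q) A (K33 g p t) [p 0 2, p 0 0, p 2 2]) :
    WP g (Sol g q) (stL A) (K29 g p t) [] := by
  obtain ⟨e, he, hx⟩ := exists_tr (g := g) (c.tr 7) (K29 g p t) []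
  refine WP_alt e he hx ?_
  dsimp only [K29, List.cons_append, List.nil_append]
  refine WP_kf (x := QQ p 0 2) c.Q02.symm ?_
  dsimp only [List.cons_append, List.nil_append]
  refine WP_kf (x := QQ p 0 0) c.Q00.symm ?_
  dsimp only [List.cons_append, List.nil_append]
  refine WP_kf (x := QQ p 0 0 ^ 9) (p9 _) ?_
  dsimp only [List.cons_append, List.nil_append]
  refine WP_ex (p 0 2) (c.p81 0 2) ?_
  dsimp only [List.cons_append, List.nil_append]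
  refine WP_fl (ls' := [p 0 2]) ?_ rfl ?_
  · intro d hd
    rw [List.mem_singleton] at hd
    subst hd
    show p 0 2 * (p 0 2 ^ 3) ^ 3 - p 0 2 * p 2 0 ^ 9 = 0
    rw [p9, c.sym 2 0, sub_self]
  have e0 : QQ p 0 0 = p 0 0 * p 2 2 ^ 9 := rfl
  refine WP_ksp ?_ ?_
  · intro h0
    have h1 : p 0 0 * p 2 2 ^ 9 = 0 := h0
    by_cases h2 : p 2 2 = 0
    · refine WP_or_left (WP_ex (p 0 0) (c.p81 0 0) (WP_df (x := 0) rfl (WP_sel (ls' := [p 0 2, p 0 0, p 2 2]) ?_ h)))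
      rw [h2]; rfl
    · have h3 : p 0 0 = 0 := (mul_eq_zero.1 h1).resolve_right (pow_ne_zero _ h2)
      refine WP_or_right (WP_exn (p 2 2) (pow80 c h2) (WP_df (x := 0) rfl (WP_sel (ls' := [p 0 2, p 0 0, p 2 2]) ?_ h)))
      rw [h3]; rfl
  · intro h0
    have h1 : p 0 0 * p 2 2 ^ 9 ≠ 0 := h0
    have h2 : p 0 0 ≠ 0 := left_ne_zero_of_mul h1
    refine WP_exn (p 0 0) (pow80 c h2) (WP_df (x := p 2 2) ?_ (WP_sel (ls' := [p 0 2, p 0 0, p 2 2]) rfl h))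
    show (p 0 0 * p 2 2 ^ 9) ^ 9 * ((p 0 0 ^ 79) ^ 3) ^ 3 = p 2 2
    calc (p 0 0 * p 2 2 ^ 9) ^ 9 * ((p 0 0 ^ 79) ^ 3) ^ 3 = (p 0 0 ^ 80) ^ 9 * p 2 2 ^ 81 := by ring
      _ = p 2 2 := by rw [pow80 c h2, one_pow, one_mul, c.p81]

theorem wp_stC (h : WP g (Sol g q) A (K29 g p t) []) : WP g (Sol g q) (stC A) (K19 g p t) [] := by
  unfold K19
  refine WP_kf (x := p 1 1 ^ 9) (p9 _) ?_
  dsimp only [List.cons_append, List.nil_append]
  refine WP_kf (x := p 0 1 ^ 9) (p9 _) ?_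
  dsimp only [List.cons_append, List.nil_append]
  refine WP_kf (x := p 1 2 ^ 9) (p9 _) ?_
  dsimp only [List.cons_append, List.nil_append]
  refine WP_kf (x := p 1 3 ^ 9) (p9 _) ?_
  dsimp only [List.cons_append, List.nil_append]
  refine WP_kf (x := p 1 4 ^ 9) (p9 _) ?_
  dsimp only [List.cons_append, List.nil_append]
  refine WP_kf (x := (p 1 4 ^ 9) ^ 79) ?_ ?_
  · show (p 1 4 ^ 9) * ((((p 1 4 ^ 9) ^ 3) * (((p 1 4 ^ 9) ^ 3) ^ 3)) * ((((p 1 4 ^ 9) ^ 3) ^ 3) ^ 3) *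
      ((((p 1 4 ^ 9) ^ 3) * (((p 1 4 ^ 9) ^ 3) ^ 3)) * ((((p 1 4 ^ 9) ^ 3) ^ 3) ^ 3))) = _
    generalize p 1 4 ^ 9 = y
    ring
  dsimp only [List.cons_append, List.nil_append]
  refine WP_kf (x := p 0 1 * p 1 1 ^ 9) rfl ?_
  dsimp only [List.cons_append, List.nil_append]
  refine WP_kf (x := p 1 2 * p 1 1 ^ 9) rfl ?_
  dsimp only [List.cons_append, List.nil_append]
  refine WP_kf (x := p 0 1 * p 0 1 ^ 9) rfl ?_
  dsimp only [List.cons_append, List.nil_append]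
  exact WP_kf (x := p 1 2 * p 1 2 ^ 9) rfl h

theorem wp_st (c : Ctx g q p m t) (h : WC g q p t A) : WP g (Sol g q) (stC (stL (stT A))) (K19 g p t) [] :=
  wp_stC (wp_stL c (wp_stT h))

theorem wp_Ca (c : Ctx g q p m t) (h : WC g q p t plAlpha) : WP g (Sol g q) plCa (K19 g p t) [] := wp_st c h
theorem wp_Cb1 (c : Ctx g q p m t) (h : WC g q p t plBeta1) : WP g (Sol g q) plCb1 (K19 g p t) [] := wp_st c h
theorem wp_Cb2 (c : Ctx g q p m t) (h : WC g q p t plBeta2) : WP g (Sol g q) plCb2 (K19 g p t) [] := wp_st c h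
theorem wp_Cb3 (c : Ctx g q p m t) (h : WC g q p t plBeta3) : WP g (Sol g q) plCb3 (K19 g p t) [] := wp_st c h
theorem wp_Ca0 (c : Ctx g q p m t) (h : WC g q p t plAlpha0) : WP g (Sol g q) plCa0 (K19 g p t) [] := wp_st c h
theorem wp_Cb10 (c : Ctx g q p m t) (h : WC g q p t plBeta10) : WP g (Sol g q) plCb10 (K19 g p t) [] := wp_st c h
theorem wp_Cb20 (c : Ctx g q p m t) (h : WC g q p t plBeta20) : WP g (Sol g q) plCb20 (K19 g p t) [] := wp_st c h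
theorem wp_Cz (c : Ctx g q p m t) (h : WC g q p t plZ0) : WP g (Sol g q) plCz (K19 g p t) [] := wp_st c h

end
end Cfsg.Agent.H518.P9
end

-- part: H780/P9/All
section
/-!
# S5925, box H: all the WP lemmas together (helper780)
-/

set_option autoImplicit false
set_option linter.style.longLine false

namespace Cfsg.Agent.H780.P9
open Matrix Cfsg.Agent.H879.E83

theorem wps {F : Type*} [Field F] (g : F) : WPs g where
  D1 c x y s := Cfsg.Agent.H861.P9.wp_D1 c x y s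
  S3 c x y h := Cfsg.Agent.H879.E83.wp_S3 c x y h
  S2 c h := Cfsg.Agent.H377.P9.wp_S2 c h
  S2i c h13 hq h := Cfsg.Agent.H377.P9.wp_S2i c h13 hq h
  S2j c h14 hq h := Cfsg.Agent.H377.P9.wp_S2j c h14 hq h
  Alpha c h13 h14 h := Cfsg.Agent.H908.P9.wp_Alpha c h13 h14 h
  Alpha0 c h13 h14 h := Cfsg.Agent.H908.P9.wp_Alpha0 c h13 h14 h
  Beta1 c h13 h14 h := Cfsg.Agent.H51.P9.wp_Beta1 c h13 h14 h
  Beta10 c h13 h14 h := Cfsg.Agent.H51.P9.wp_Beta10 c h13 h14 h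
  Beta2 c h13 h14 h := Cfsg.Agent.H51.P9.wp_Beta2 c h13 h14 h
  Beta20 c h13 h14 h := Cfsg.Agent.H51.P9.wp_Beta20 c h13 h14 h
  Beta3 c hpq h13 h14 h := Cfsg.Agent.H239.P9.wp_Beta3 c hpq h13 h14 h
  Z0 c hpq h01 h12 h13 h14 hn h := Cfsg.Agent.H277.P9.wp_Z0 c hpq h01 h12 h13 h14 hn h
  Ca c h := Cfsg.Agent.H518.P9.wp_Ca c h
  Cb1 c h := Cfsg.Agent.H518.P9.wp_Cb1 c h
  Cb2 c h := Cfsg.Agent.H518.P9.wp_Cb2 c h
  Cb3 c h := Cfsg.Agent.H518.P9.wp_Cb3 c h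
  Ca0 c h := Cfsg.Agent.H518.P9.wp_Ca0 c h
  Cb10 c h := Cfsg.Agent.H518.P9.wp_Cb10 c h
  Cb20 c h := Cfsg.Agent.H518.P9.wp_Cb20 c h
  Cz c h := Cfsg.Agent.H518.P9.wp_Cz c h

/-- **box H from the soundness of the runs alone** -/
theorem search_of_snd {F : Type*} [Field F] [CharP F 3] {g : F} (hg : g ^ 4 = 1 - g)
    (snd : ∀ (ks : List F) (G : Prop), ks.length = 7 → (∀ x ∈ ks, x = 0 ∨ x = 1 ∨ x = -1) →
      Cfsg.Agent.H728.PM.Plan.WP g Cfsg.Agent.H136.P9.plan ks [] G → G)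
    (q : Mt F) (h : PNine g q) : Cfsg.Agent.H947.P9.Concl g q := by
  refine (wps g).search hg (fun t G ht hw => snd [t 0, t 1, t 2, t 3, t 4, t 5, t 6] G rfl ?_ hw) q h
  intro x hx
  simp only [List.mem_cons, List.not_mem_nil, or_false] at hx
  rcases hx with rfl | rfl | rfl | rfl | rfl | rfl | rfl
  all_goals exact ht _

end Cfsg.Agent.H780.P9
end

private theorem dce_746a09bd4aa5 : _root_.True := by
  try have : _root_.True := by simp only [_root_.Cfsg.Agent.H780.P9.K38.eq_1]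
  try have : _root_.True := by simp only [_root_.Cfsg.Agent.H780.P9.K40.eq_1]
  try have : _root_.True := by simp only [_root_.Cfsg.Agent.H780.P9.LC.eq_1]
  try have : _root_.True := by simp only [_root_.Cfsg.Agent.H728.PM.Ex.eval.eq_7]
  try have : _root_.True := by simp only [_root_.Cfsg.Agent.H728.PM.Ex.eval.eq_9]
  try have : _root_.True := by simp only [_root_.Cfsg.Agent.H728.PM.Ex.eval.eq_3]
  try have : _root_.True := by simp only [_root_.Cfsg.Agent.H780.P9.K29.eq_1]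
  try have : _root_.True := by simp only [_root_.Cfsg.Agent.H728.PM.Ex.eval.eq_2]
  try have : _root_.True := by simp only [_root_.Cfsg.Agent.H728.PM.Ex.eval.eq_def]
  try have : _root_.True := by simp only [_root_.Cfsg.Agent.H728.PM.Ex.eval.eq_5]
  try have : _root_.True := by simp only [_root_.Cfsg.Agent.H728.PM.Ex.eval.eq_1]
  try have : _root_.True := by simp only [_root_.Cfsg.Agent.H780.P9.K51.eq_1]
  try have : _root_.True := by simp only [_root_.Cfsg.Agent.H728.PM.Ex.eval.eq_6]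
  try have : _root_.True := by simp only [_root_.Cfsg.Agent.H728.PM.Ex.eval.eq_4]
  try have : _root_.True := by simp only [_root_.Cfsg.Agent.H780.P9.K33.eq_1]
  try have : _root_.True := by simp only [_root_.Cfsg.Agent.H728.PM.Ex.eval.eq_8]
  exact _root_.True.intro
end

-- part: H238/E8/T0b
section
set_option linter.all false
open scoped Cfsg.Agent.FastGrp

-- part: H238/E8/RTabDef
section
/-!
# Tables of the simple reflections of `E₈` with signs (helper238)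

`rt i` packs `2 * reflectRoot i s + [sign]` (9 bits per entry, index `2 s + b`); `act_eq` : the action of a word on the
signed roots, evaluated on packed numbers.
-/

set_option autoImplicit false
set_option maxRecDepth 100000

namespace Cfsg.Agent.H238.E8.RTab

open Cfsg Cfsg.Lie Cfsg.Agent.H992.E8X
open Cfsg.Agent.ChevalleyStructure.NSimple (eta)

def r0 : ℕ := 0xeff7bbbdcedf6bb3d8ebf5babd4e170fa3d0e07077dbfde6f775bbdc6e76db7e9f4b9fcee6f3397cae4f238fc6e2f136bb4d9ecb63b0d7ebb5bacd5eab53a8d3e9b4ba4d1e8b43a0cfe7b3b9ccde6b3398cbe5b2b94c9e4b2390c7e3b1b8cc5e2b1388c3e1b0b84c1e0b0380bfdfafb7cbddeaf378bbddaeb74b9dcae370a1d0a83409fcfa7b3c9dcea73389bcda6b3499cca633097cba5b2c95caa532893c9a33188bc5a2b1489c4a231087c39349bb75bed96db55aed169b359ec965b158ec161af57eb95dad56eb159ab55ea955a954e4b2491c8a43208fc7a3b1c8dc6aa151a753e994da552e9149a351e1b0c85c2a130883c1a0b0481c0a03007fbf9fafc7dbe9f2f87bbd9ea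f479bc9e2f077bb9daec75ba9d2e873b99cae471b89c2e06fb79badc6db69b2d86bb59aad469b4930994b25d28954924d20914723d8ac461b0982c05faf97abc5dae9188d4522d10894321d08854120d00813f1fcf87d3d1ecf0793b1dce875391cce071a2515a2d067b399acc65b2992c863b1972b85bad96ab459ac962b057ab95aac55aa952a853a994aa451a8942a04fa793a9c379b8da6c359a8d26833998ca6431988c2602f978ba5c2d968b2582b958aa5429948a250279389a4c259289248239188a442190882401f8f87a3c1d8e872381b8d86a34198c86230178b85a2c158a8361a0c8602e160a8502612088401a0c140a44c27120944423100843c1f07838381d058281208038180a04018080200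
def r1 : ℕ := 0xeff7bbbdcedf6bb3d8ebf5ba1d1e773fabd4e9f4b9bcce5f2b93c8e3f1b8bc4e070787c2dfefb7bbcddeeb73b8dbedb6bb4d9ecb63b0d7ebb5baccb65f2995c964f2191c763f198dc562f1189c361f0985d5eab53a8d3e9b4ba4d1e8b43a0cfe7b3b9ccde6b3398c1e0b0380bfdfafb7cbddeaf378bbddaeb74b9dcae370b7dbadb6cb5daad368b3d9acb64b1d8ac360afd7abb5ca85469d4fa6536954ba4526b75aacd62af56aad52a752a3d1a8b44a1d0a83409fcfa7b3c9dcea73389bcda6b3499cca63308c4662d178a4562513884461b0c85c2a130883c1a0b04623165f2e96cb2572a94ca24f2687c3a49259148e41218f47e391d81c0a03007fbf9fafc7dbe9f2f87bbd9eaf479bc9e2f077bb9daec75ba9d2e873b99cae471b89c2e06fb79badc6130d80c15f2fd78bd5d2eda2d05cae16eb65aad166b258ac2351b6db69b2d86bb59aad469b499ccf6633594cb643258cc757ab95aac55aa952a853a994aa451a8942a04fa793a9c4da69329846a31168a44a210e8642a112c974a2552493482451c8f41a0902803f9f8fa7c3d9e8f2783b9d8ea74399c8e270379b8da6c359a8d26833998ca6431988c2602f978ba5c239188a442190882401f8f87a3c1d8e872381b8d86a342d16cb0592b15ca8552914ca0512713c984d2512c9049198c86230178b85a2c158a85228138984a241188842200e8703c1f0d86832180b8582a14098481a0c0582820110703c1208038180a04018080200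
def r2 : ℕ := 0xeff7bbbdcedf6bb3d8ebf5ba5d3eaf539dcfe8f439bcce5f2b93c8e3f1b8bc4e1f0b83c0da6d765b3d86c75dafd66b77fbedeef377badcee36fb6d5eab53a8d3e9b4ba4d1e8b43a0cfe7b3b9ccde6b3398cbe5b2b94c9e4b2390c7e3b1b8cc5e2b1388c3e1b0b84b75bed96db55aed169b359ec965b158ec161af57eb95dc1e0b0380bfdfafb7cbddeaf378bbddaeb74b9dcae370add6ab358abd5aab54a9d4aa350a7d3a9b4ca5d2a9348a25168f46a1d0a83409fcfa7b3c9dcea73389bcda6b3499cca6330924964523904863d1f8e4765f2e96cb2572a94ca24f268dc6a1b0c85c2a130883c1a0b046834631198b45e29158944e211181c0a03007fbf9fafc7dbe9f2f87bbd9eaf479bc9e2f077bb9daec75ba9d2e873b99cae471b89c2e06fb79badc6733d98cd6532d90c96331e1d0f6db69b2d86bb59aad469b498ac45cae16eb65aad166b258ac184c3603057cbf5e2f574bb57ab95aac55aa952a853a994aa451a8942a04fa793a9c4ca61349b4ba592a9449a49229047a391a8c45a29128843a190a84379b8da6c359a8d26833998ca6431988c2602f978ba5c4120d00813f1fcf87d3d1ecf0793b1dce875391cce0712d968b2582b958aa5429948a250279389a4c259289248239188a442190882401f8f87a3c1d8e872381b8d86a34148a04e26128904622108806433180c45c2f160b4542b0f8783a1c0d86832180b8582a14098481e0e08044160a060341208038180a04018080200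
def r3 : ℕ := 0xeff7bbbdcedf6bb3d8ea757afd6e9f4ba3d0e67379fcee5f2b93c8e3f1b8bc4e1f0b7dbfe0f037bbcddeeb73b8dbedb6bb4d56af51a9d369f49a5d9ecb63b0d7ebb5bacd1e8b43a0cfe7b3b9ccde6b3398cbe5b2b94c9e4b2390c160f0181bf5fef97dbd5eef179c7e3b1b8cc5e2b1388c3e1b0b84bbddaeb74b9dcae370b7dbadb6cb5daad368b3d9acb64ad56eb159ab55ea955b1d8ac360afd7abb5ca9d4aa350a7d3a9b4ca5d2a8d47a4d228b44a1d0a83409fcfa7b3c9dcea7338974be592d954ae51299bcda6b3499cca633093c9a4b2491c8a43208fc7a351b8ec7233188bc5a2b1489c4a1d0f88c42070280c01fefe7ebf1b4db86436150b844260d077dbe9f2f87bbd9eaf479bc9e2f077bb9daec75ba9d2e873b99cae46c365acd76a355a4d382415c6e270b81bede6eb719ece683459acc65b2992c863b1986c26231582c05faf97abc5dae972b857ab95aac55aa952a85b2dd68b5592cd60b153a994aa451a8942a04fa793a9c4da692e964c2652a9449a49229047a391a8c41a0902803f9f8fa7c4522d10894321d08853d9e8f2783b9d8ea74399c8e270379b8da6c359a8d2682d968b2582b958aa5429948a2503319cc8653118cc0612f17cb85d279389a4c259289248239188a442190882401f8f87a3c198c86230178b85a2c1d0ec70391b0dc6835158a85228138984a24118883e1e100843a1c0d86832180b8582a14088402413078381a0c04820140b038180a04018080200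
def r4 : ℕ := 0xeff7bbbdcedf6badd7ecf63abd4e9f4ba3d0e7f3b95cbe6f3393c8e3f1b8bc4e1f0b83c0de6f77fbeddeeb73b8dbedb65b3daed363b0d7ebb5bacd5eab45a3d06873d9fd4ea34fa6d2e933b9ccde6b3398cbe5b1d8fc6637158bcae532792c8e431388c3e1b0b84c1e0b0380bfdfaed77ba5d6e573bedf2f77abcde2e370b7dbadb6cb5daac563b0586bd5fb4da2cf66b2d92bb5cadd6ab358abd5aa553aad52a350a7d3a9b4ca4526974aa3d1a8b44a1d0a83409fcfa6d379a4d665339ecf2773a9cce2633097cba5b2c95caa4d2794ca24b2491c8a43208e4763f1e8dc6a33188bc5a2b1488446271287c3a1b0c85c2a1308824160f067dbe9f2f87bbd9c4e38140e01017f3fdeaf479bc9e2f077bb9daec75ba9c0e16f37db8dd7e3f5d2e873b99cae46cb61b4db6bb59aad469b49a2d066b319ccf65b2992c863b198ac460b0184c35faf97abc5dae96eb65c2e56ab459ac962b057ab94ea652a9146a2562b554ab542a542a04fa793a9c4da6932984aa512c9749a49229047a39168a46235128843a190a8441a08f67a3c9e0ee7640204fc7f3e1f4ea74399c8e270379b8ce6632990c662361b4d46b341a4c2602f978ba5c2d968b2582b9589e4e26930964a2a154a453281449248239188a4421908763a1c8e06e36201047c3f1e0f46a34198c86230178b8562a160b45228138984a241088044230f8783a1c0d86832180b85826120a0542210078381a0c058280e06040240a04018080200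
def r5 : ℕ := 0xeff7bbbdcec767b7daebf5babd4e9f4ba3d0e7f3b9bcce472797cae3f1b8bc4e1f0b83c0dfefb75bbdeef373b8dbedb6bb4d86c767b2d7ebb5bacd46a757aad3e9b4ba4d1e8b399dcd66f43a0cfe7b3398ca6572f96c9e4b2390c7e3b1189c361f1b8cc5e2b0b84c1e0af97dbd5ef0380bfdfaf378bbddaeb74b85c6e772b7dbad169b359edb6cb5daacb64b1d8ac360ae576bf5eadd6ab358aa556af56a9d4aa350a7d3a954ba6d329348a3d1a8b44a1d0a793d9d4ee83409fcfa73389bcda6b34984c6673297cba5b2c944a6572a93c9a4b2491c8a3d1f90c823b1c8dc6a33188bc5a25138ac52231087c3a1b0c85c2a0d0784c220b0481c0a03007e3f5fefe7abd1e6f2743a5f4fb7c3e5e2f077bb9cce772395ecf776bb1d6ea70b81c4e36fb79badc6db69aed66c365aad469b49a2d067b3996ca6633592c863b198ac461b097ebe603057abc5dae972b85aad16cb759ac962b056ab15caf55aa952a853a9942a04fa7948a55128d3a9c4da6932984ba5926924a255229047a391a8c44a21148b43a190a8440a0104833f9f8fa7c3d9e8ea74399c8f0793b1dce270369b0dc6f359a8d26833998c2602f978c8653118cba5c2d968aa5429948b0592b15ca250279389a4c24920944b2391882401f8f888452110c7a3c1d8e872381a8d06c37198c86230168b05c2f158a852281389846221209442200f8783a1c0d86832180a8502c17098482210078381a0c058281208028100c07018080200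
def r6 : ℕ := 0xeff7bb5dbeef73b3d8ebf5babd4e9f4ba3d0e7f3b9bcce5f2b8dc7e4f238bc4e1f0b83c0dfefb7bbcdc6e777badbedb6bb4d9ecb5dafd8ec35bacd5eab4da7d4ea34ba4d068747a2cfe7b3b9ccc667379acbe5b2593cae532390c66371f8ec5e2b1388c26170f86c06070782bfdfafb7cbc5e6f77abbddae573badd2e370b65b6df6eb5daad368b2596cf66b1d8abd5fb0d82bb5cadd6aad57acd62ab54a9d4aa350a65369f4ea5d2a9348a3d1a8b44a050687429fcfa7b3c9c4e6773a9bcda65339acd2633097cba552b96cb2532893c9a4b249048647228fc7a3b1c8dc6a33188a4562f1689c4a231087c3a1b0c84426170a83c1a0b0481c09fcff80c01fafc7dbe9ecf77cbe1e2f0763b5e8f5753ade4f377bb9cee6743a5cae471b89bede70385badc6db69b2d86ab51acd769b49a2d067b399acc64b2194cb63b198ac461b0982c05eaf17cbf5dae972b85bad966b25a2d562b057ab956aa562b552a852a914ca751a8942a04ea713c9f4da6932984ba592a9448a41249347a391a8c45a290e86442250a8441a08fe7e40204fa7c3c9e0f47b3b9d8ea74389c0e473379b8d66a361b4d26832990cc6731988c2602e970bc5f2c960b45b2b958aa5428940a45327938964a261349248229108c472190882401e8f07c3f1d8e86e361c0e46a34198c85e2e180c45a2c158a85228128904c271188842200f8783a1c0d8682e160c0642a14098482210078381a0c058281208038180602020140200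
def r7 : ℕ := 0xee777bfdeedf6bb3d8ebf5babd4e9f4ba3d0e7f3b9bcce5f2b93c8e27178fc6e1f0b83c0dfefb7bbcddeeb6db7dcee36bb4d9ecb63b0d66b75faed5eab53a8d26974fa6d1e8b3d9fd0e83359bcee733398cbe5b2b94c86472792c7e3b158bc6e330d87c4e230b84c1e0afd7fc0e02f57bbedf2f378ba5d6ef76b9dcae370b7dbad56bb6db2cd67b4da2cb64b0586c762afd7abb5cac566b75aabd5aab54a9d4a9d4fa8d429b4ca5d2a9348a3d1a8b44a1d0a7d3fa0d02753b9ecf273389a4d66f3699cca6330964b65f2e95caa532893c9a452392c9243208fc7a3b1c8dc6a2d178cc622b1489c4a231087c3a150b86c32130883c1a0b048040607027fbf9fafc7c3e5f6fa7bbd9e4f37abd1dcef783c5d6ea763b5d2e872b91cce771b89c2e06eb71bcdf6db69b2d86bb59a6d26a355a2d067b399acc65b298ec6643258ac461b0982c05faf976ba5e2f572b85bad96ab458ac164b357ab95aac54aa154ab53a9946a2522953e9e502853a9c4da6932984ba592a9449a491e8e482451a8c45a29128842a110c8741a0902803e9f0fc7f3d9e8ee763c1e4e6723a1d4e270379b8da6c349a0d46b33998c66232194be5e30184ba5c2d968ae562c164a6522a154a250269309c4f259289248239188642221147e3e201047a3c1c8e0743b1b8d86a34188c06433178b85a2c158a84e26140a44a241188842200f8783a1c0c860341b0b8582a14098482210078381a0c058281208038180a04008000403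

/-- the packed row of the reflection `i` -/
def row : ℕ → ℕ
  | 0 => r0
  | 1 => r1
  | 2 => r2
  | 3 => r3
  | 4 => r4
  | 5 => r5
  | 6 => r6
  | 7 => r7
  | _ => 0

def ent (R n : ℕ) : ℕ := (R >>> (9 * n)) % 512

/-- the root of a packed number -/
def dr (n : ℕ) : ℕ := n / 2
/-- the sign of a packed number -/
def ds (n : ℕ) : ℤ := if n % 2 = 0 then 1 else -1

/-- the action of a word -/
def run : List ℕ → ℕ → ℕ
  | [], n => n
  | i :: l, n => ent (row i) (run l n)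

end Cfsg.Agent.H238.E8.RTab
end

-- part: H238/E8/RTabA
section
/-!
# Check of the tables of the simple reflections of `E₈` with signs (helper238)

`rt i` packs `2 * reflectRoot i s + [sign]` (9 bits per entry, index `2 s + b`); `act_eq` : the action of a word on the
signed roots, evaluated on packed numbers.
-/

set_option autoImplicit false
set_option maxRecDepth 100000

namespace Cfsg.Agent.H238.E8.RTab

open Cfsg Cfsg.Lie Cfsg.Agent.H992.E8X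
open Cfsg.Agent.ChevalleyStructure.NSimple (eta)

theorem t0 : ∀ s : Fin 240, chevE8.reflectRoot 0 s.val = dr (ent r0 (2 * s.val)) ∧
    eta chevE8 0 s.val = ds (ent r0 (2 * s.val)) ∧ dr (ent r0 (2 * s.val + 1)) = dr (ent r0 (2 * s.val)) ∧
    ds (ent r0 (2 * s.val + 1)) = -ds (ent r0 (2 * s.val)) := by (delta Cfsg.Agent.ChevalleyStructure.NSimple.eta Cfsg.Lie.ChevalleyDatum.chainM Cfsg.Lie.ChevalleyDatum.chainRoot Cfsg.Lie.ChevalleyDatum.reflectRoot; rewrite [Cfsg.Agent.ChevFast.E8.cartan, Cfsg.Agent.ChevFast.E8.chainEntry, Cfsg.Agent.ChevFast.E8.neg]; decide +kernel)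

theorem t1 : ∀ s : Fin 240, chevE8.reflectRoot 1 s.val = dr (ent r1 (2 * s.val)) ∧
    eta chevE8 1 s.val = ds (ent r1 (2 * s.val)) ∧ dr (ent r1 (2 * s.val + 1)) = dr (ent r1 (2 * s.val)) ∧
    ds (ent r1 (2 * s.val + 1)) = -ds (ent r1 (2 * s.val)) := by (delta Cfsg.Agent.ChevalleyStructure.NSimple.eta Cfsg.Lie.ChevalleyDatum.chainM Cfsg.Lie.ChevalleyDatum.chainRoot Cfsg.Lie.ChevalleyDatum.reflectRoot; rewrite [Cfsg.Agent.ChevFast.E8.cartan, Cfsg.Agent.ChevFast.E8.chainEntry, Cfsg.Agent.ChevFast.E8.neg]; decide +kernel)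

end Cfsg.Agent.H238.E8.RTab
end

-- part: H238/E8/RTabB
section
/-!
# Check of the tables of the simple reflections of `E₈` with signs (helper238)

`rt i` packs `2 * reflectRoot i s + [sign]` (9 bits per entry, index `2 s + b`); `act_eq` : the action of a word on the
signed roots, evaluated on packed numbers.
-/

set_option autoImplicit false
set_option maxRecDepth 100000

namespace Cfsg.Agent.H238.E8.RTab

open Cfsg Cfsg.Lie Cfsg.Agent.H992.E8X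
open Cfsg.Agent.ChevalleyStructure.NSimple (eta)

theorem t2 : ∀ s : Fin 240, chevE8.reflectRoot 2 s.val = dr (ent r2 (2 * s.val)) ∧
    eta chevE8 2 s.val = ds (ent r2 (2 * s.val)) ∧ dr (ent r2 (2 * s.val + 1)) = dr (ent r2 (2 * s.val)) ∧
    ds (ent r2 (2 * s.val + 1)) = -ds (ent r2 (2 * s.val)) := by (delta Cfsg.Agent.ChevalleyStructure.NSimple.eta Cfsg.Lie.ChevalleyDatum.chainM Cfsg.Lie.ChevalleyDatum.chainRoot Cfsg.Lie.ChevalleyDatum.reflectRoot; rewrite [Cfsg.Agent.ChevFast.E8.cartan, Cfsg.Agent.ChevFast.E8.chainEntry, Cfsg.Agent.ChevFast.E8.neg]; decide +kernel)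

theorem t3 : ∀ s : Fin 240, chevE8.reflectRoot 3 s.val = dr (ent r3 (2 * s.val)) ∧
    eta chevE8 3 s.val = ds (ent r3 (2 * s.val)) ∧ dr (ent r3 (2 * s.val + 1)) = dr (ent r3 (2 * s.val)) ∧
    ds (ent r3 (2 * s.val + 1)) = -ds (ent r3 (2 * s.val)) := by (delta Cfsg.Agent.ChevalleyStructure.NSimple.eta Cfsg.Lie.ChevalleyDatum.chainM Cfsg.Lie.ChevalleyDatum.chainRoot Cfsg.Lie.ChevalleyDatum.reflectRoot; rewrite [Cfsg.Agent.ChevFast.E8.cartan, Cfsg.Agent.ChevFast.E8.chainEntry, Cfsg.Agent.ChevFast.E8.neg]; decide +kernel)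

end Cfsg.Agent.H238.E8.RTab
end

-- part: H238/E8/RTabC
section
/-!
# Check of the tables of the simple reflections of `E₈` with signs (helper238)

`rt i` packs `2 * reflectRoot i s + [sign]` (9 bits per entry, index `2 s + b`); `act_eq` : the action of a word on the
signed roots, evaluated on packed numbers.
-/

set_option autoImplicit false
set_option maxRecDepth 100000

namespace Cfsg.Agent.H238.E8.RTab

open Cfsg Cfsg.Lie Cfsg.Agent.H992.E8X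
open Cfsg.Agent.ChevalleyStructure.NSimple (eta)

theorem t4 : ∀ s : Fin 240, chevE8.reflectRoot 4 s.val = dr (ent r4 (2 * s.val)) ∧
    eta chevE8 4 s.val = ds (ent r4 (2 * s.val)) ∧ dr (ent r4 (2 * s.val + 1)) = dr (ent r4 (2 * s.val)) ∧
    ds (ent r4 (2 * s.val + 1)) = -ds (ent r4 (2 * s.val)) := by (delta Cfsg.Agent.ChevalleyStructure.NSimple.eta Cfsg.Lie.ChevalleyDatum.chainM Cfsg.Lie.ChevalleyDatum.chainRoot Cfsg.Lie.ChevalleyDatum.reflectRoot; rewrite [Cfsg.Agent.ChevFast.E8.cartan, Cfsg.Agent.ChevFast.E8.chainEntry, Cfsg.Agent.ChevFast.E8.neg]; decide +kernel)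

theorem t5 : ∀ s : Fin 240, chevE8.reflectRoot 5 s.val = dr (ent r5 (2 * s.val)) ∧
    eta chevE8 5 s.val = ds (ent r5 (2 * s.val)) ∧ dr (ent r5 (2 * s.val + 1)) = dr (ent r5 (2 * s.val)) ∧
    ds (ent r5 (2 * s.val + 1)) = -ds (ent r5 (2 * s.val)) := by (delta Cfsg.Agent.ChevalleyStructure.NSimple.eta Cfsg.Lie.ChevalleyDatum.chainM Cfsg.Lie.ChevalleyDatum.chainRoot Cfsg.Lie.ChevalleyDatum.reflectRoot; rewrite [Cfsg.Agent.ChevFast.E8.cartan, Cfsg.Agent.ChevFast.E8.chainEntry, Cfsg.Agent.ChevFast.E8.neg]; decide +kernel)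

end Cfsg.Agent.H238.E8.RTab
end

-- part: H238/E8/RTabD
section
/-!
# Check of the tables of the simple reflections of `E₈` with signs (helper238)

`rt i` packs `2 * reflectRoot i s + [sign]` (9 bits per entry, index `2 s + b`); `act_eq` : the action of a word on the
signed roots, evaluated on packed numbers.
-/

set_option autoImplicit false
set_option maxRecDepth 100000

namespace Cfsg.Agent.H238.E8.RTab

open Cfsg Cfsg.Lie Cfsg.Agent.H992.E8X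
open Cfsg.Agent.ChevalleyStructure.NSimple (eta)

theorem t6 : ∀ s : Fin 240, chevE8.reflectRoot 6 s.val = dr (ent r6 (2 * s.val)) ∧
    eta chevE8 6 s.val = ds (ent r6 (2 * s.val)) ∧ dr (ent r6 (2 * s.val + 1)) = dr (ent r6 (2 * s.val)) ∧
    ds (ent r6 (2 * s.val + 1)) = -ds (ent r6 (2 * s.val)) := by (delta Cfsg.Agent.ChevalleyStructure.NSimple.eta Cfsg.Lie.ChevalleyDatum.chainM Cfsg.Lie.ChevalleyDatum.chainRoot Cfsg.Lie.ChevalleyDatum.reflectRoot; rewrite [Cfsg.Agent.ChevFast.E8.cartan, Cfsg.Agent.ChevFast.E8.chainEntry, Cfsg.Agent.ChevFast.E8.neg]; decide +kernel)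

theorem t7 : ∀ s : Fin 240, chevE8.reflectRoot 7 s.val = dr (ent r7 (2 * s.val)) ∧
    eta chevE8 7 s.val = ds (ent r7 (2 * s.val)) ∧ dr (ent r7 (2 * s.val + 1)) = dr (ent r7 (2 * s.val)) ∧
    ds (ent r7 (2 * s.val + 1)) = -ds (ent r7 (2 * s.val)) := by (delta Cfsg.Agent.ChevalleyStructure.NSimple.eta Cfsg.Lie.ChevalleyDatum.chainM Cfsg.Lie.ChevalleyDatum.chainRoot Cfsg.Lie.ChevalleyDatum.reflectRoot; rewrite [Cfsg.Agent.ChevFast.E8.cartan, Cfsg.Agent.ChevFast.E8.chainEntry, Cfsg.Agent.ChevFast.E8.neg]; decide +kernel)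

end Cfsg.Agent.H238.E8.RTab
end

-- part: H238/E8/RTab
section
/-!
# Tables of the simple reflections of `E₈` with signs (helper238)

`rt i` packs `2 * reflectRoot i s + [sign]` (9 bits per entry, index `2 s + b`); `act_eq` : the action of a word on the
signed roots, evaluated on packed numbers.
-/

set_option autoImplicit false
set_option maxRecDepth 100000

namespace Cfsg.Agent.H238.E8.RTab

open Cfsg Cfsg.Lie Cfsg.Agent.H992.E8X
open Cfsg.Agent.ChevalleyStructure.NSimple (eta)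

theorem tab (i : ℕ) (hi : i < 8) : ∀ s : Fin 240, chevE8.reflectRoot i s.val = dr (ent (row i) (2 * s.val)) ∧
    eta chevE8 i s.val = ds (ent (row i) (2 * s.val)) ∧ dr (ent (row i) (2 * s.val + 1)) = dr (ent (row i) (2 * s.val)) ∧
    ds (ent (row i) (2 * s.val + 1)) = -ds (ent (row i) (2 * s.val)) := by
  match i, hi with
  | 0, _ => exact t0
  | 1, _ => exact t1
  | 2, _ => exact t2
  | 3, _ => exact t3
  | 4, _ => exact t4
  | 5, _ => exact t5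
  | 6, _ => exact t6
  | 7, _ => exact t7
  | n + 8, h => exact absurd h (by omega)

theorem step {i m : ℕ} (hi : i < 8) (hm : dr m < 240) :
    chevE8.reflectRoot i (dr m) = dr (ent (row i) m) ∧ eta chevE8 i (dr m) * ds m = ds (ent (row i) m) := by
  obtain ⟨h1, h2, h3, h4⟩ := tab i hi ⟨dr m, hm⟩
  simp only at h1 h2 h3 h4
  rcases Nat.mod_two_eq_zero_or_one m with h | h
  · have e : 2 * dr m = m := by unfold dr; omega
    rw [e] at h1 h2
    refine ⟨h1, ?_⟩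
    rw [h2]
    unfold ds
    rw [if_pos h, mul_one]
  · have e : 2 * dr m + 1 = m := by unfold dr; omega
    rw [e] at h3 h4
    refine ⟨by rw [h1, h3], ?_⟩
    rw [h4, h2]
    have e1 : ds m = -1 := by
      unfold ds
      rw [if_neg (by omega)]
    rw [e1, mul_neg, mul_one]

theorem act_eq (l : List ℕ) (hl : ∀ i ∈ l, i < 8) {s : ℕ} (hs : s < 240) :
    dr (run l (2 * s)) < 240 ∧ act l s = (dr (run l (2 * s)), ds (run l (2 * s))) := by
  induction l with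
  | nil =>
    have e : dr (2 * s) = s := by unfold dr; omega
    have e' : ds (2 * s) = 1 := by unfold ds; rw [if_pos (by omega)]
    show dr (2 * s) < 240 ∧ (s, (1 : ℤ)) = (dr (2 * s), ds (2 * s))
    rw [e, e']
    exact ⟨hs, rfl⟩
  | cons i l ih =>
    obtain ⟨h1, h2⟩ := ih fun j hj => hl j (List.mem_cons_of_mem _ hj)
    have hi := hl i List.mem_cons_self
    obtain ⟨h3, h4⟩ := step hi h1
    have h5 : act (i :: l) s = (chevE8.reflectRoot i (act l s).1, eta chevE8 i (act l s).1 * (act l s).2) := rfl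
    have h6 : run (i :: l) (2 * s) = ent (row i) (run l (2 * s)) := rfl
    rw [h5, h6, h2]
    refine ⟨?_, ?_⟩
    · rw [← h3]
      exact refl_lt hi h1
    · rw [h3, h4]

end Cfsg.Agent.H238.E8.RTab
end

-- part: H238/E8/T0
section
/-!
# The element `t₀` of `E₈(K)` lifting `-1` (helper238)

`t0 K` : product of the `n_i` along a reduced word of the longest element; `t0_io` : it acts on `sl(W0) + sl(W1)` as
`A ↦ -Aᵀ`; `t0_conj` : `t₀ X_r(c) t₀⁻¹ = X_{-r}(±c)`.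
-/

set_option autoImplicit false
set_option linter.unusedSectionVars false
set_option maxRecDepth 100000

namespace Cfsg.Agent.H238.E8

open Matrix Cfsg Cfsg.Lie Cfsg.Agent.ChevalleyStructure Cfsg.Agent.ChevalleyStructure.Elts
open Cfsg.Agent.H992.E8X hiding e8T
open Cfsg.Agent.ChevalleyStructure.NSimple (eta)
open Cfsg.Agent.ChevalleyStructure.NConj (nS)
open Cfsg.Agent.ChevalleyStructure.XColumns (ev corv)
open Cfsg.Agent.H239.E8P
open Cfsg.Agent.H576.E8L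

/-- a reduced word of the longest element -/
def w0w : List ℕ := [7, 6, 5, 4, 3, 2, 1, 3, 4, 5, 6, 0, 2, 3, 4, 5, 1, 3, 4, 2, 3, 0, 2, 1, 3, 4, 5, 6, 7, 6, 5, 4, 3, 2, 1, 3, 4, 5, 6, 0, 2, 3, 4, 5, 1, 3, 4, 2, 3, 0, 2, 1, 3, 4, 5, 6, 7, 6, 5, 4, 3, 2, 1, 3, 4, 5, 6, 0, 2, 3, 4, 5, 1, 3, 4, 2, 3, 0, 2, 1, 3, 4, 5, 6, 0, 2, 3, 4, 5, 1, 3, 4, 2, 3, 0, 2, 1, 3, 4, 5, 1, 3, 4, 2, 3, 0, 2, 1, 3, 4, 2, 3, 0, 2, 1, 3, 0, 2, 1, 0]

theorem w0w_lt : ∀ i ∈ w0w, i < 8 := by decide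

theorem act0 (i j : Fin 5) (h : i ≠ j) : H992.E8X.act w0w (w0 i j) = (w0 j i, - (s0 i j * s0 j i)) := by
  have h1 : ∀ i j : Fin 5, i ≠ j → (RTab.dr (RTab.run w0w (2 * w0 i j)), RTab.ds (RTab.run w0w (2 * w0 i j))) =
      (w0 j i, - (s0 i j * s0 j i)) := by decide +kernel
  rw [(RTab.act_eq w0w w0w_lt (Cfsg.Agent.H576.E8L.w0_lt i j)).2]
  exact h1 i j h

theorem act1 (i j : Fin 5) (h : i ≠ j) : H992.E8X.act w0w (w1 i j) = (w1 j i, - (s1 i j * s1 j i)) := by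
  have h1 : ∀ i j : Fin 5, i ≠ j → (RTab.dr (RTab.run w0w (2 * w1 i j)), RTab.ds (RTab.run w0w (2 * w1 i j))) =
      (w1 j i, - (s1 i j * s1 j i)) := by decide +kernel
  rw [(RTab.act_eq w0w w0w_lt (Cfsg.Agent.H576.E8L.w1_lt i j)).2]
  exact h1 i j h

section
variable {K : Type} [Field K]

theorem mono_nW (l : List ℕ) (hl : ∀ i ∈ l, i < 8) :
    Mono hE8 ((nW K l : ↥(chevE8.group K)) : GL chevE8.Idx K) (fun r => (H992.E8X.act l r).1)
      (fun r => (((H992.E8X.act l r).2 : ℤ) : K)) := by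
  induction l with
  | nil =>
    have h1 : ((nW K [] : ↥(chevE8.group K)) : GL chevE8.Idx K) = 1 := rfl
    rw [h1]
    refine ⟨fun r hr => hr, fun r _ => ?_, fun _ _ => rfl, fun r _ => ?_, fun r _ => ?_, fun r _ t => ?_⟩
    · show (((1 : ℤ)) : K) ≠ 0
      rw [Int.cast_one]; exact one_ne_zero
    · show _ = ((1 : ℤ) : K) • _
      rw [Units.val_one, Matrix.one_mulVec, Int.cast_one, one_smul]; rfl
    · rw [Units.val_one, Matrix.one_mulVec]; rfl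
    · show _ = xG hE8 r (((1 : ℤ) : K) * t) * 1
      rw [Int.cast_one, one_mul, one_mul, mul_one]
  | cons i l ih =>
    have h1 := ih (fun j hj => hl j (List.mem_cons_of_mem _ hj))
    have hi : i < chevE8.rank := hl i List.mem_cons_self
    have h2 := (mono_nS (F := K) hE8 hi).mul h1
    have h3 : ((nW K (i :: l) : ↥(chevE8.group K)) : GL chevE8.Idx K) =
        nS hE8 K i * ((nW K l : ↥(chevE8.group K)) : GL chevE8.Idx K) := rfl
    rw [h3]
    have h4 : (fun r => (((H992.E8X.act (i :: l) r).2 : ℤ) : K)) =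
        fun r => ((eta chevE8 i (H992.E8X.act l r).1 : ℤ) : K) * (((H992.E8X.act l r).2 : ℤ) : K) := by
      funext r
      show ((eta chevE8 i (H992.E8X.act l r).1 * (H992.E8X.act l r).2 : ℤ) : K) = _
      rw [Int.cast_mul]
    rw [h4]
    exact h2

variable (K) in
/-- the element `t₀` -/
noncomputable def t0 : ↥(chevE8.group K) := nW K w0w

theorem rv_eq_ev (r : ℕ) : rv K r = ev chevE8 K r := by
  funext a
  rcases a with i | u
  · rw [rv_inl]; rfl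
  · rw [rv_inr]; rfl

theorem hv_eq_corv (r : ℕ) : hv K r = corv chevE8 K r := by
  funext a
  rcases a with i | u
  · rfl
  · rfl

theorem tabN0 : ∀ b : Fin 4, w0 b.succ b.castSucc = chevE8.neg (w0 b.castSucc b.succ) ∧ w0 b.castSucc b.succ < 240 := by
  (rewrite [Cfsg.Agent.ChevFast.E8.neg]; decide +kernel)
theorem tabN1 : ∀ b : Fin 4, w1 b.succ b.castSucc = chevE8.neg (w1 b.castSucc b.succ) ∧ w1 b.castSucc b.succ < 240 := by
  (rewrite [Cfsg.Agent.ChevFast.E8.neg]; decide +kernel)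
theorem w0_lt : ∀ i j, w0 i j < 240 := by decide +kernel
theorem w1_lt : ∀ i j, w1 i j < 240 := by decide +kernel
theorem s0s : ∀ i j, i ≠ j → s0 i j * s0 i j = 1 ∧ s0 j i = s0 i j := by decide
theorem s1s : ∀ i j, i ≠ j → s1 i j * s1 i j = 1 ∧ s1 j i = s1 i j := by decide

theorem hv_neg {r : ℕ} (hr : r < 240) : hv K (chevE8.neg r) = - hv K r := by
  rw [hv_eq_corv, hv_eq_corv]
  exact Cfsg.Agent.ChevalleyStructure.Strings.corv_neg (Cfsg.Agent.ChevalleyStructure.StringMem.rootOK_of_mem (by simp) hr)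

/-- the action on one block -/
theorem t0_WM {w : Fin 5 → Fin 5 → ℕ} {s : Fin 5 → Fin 5 → ℤ} (hlt : ∀ i j, w i j < 240)
    (hact : ∀ i j : Fin 5, i ≠ j → H992.E8X.act w0w (w i j) = (w j i, - (s i j * s j i)))
    (hs : ∀ i j, i ≠ j → s i j * s i j = 1 ∧ s j i = s i j)
    (hn : ∀ b : Fin 4, w b.succ b.castSucc = chevE8.neg (w b.castSucc b.succ) ∧ w b.castSucc b.succ < 240)
    (A : Matrix (Fin 5) (Fin 5) K) :
    ((t0 K : GL chevE8.Idx K) : Matrix chevE8.Idx chevE8.Idx K) *ᵥ WM K w s A = WM K w s (-Aᵀ) := by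
  have hM := mono_nW (K := K) w0w w0w_lt
  have hne : ∀ b : Fin 4, b.castSucc ≠ b.succ := by decide
  have hr : ∀ i j, i ≠ j → ((t0 K : GL chevE8.Idx K) : Matrix chevE8.Idx chevE8.Idx K) *ᵥ rv K (w i j) =
      -(rv K (w j i)) := by
    intro i j hij
    rw [rv_eq_ev, rv_eq_ev]
    have h1 := hM.evm (w i j) (hlt i j)
    have h2 : ((t0 K : GL chevE8.Idx K) : Matrix chevE8.Idx chevE8.Idx K) *ᵥ ev chevE8 K (w i j) =
        (((H992.E8X.act w0w (w i j)).2 : ℤ) : K) • ev chevE8 K (H992.E8X.act w0w (w i j)).1 := h1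
    rw [h2, hact i j hij]
    obtain ⟨g1, g2⟩ := hs i j hij
    rw [g2, g1]
    simp
  have hc : ∀ b : Fin 4, ((t0 K : GL chevE8.Idx K) : Matrix chevE8.Idx chevE8.Idx K) *ᵥ hv K (w b.castSucc b.succ) =
      -(hv K (w b.castSucc b.succ)) := by
    intro b
    rw [← hv_neg (hn b).2, ← (hn b).1, hv_eq_corv, hv_eq_corv]
    have h1 := hM.corvm (w b.castSucc b.succ) (hn b).2
    have h2 : ((t0 K : GL chevE8.Idx K) : Matrix chevE8.Idx chevE8.Idx K) *ᵥ corv chevE8 K (w b.castSucc b.succ) =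
        corv chevE8 K (H992.E8X.act w0w (w b.castSucc b.succ)).1 := h1
    rw [h2, hact _ _ (hne b)]
  rw [WM_apply, WM_apply, Matrix.mulVec_add]
  congr 1
  · rw [Matrix.mulVec_sum]
    have e1 : ∀ i, ((t0 K : GL chevE8.Idx K) : Matrix chevE8.Idx chevE8.Idx K) *ᵥ
        (∑ j, if i = j then (0 : chevE8.Idx → K) else ((s i j : K) * A i j) • rv K (w i j)) =
        ∑ j, if i = j then (0 : chevE8.Idx → K) else ((s j i : K) * (-Aᵀ) j i) • rv K (w j i) := by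
      intro i
      rw [Matrix.mulVec_sum]
      refine Finset.sum_congr rfl fun j _ => ?_
      split_ifs with hij
      · rw [Matrix.mulVec_zero]
      · rw [Matrix.mulVec_smul, hr i j hij, (hs i j hij).2, smul_neg, Matrix.neg_apply, Matrix.transpose_apply,
          mul_neg, neg_smul]
    simp only [e1]
    rw [Finset.sum_comm]
    refine Finset.sum_congr rfl fun j _ => Finset.sum_congr rfl fun i _ => ?_
    by_cases hij : i = j
    · rw [if_pos hij, if_pos hij.symm]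
    · rw [if_neg hij, if_neg fun h => hij h.symm]
  · rw [Matrix.mulVec_sum]
    refine Finset.sum_congr rfl fun b _ => ?_
    rw [Matrix.mulVec_smul, hc b, smul_neg, ← neg_smul]
    congr 1
    unfold ps
    rw [← Finset.sum_neg_distrib]
    refine Finset.sum_congr rfl fun c _ => ?_
    split_ifs
    · rfl
    · rw [neg_zero]

end

end Cfsg.Agent.H238.E8
end

-- part: H238/E8/T0b
section
/-!
# The element `t₀` over the algebraic closure (helper238; S5925 box F, piece B1)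
-/

set_option autoImplicit false
set_option linter.unusedSectionVars false
set_option maxRecDepth 100000

namespace Cfsg.Agent.H238.E8

open CoxeterSystem Matrix Cfsg Cfsg.Lie Cfsg.Lie.ChevalleyDatum
open Cfsg.Agent.ChevalleyStructure Cfsg.Agent.ChevalleyStructure.Elts Cfsg.Agent.ChevalleyStructure.CoxeterGeom
  Cfsg.Agent.ChevalleyStructure.CoxeterGeomTypes Cfsg.Agent.ChevalleyStructure.NPerm
  Cfsg.Agent.ChevalleyStructure.RootVec Cfsg.Agent.ChevalleyStructure.RootVecTab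
open Cfsg.Agent.Tits.Roots Cfsg.Agent.Tits.Core Cfsg.Agent.Nodes Cfsg.Agent.Nodes.Reps Cfsg.Agent.Nodes.BNOf
  Cfsg.Agent.Nodes.RGDChev
open Cfsg.Agent.KFacts.RgdField Cfsg.Agent.KFacts.RgdChevCoord
open Cfsg.Agent.H129.TorusChar
open Cfsg.Agent.H942.E8Tab Cfsg.Agent.H942.CB
open Cfsg.Agent.H540.E8C (KK)
open Cfsg.Agent.H948.P3 (hNs el fz_el)
open Cfsg.Agent.H992.E8X (nW hE8)
open Cfsg.Agent.H239.E8P (io1 EV HV RT SG)

theorem toF8_val {i : ℕ} (hi : i < 8) : (toF8 i).val = i := Nat.mod_eq_of_lt hi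

section
variable {k : Type} [Field k]

theorem nc_eq {i : ℕ} (hi : i < 8) (h : nG hE8 (chevE8.simple i) 1 ∈ chevE8.group k) :
    nc e8T k (toF8 i) = ⟨nG hE8 (chevE8.simple i) 1, h⟩ := by
  apply Subtype.ext
  have h1 : ((nc e8T k (toF8 i) : ↥(chevE8.group k)) : GL chevE8.Idx k) = nG hE8 (chevE8.simple (toF8 i).val) 1 := rfl
  rw [h1, toF8_val hi]

theorem nW_cons {i : ℕ} (hi : i < 8) (l : List ℕ) : nW k (i :: l) = nc e8T k (toF8 i) * nW k l := by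
  rw [nc_eq hi (nG_mem_group hE8 _ _)]
  exact List.prod_cons

end

theorem rp_nW (l : List ℕ) (hl : ∀ i ∈ l, i < 8) : Rp cs8 hNs (word l) (nW KK l) := by
  induction l with
  | nil => exact rp_one
  | cons i l ih =>
    have h1 := ih fun j hj => hl j (List.mem_cons_of_mem _ hj)
    have hi : i < 8 := hl i List.mem_cons_self
    rw [word_cons, nW_cons hi]
    exact (rp_simple cs8 hNs (toF8 i)).mul h1

theorem tabw : ∀ i : Fin 8, actW w0w (el i) = (el i).map fun c => -c := by decide +kernel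

theorem el_neg : ∀ i j : Fin 8, ((el i).map fun c => -c).getD j 0 = -(el i).getD j 0 := by decide +kernel

theorem rep_w0 (x : Fin 8 → ℤ) : rep cs8 e8T.isCartan (word w0w) x = -x := by
  funext i
  have h1 : rep cs8 e8T.isCartan (word w0w) x i = fz (actW w0w (el i)) x := by
    rw [fz_actW w0w w0w_lt (by simp [el]), fz_el]
  rw [h1, tabw, Pi.neg_apply, ← fz_el i x]
  unfold fz
  rw [← Finset.sum_neg_distrib]
  refine Finset.sum_congr rfl fun j _ => ?_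
  rw [← neg_mul, el_neg]

/-- `t₀` inverts the torus -/
theorem t0_inv {s : ↥(chevE8.group KK)} (hs : s ∈ TT chevE8 KK) : t0 KK * s = s⁻¹ * t0 KK := by
  have hR := rp_nW w0w w0w_lt
  have hs' : t0 KK * s * (t0 KK)⁻¹ ∈ TT chevE8 KK := (Subgroup.mem_normalizer_iff.1 hR.mem_normalizer s).1 hs
  have h1 : ∀ x, cX e8T (t0 KK * s * (t0 KK)⁻¹) (-x) = cX e8T s x := by
    intro x
    have := cX_rp e8T cs8 lf 3 hR hs x
    rwa [rep_w0] at this
  have h2 : t0 KK * s * (t0 KK)⁻¹ = s⁻¹ := by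
    refine cX_inj e8T hs' (inv_mem hs) fun i => ?_
    have h3 := h1 (-sr i)
    rw [_root_.neg_neg, (isMC_cX e8T hs).neg] at h3
    rw [h3]
    have h4 : cX e8T s⁻¹ (sr i) * cX e8T s (sr i) = 1 := by
      rw [← cX_mul e8T (inv_mem hs) hs, inv_mul_cancel, cX_one]
    exact (eq_inv_of_mul_eq_one_left h4).symm
  rw [← h2]; group

theorem RT0 : ∀ i j : Fin 5, i ≠ j → RT 0 i j = Cfsg.Agent.H576.E8L.w0 i j ∧ SG 0 i j = Cfsg.Agent.H576.E8L.s0 i j := by decide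
theorem RT1 : ∀ i j : Fin 5, i ≠ j → RT 1 i j = Cfsg.Agent.H576.E8L.w1 i j ∧ SG 1 i j = Cfsg.Agent.H576.E8L.s1 i j := by decide

/-- the two forms of the coordinates agree -/
theorem io1_eq0 (A : Matrix (Fin 5) (Fin 5) KK) :
    io1 KK 0 A = Cfsg.Agent.H576.E8L.WM KK Cfsg.Agent.H576.E8L.w0 Cfsg.Agent.H576.E8L.s0 A := by
  rw [Cfsg.Agent.H239.E8P.io1_apply, Cfsg.Agent.H576.E8L.WM_apply]
  have hne : ∀ b : Fin 4, b.castSucc ≠ b.succ := by decide
  congr 1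
  · refine Finset.sum_congr rfl fun i _ => Finset.sum_congr rfl fun j _ => ?_
    split_ifs with h
    · rw [zero_smul]
    · rw [EV, (RT0 i j h).1, (RT0 i j h).2, rv_eq_ev, smul_smul, mul_comm]
  · refine Finset.sum_congr rfl fun b _ => ?_
    rw [HV, (RT0 _ _ (hne b)).1, hv_eq_corv]
    rfl

theorem io1_eq1 (A : Matrix (Fin 5) (Fin 5) KK) :
    io1 KK 1 A = Cfsg.Agent.H576.E8L.WM KK Cfsg.Agent.H576.E8L.w1 Cfsg.Agent.H576.E8L.s1 A := by
  rw [Cfsg.Agent.H239.E8P.io1_apply, Cfsg.Agent.H576.E8L.WM_apply]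
  have hne : ∀ b : Fin 4, b.castSucc ≠ b.succ := by decide
  congr 1
  · refine Finset.sum_congr rfl fun i _ => Finset.sum_congr rfl fun j _ => ?_
    split_ifs with h
    · rw [zero_smul]
    · rw [EV, (RT1 i j h).1, (RT1 i j h).2, rv_eq_ev, smul_smul, mul_comm]
  · refine Finset.sum_congr rfl fun b _ => ?_
    rw [HV, (RT1 _ _ (hne b)).1, hv_eq_corv]
    rfl

/-- **`t₀` acts as `A ↦ -Aᵀ` on both components.** -/
theorem t0_io1 (c : Fin 2) (A : Matrix (Fin 5) (Fin 5) KK) :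
    ((t0 KK : GL chevE8.Idx KK) : Matrix chevE8.Idx chevE8.Idx KK) *ᵥ io1 KK c A = io1 KK c (-Aᵀ) := by
  fin_cases c
  · show _ *ᵥ io1 KK 0 A = io1 KK 0 (-Aᵀ)
    rw [io1_eq0, io1_eq0]
    exact t0_WM w0_lt act0 s0s tabN0 A
  · show _ *ᵥ io1 KK 1 A = io1 KK 1 (-Aᵀ)
    rw [io1_eq1, io1_eq1]
    exact t0_WM w1_lt act1 s1s tabN1 A

theorem diag_le {k : Type} [Field k] : chevE8.diagonalSubgroup k ≤ chevE8.group k := by
  refine (Subgroup.closure_le _).2 ?_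
  rintro g ⟨r, t, hr, ht, hg⟩
  have h1 : g = hG hE8 r t := Units.ext (hg.trans (coe_hG hE8 r t).symm)
  rw [h1]
  exact hG_mem_group hE8 r t

/-- **Piece B1.** -/
theorem B1 : ∃ t ∈ chevE8.group KK, (∀ s ∈ chevE8.diagonalSubgroup KK, t * s = s⁻¹ * t) ∧
    ∃ d : Fin 2 → Fin 5 → KK, (∀ c i, d c i * d c i = 1) ∧ ∀ c (A : Matrix (Fin 5) (Fin 5) KK), A.trace = 0 →
      (t : Matrix chevE8.Idx chevE8.Idx KK) *ᵥ io1 KK c A =
        io1 KK c (-(Matrix.diagonal (d c) * Aᵀ * Matrix.diagonal (d c))) := by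
  refine ⟨(t0 KK : ↥(chevE8.group KK)), (t0 KK).2, fun s hs => ?_, fun _ _ => 1, fun _ _ => one_mul 1, fun c A _ => ?_⟩
  · have hsg : s ∈ chevE8.group KK := diag_le hs
    have h1 := t0_inv (s := ⟨s, hsg⟩) (by
      show (⟨s, hsg⟩ : ↥(chevE8.group KK)) ∈ (chevE8.diagonalSubgroup KK).subgroupOf (chevE8.group KK)
      rw [Subgroup.mem_subgroupOf]; exact hs)
    exact congrArg Subtype.val h1
  · rw [t0_io1]
    congr 2
    rw [show (Matrix.diagonal fun _ : Fin 5 => (1 : KK)) = 1 from Matrix.diagonal_one, one_mul, mul_one]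

end Cfsg.Agent.H238.E8
end
end
end

-- part: H627/E8L/Fixed
section
prune_inst 0x20000000000000000000000000000000
set_option linter.all false
open scoped Cfsg.Agent.FastGrp

-- part: H395/E83/Real
section
/-!
# S5925, box E: elements of order 11 of `E₈(3)` are real, the two halves have the same dimension
-/

set_option autoImplicit false
set_option maxRecDepth 100000

namespace Cfsg.Agent.H395.E83

open Cfsg.Agent.H879.E83 Module
open CoxeterSystem Cfsg Cfsg.Lie Cfsg.Lie.ChevalleyDatum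
open Cfsg.Agent.ChevalleyStructure Cfsg.Agent.ChevalleyStructure.CoxeterGeomTypes Cfsg.Agent.ChevalleyStructure.CoxeterGeom
open Cfsg.Agent.Nodes Cfsg.Agent.Nodes.Coroot Cfsg.Agent.BpExc.RowsUntw Cfsg.Agent.H696 Cfsg.Agent.BpExc Cfsg.Agent

section rep
variable {F G M : Type*} [Field F] [Group G] [AddCommGroup M] [Module F M]

theorem xN_pow_ten {A : Type*} [Ring A] {X : A} (h : X ^ 11 = 1) : xN (X ^ 10) = xR X := by
  have hm : ∀ n : ℕ, X ^ n = X ^ (n % 11) := fun n => by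
    conv_lhs => rw [← Nat.div_add_mod n 11]
    rw [pow_add, pow_mul, h, one_pow, one_mul]
  simp only [xN, xR, ← pow_mul]
  rw [hm (10 * 2), hm (10 * 6), hm (10 * 7), hm (10 * 8), hm (10 * 10)]
  norm_num only [_root_.pow_one]
  abel

theorem finrank_ker_eq (ρ : Representation F G M) {x : G} (h11 : x ^ 11 = 1) (hc : IsConj x x⁻¹) :
    finrank F (LinearMap.ker (xN (ρ x))) = finrank F (LinearMap.ker (xR (ρ x))) := by
  obtain ⟨c, hc⟩ := isConj_iff.1 hc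
  have hi : x⁻¹ = x ^ 10 := inv_eq_of_mul_eq_one_right (by rw [← pow_succ', h11])
  have hX : ρ x ^ 11 = 1 := by rw [← map_pow, h11, map_one]
  have hcx : ρ x * ρ c = ρ c * ρ x ^ 10 := by
    rw [← map_mul, ← map_pow, ← map_mul]
    congr 1
    have h1 : c⁻¹ * x⁻¹ * c = x := by rw [← hc]; group
    have h2 : c⁻¹ * x * c = x⁻¹ := by
      conv_rhs => rw [← h1]
      group
    rw [← hi, ← h2]
    group
  have hp : ∀ n : ℕ, ρ x ^ n * ρ c = ρ c * (ρ x ^ 10) ^ n := fun n => by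
    induction n with
    | zero => simp
    | succ n ih => rw [pow_succ, mul_assoc, hcx, ← mul_assoc, ih, pow_succ (ρ x ^ 10) n, mul_assoc]
  have hN : xN (ρ x) * ρ c = ρ c * xR (ρ x) := by
    rw [← xN_pow_ten hX]
    simp only [xN, add_mul, mul_add, hp]
  have hcc : ρ c⁻¹ * ρ c = 1 := by rw [← map_mul, inv_mul_cancel, map_one]
  have hcc' : ρ c * ρ c⁻¹ = 1 := by rw [← map_mul, mul_inv_cancel, map_one]
  let e : M ≃ₗ[F] M := LinearEquiv.ofLinearMap (ρ c) (ρ c⁻¹) hcc' hcc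
  have h1 : LinearMap.ker (xN (ρ x)) = (LinearMap.ker (xR (ρ x))).map (e : M →ₗ[F] M) := by
    apply le_antisymm
    · intro v hv
      rw [LinearMap.mem_ker] at hv
      refine ⟨ρ c⁻¹ v, ?_, ?_⟩
      · rw [SetLike.mem_coe, LinearMap.mem_ker]
        have h2 : (ρ c * xR (ρ x)) (ρ c⁻¹ v) = 0 := by
          rw [← hN, Module.End.mul_apply, ← Module.End.mul_apply (ρ c) (ρ c⁻¹), hcc']
          exact hv
        have h3 : (ρ c⁻¹ * (ρ c * xR (ρ x))) (ρ c⁻¹ v) = 0 := by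
          rw [Module.End.mul_apply, h2, map_zero]
        rwa [← mul_assoc, hcc, one_mul] at h3
      · show (ρ c * ρ c⁻¹) v = v
        rw [hcc']
        rfl
    · rintro _ ⟨v, hv, rfl⟩
      rw [SetLike.mem_coe, LinearMap.mem_ker] at hv
      rw [LinearMap.mem_ker]
      show (xN (ρ x) * ρ c) v = 0
      rw [hN, Module.End.mul_apply, hv, map_zero]
  rw [h1, LinearEquiv.finrank_map_eq]

end rep

/-- **Elements of order 11 of `E₈(3)` are real.** -/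
theorem real11 {x : ↥(chevE8.group (ZMod 3))} (hx : x ^ 11 = 1) : IsConj x x⁻¹ := by
  have : Fact (Nat.Prime 3) := ⟨Nat.prime_three⟩
  exact Cfsg.Agent.H696.GmnUntw.isConj_inv (F := ZMod 3) (r := 3) Cfsg.Agent.BpExc.RowsUntw.e8T Cfsg.Agent.BpExc.FamInst.inv_E8 odd_one
    (Cfsg.Agent.H696.GmnUntw.center_eq_bot_of_simple (S1054.result chevE8 (by simp)))
    (Cfsg.Agent.H696.GmnNeg.negE8 Cfsg.Agent.BpExc.RowsUntw.e8T _) (by norm_num : Nat.Prime 11) (by norm_num) hx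

/-- the natural representation of `E₈(3)` on its adjoint module -/
noncomputable def adjR : Representation (ZMod 3) ↥(chevE8.group (ZMod 3)) (chevE8.Idx → ZMod 3) where
  toFun g := Matrix.mulVecLin ((g : GL chevE8.Idx (ZMod 3)) : Matrix chevE8.Idx chevE8.Idx (ZMod 3))
  map_one' := by
    rw [OneMemClass.coe_one, Units.val_one, Matrix.mulVecLin_one]
    rfl
  map_mul' a b := by
    rw [Subgroup.coe_mul, Units.val_mul, Matrix.mulVecLin_mul]
    rfl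

theorem adjR_apply (g : ↥(chevE8.group (ZMod 3))) (v : chevE8.Idx → ZMod 3) :
    adjR g v = (((g : GL chevE8.Idx (ZMod 3)) : Matrix chevE8.Idx chevE8.Idx (ZMod 3))).mulVec v := rfl

theorem finrank_L : finrank (ZMod 3) (chevE8.Idx → ZMod 3) = 248 := by
  rw [Module.finrank_fintype_fun_eq_card]
  decide +kernel

theorem finrank_halves {x : ↥(chevE8.group (ZMod 3))} (hx : x ^ 11 = 1) :
    finrank (ZMod 3) (LinearMap.ker (xN (adjR x))) = finrank (ZMod 3) (LinearMap.ker (xR (adjR x))) :=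
  finrank_ker_eq adjR hx (real11 hx)

/-- for `x, y, t` in `E₈(3)` with the relations of `PSL₂(11)` and without fixed vectors, `dim L^⟨x, y⟩ ≤ 23` -/
theorem fix_le {x y t : ↥(chevE8.group (ZMod 3))} (h : _root_.Cfsg.Agent.H879.E83.Rel (adjR x) (adjR y) (adjR t)) (hx : x ^ 11 = 1)
    (hinv : ∀ w : chevE8.Idx → ZMod 3, adjR x w = w → adjR y w = w → adjR t w = w → w = 0)
    (h24 : 24 ≤ finrank (ZMod 3) ↥(LinearMap.ker (adjR x - 1) ⊓ LinearMap.ker (adjR y - 1))) : False :=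
  no24 h hinv finrank_L (finrank_halves hx) h24

end Cfsg.Agent.H395.E83
end

-- part: H627/E8L/Fixed
section
/-!
# S5925, box E: the subgroup `E₂` of type `A₄` of `E₈` fixes the 24-dimensional algebra of `E₁` (helper627)
-/

set_option autoImplicit false
set_option maxRecDepth 100000

namespace Cfsg.Agent.H627.E8L

open Module Matrix
open Cfsg.Lie Cfsg.Agent.ChevalleyStructure Cfsg.Agent.ChevalleyStructure.XColumns Cfsg.Agent.ChevalleyStructure.Elts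
open Cfsg.Agent.H395.E83

/-- the roots of `E₁` (simple roots `a₁ a₃ a₄ a₂`) -/
def R1 : List ℕ := [162, 163, 164, 169, 77, 135, 136, 147, 76, 104, 130, 142, 75, 103, 109, 141, 70, 92, 97, 98]

/-- the roots of `E₂` (simple roots `a₀ a₈ a₇ a₆`) -/
def R2 : List ℕ := [0, 1, 2, 3, 239, 120, 122, 125, 238, 119, 121, 124, 237, 117, 118, 123, 236, 114, 115, 116]

private theorem _root_.Cfsg.Agent.KOdf59bde.e0.{ku, kv} {α : Type kv} {M : List α → Sort ku} (φ : ∀ l, M l) {z : M List.nil} {s : ∀ a l, M l → M (List.cons a l)} (h0 : φ List.nil = z) (hs : ∀ a l, φ (List.cons a l) = s a l (φ l)) (l : List α) : φ l = @List.rec α M z s l := List.rec h0 (fun a l ih => (hs a l).trans (congrArg (s a l) ih)) l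
private noncomputable def _root_.Cfsg.Agent.KOdf59bde.k1.{ku0} : type_of% @List.all.{ku0} := @(fun x0 x1 x2 => @List.rec.{(ku0+1), ku0} @x0 @(fun x3 => (@x0 → @Bool) → @Bool) @(fun x3 => @Bool.true) @(fun x3 x4 x5 x6 => @Bool.rec.{1} @(fun x7 => @Bool) @Bool.false (@x5 @x6) (@x6 @x3)) @x1 @x2)
private theorem _root_.Cfsg.Agent.KOdf59bde.e1.{ku0} : @List.all.{ku0} = @_root_.Cfsg.Agent.KOdf59bde.k1.{ku0} := by delta _root_.Cfsg.Agent.KOdf59bde.k1; funext a0 a1 a2; refine (congrFun (_root_.Cfsg.Agent.KOdf59bde.e0 (fun a1 a2 => @List.all.{ku0} a0 a1 a2) ?_ (fun c0 c1 => ?_) a1) a2 :) <;> (rfl')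
private noncomputable def _root_.Cfsg.Agent.KOdf59bde.k2 : type_of% @Bool.and := @(fun x0 x1 => @Bool.rec.{1} @(fun x2 => @Bool) @Bool.false @x1 @x0)
private theorem _root_.Cfsg.Agent.KOdf59bde.e2 : @Bool.and = @_root_.Cfsg.Agent.KOdf59bde.k2 := by delta _root_.Cfsg.Agent.KOdf59bde.k2; rfl'
private noncomputable def _root_.Cfsg.Agent.KOdf59bde.k3 : type_of% @Bool.not := @(fun x0 => @Bool.rec.{1} @(fun x1 => @Bool) @Bool.true @Bool.false @x0)
private theorem _root_.Cfsg.Agent.KOdf59bde.e3 : @Bool.not = @_root_.Cfsg.Agent.KOdf59bde.k3 := by delta _root_.Cfsg.Agent.KOdf59bde.k3; rfl'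
private noncomputable def _root_.Cfsg.Agent.KOdf59bde.k7 : type_of% @Bool.decEq := @(fun x0 x1 => @Bool.rec.{1} @(fun x2 => @Decidable (@Eq.{1} _ @x2 @x1)) (@Bool.rec.{1} @(fun x2 => @Decidable (@Eq.{1} _ @Bool.false @x2)) (@Decidable.isTrue _ (@rfl.{1} _ _)) (@Decidable.isFalse _ @(fun x2 => @Bool.noConfusion.{0} _ _ _ @x2)) @x1) (@Bool.rec.{1} @(fun x2 => @Decidable (@Eq.{1} _ @Bool.true @x2)) (@Decidable.isFalse _ @(fun x2 => @Bool.noConfusion.{0} _ _ _ @x2)) (@Decidable.isTrue _ (@rfl.{1} _ _)) @x1) @x0)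
private theorem _root_.Cfsg.Agent.KOdf59bde.e7 : @Bool.decEq = @_root_.Cfsg.Agent.KOdf59bde.k7 := by delta _root_.Cfsg.Agent.KOdf59bde.k7; rfl'
private noncomputable def _root_.Cfsg.Agent.KOdf59bde.k8 : type_of% @Nat.decLe := @(fun x0 x1 => @Decidable.rec.{1} _ @(fun x2 => @Decidable (@LE.le.{0} _ _ @x0 @x1)) @(fun x2 => @Decidable.isFalse _ (@Nat.not_le_of_not_ble_eq_true _ _ @x2)) @(fun x2 => @Decidable.isTrue _ (@Nat.le_of_ble_eq_true _ _ @x2)) (@Cfsg.Agent.KOdf59bde.k7 (@Nat.ble @x0 @x1) @Bool.true))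
private theorem _root_.Cfsg.Agent.KOdf59bde.e8 : @Nat.decLe = @_root_.Cfsg.Agent.KOdf59bde.k8 := by delta _root_.Cfsg.Agent.KOdf59bde.k8; rewrite [← Cfsg.Agent.KOdf59bde.e7]; rfl'
private noncomputable def _root_.Cfsg.Agent.KOdf59bde.k9 : (by first | exact type_of% @Cfsg.Lie.ChevalleyDatum.neg | exact Unit : Sort _) := by first | (refine @Subtype.val _ (fun g => @Cfsg.Lie.ChevalleyDatum.neg = @g) (@Subtype.mk _ _ (@(fun x0 x1 => @Decidable.rec.{1} _ @(fun x2 => ℕ) @(fun x2 => nat_lit 0) @(fun x2 => @List.get.{0} _ (@Array.toList.{0} _ (@Cfsg.Lie.ChevalleyDatum.negIdx @x0)) (@Fin.mk _ @x1 @x2)) (@Cfsg.Agent.KOdf59bde.k8 (@Nat.succ @x1) (@List.length.{0} _ (@Array.toList.{0} _ (@Cfsg.Lie.ChevalleyDatum.negIdx @x0)))))) ?_); rewrite [← Cfsg.Agent.KOdf59bde.e8]; rfl') | exact @Cfsg.Lie.ChevalleyDatum.neg | exact ()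
private theorem _root_.Cfsg.Agent.KOdf59bde.e9 : (by first | exact @Cfsg.Lie.ChevalleyDatum.neg = @_root_.Cfsg.Agent.KOdf59bde.k9 | exact True : Prop) := by first | (delta _root_.Cfsg.Agent.KOdf59bde.k9; exact @Subtype.property _ (fun g => @Cfsg.Lie.ChevalleyDatum.neg = @g) _) | rfl | trivial
private noncomputable def _root_.Cfsg.Agent.KOdf59bde.k10 : (by first | exact type_of% @Cfsg.Agent.ChevalleyStructure.XColumns.row | exact Unit : Sort _) := by first | (refine @Subtype.val _ (fun g => @Cfsg.Agent.ChevalleyStructure.XColumns.row = @g) (@Subtype.mk _ _ (@(fun x0 x1 => @Array.toList.{0} _ (@Decidable.rec.{1} _ @(fun x2 => @Array.{0} (ℕ × (@Array.{0} (ℕ × ℤ)))) @(fun x2 => @Array.mk.{0} _ []) @(fun x2 => @List.get.{0} _ (@Array.toList.{0} _ (@Cfsg.Lie.ChevalleyDatum.chain @x0)) (@Fin.mk _ @x1 @x2)) (@Cfsg.Agent.KOdf59bde.k8 (@Nat.succ @x1) (@List.length.{0} _ (@Array.toList.{0} _ (@Cfsg.Lie.ChevalleyDatum.chain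 @x0))))))) ?_); rewrite [← Cfsg.Agent.KOdf59bde.e8]; rfl') | exact @Cfsg.Agent.ChevalleyStructure.XColumns.row | exact ()
private theorem _root_.Cfsg.Agent.KOdf59bde.e10 : (by first | exact @Cfsg.Agent.ChevalleyStructure.XColumns.row = @_root_.Cfsg.Agent.KOdf59bde.k10 | exact True : Prop) := by first | (delta _root_.Cfsg.Agent.KOdf59bde.k10; exact @Subtype.property _ (fun g => @Cfsg.Agent.ChevalleyStructure.XColumns.row = @g) _) | rfl | trivial
private noncomputable def _root_.Cfsg.Agent.KOdf59bde.k11 : type_of% @Decidable.decide := @(fun x0 x1 => @Decidable.rec.{1} _ @(fun x2 => @Bool) @(fun x2 => @Bool.false) @(fun x2 => @Bool.true) @x1)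
private theorem _root_.Cfsg.Agent.KOdf59bde.e11 : @Decidable.decide = @_root_.Cfsg.Agent.KOdf59bde.k11 := by delta _root_.Cfsg.Agent.KOdf59bde.k11; rfl'
private noncomputable def _root_.Cfsg.Agent.KOdf59bde.k12.{ku0} : type_of% @List.decidableBAll.{ku0} := @(fun x0 x1 x2 x3 => @List.rec.{1, ku0} @x0 @(fun x4 => @Decidable ((x5 : @x0) → (@Membership.mem.{ku0, ku0} _ _ _ @x4 @x5) → @x1 @x5)) (@Decidable.isTrue _ (@List.decidableBAll._proof_1.{ku0} _ @x1)) @(fun x4 x5 x6 => @Decidable.rec.{1} _ @(fun x7 => @Decidable ((x8 : @x0) → (@Membership.mem.{ku0, ku0} _ _ _ (@x4 :: @x5) @x8) → @x1 @x8)) @(fun x7 => @Decidable.isFalse _ (@List.decidableBAll._proof_4.{ku0} _ @x1 @x4 @x5 @x7)) @(fun x7 => @Decidable.rec.{1} _ @(fun x8 => @Decidable ((x9 : @x0) → (@Membership.mem.{ku0, ku0} _ _ _ (@x4 :: @x5) @x9) → @x1 @x9)) @(fun x8 => @Decidable.isFalse _ (@List.decidableBAll._proof_3.{ku0} _ @x1 @x4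 @x5 @x8)) @(fun x8 => @Decidable.isTrue _ (@List.decidableBAll._proof_2.{ku0} _ @x1 @x4 @x5 @x7 @x8)) @x6) (@x2 @x4)) @x3)
private theorem _root_.Cfsg.Agent.KOdf59bde.e12.{ku0} : @List.decidableBAll.{ku0} = @_root_.Cfsg.Agent.KOdf59bde.k12.{ku0} := by delta _root_.Cfsg.Agent.KOdf59bde.k12; funext a0 a1 a2 a3; refine (_root_.Cfsg.Agent.KOdf59bde.e0 (fun a3 => @List.decidableBAll.{ku0} a0 a1 a2 a3) ?_ (fun c0 c1 => ?_) a3 :) <;> (rfl')
private noncomputable def _root_.Cfsg.Agent.KOdf59bde.k13.{ku0} : type_of% @List.instDecidablePairwise.{ku0} := @(fun x0 x1 x2 x3 => @List.rec.{1, ku0} @x0 @(fun x4 => @Decidable (@List.Pairwise.{ku0} _ @x1 @x4)) (@Decidable.isTrue _ (@List.Pairwise.nil.{ku0} _ _)) @(fun x4 x5 x6 => @Decidable.rec.{1} _ @(fun x7 => @Decidable (@List.Pairwise.{ku0} _ @x1 (@x4 :: @x5))) @(fun x7 => @Decidable.isFalse _ (@List.instDecidablePairwise._proof_3.{ku0} _ _ @x4 @x5 @x7))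 @(fun x7 => @Decidable.rec.{1} _ @(fun x8 => @Decidable (@List.Pairwise.{ku0} _ @x1 (@x4 :: @x5))) @(fun x8 => @Decidable.isFalse _ (@List.instDecidablePairwise._proof_1.{ku0} _ _ @x4 @x5 @x8)) @(fun x8 => @Decidable.isTrue _ (@List.instDecidablePairwise._proof_2.{ku0} _ _ @x4 @x5 @x7 @x8)) (@Cfsg.Agent.KOdf59bde.k12.{ku0} _ (@x1 @x4) (@x2 @x4) @x5)) @x6) @x3)
private theorem _root_.Cfsg.Agent.KOdf59bde.e13.{ku0} : @List.instDecidablePairwise.{ku0} = @_root_.Cfsg.Agent.KOdf59bde.k13.{ku0} := by delta _root_.Cfsg.Agent.KOdf59bde.k13; rewrite [← Cfsg.Agent.KOdf59bde.e12.{ku0}]; funext a0 a1 a2 a3; refine (_root_.Cfsg.Agent.KOdf59bde.e0 (fun a3 => @List.instDecidablePairwise.{ku0} a0 a1 a2 a3) ?_ (fun c0 c1 => ?_) a3 :) <;> (rfl')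
private noncomputable def _root_.Cfsg.Agent.KOdf59bde.k14.{ku0} : type_of% @List.nodupDecidable.{ku0} := @(fun x0 x1 => @Cfsg.Agent.KOdf59bde.k13.{ku0} _ @(fun x2 x3 => @Ne.{(ku0+1)} _ @x2 @x3) @(fun x2 x3 => @Decidable.rec.{1} _ @(fun x4 => @Decidable (¬ (@Eq.{(ku0+1)} _ @x2 @x3))) @(fun x4 => @Decidable.isTrue _ @x4) @(fun x4 => @Decidable.isFalse _ (@absurd.{0} _ _ @x4)) (@x1 @x2 @x3)))
private theorem _root_.Cfsg.Agent.KOdf59bde.e14.{ku0} : @List.nodupDecidable.{ku0} = @_root_.Cfsg.Agent.KOdf59bde.k14.{ku0} := by delta _root_.Cfsg.Agent.KOdf59bde.k14; rewrite [← Cfsg.Agent.KOdf59bde.e13.{ku0}]; rfl'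
private noncomputable def _root_.Cfsg.Agent.KOdf59bde.k15 : type_of% @Nat.decEq := @(fun x0 x1 => @Bool.rec.{1} @(fun x2 => (@Eq.{1} _ (@Nat.beq @x0 @x1) @x2) → @Decidable (@Eq.{1} _ @x0 @x1)) @(fun x2 => @Decidable.isFalse _ (@Nat.ne_of_beq_eq_false _ _ @x2)) @(fun x2 => @Decidable.isTrue _ (@Nat.eq_of_beq_eq_true _ _ @x2)) (@Nat.beq @x0 @x1) (@Eq.refl.{1} _ (@Nat.beq @x0 @x1)))
private theorem _root_.Cfsg.Agent.KOdf59bde.e15 : @Nat.decEq = @_root_.Cfsg.Agent.KOdf59bde.k15 := by delta _root_.Cfsg.Agent.KOdf59bde.k15; rfl'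
private noncomputable def _root_.Cfsg.Agent.KOdf59bde.k16 : type_of% @instDecidableEqNat := @Cfsg.Agent.KOdf59bde.k15
private theorem _root_.Cfsg.Agent.KOdf59bde.e16 : @instDecidableEqNat = @_root_.Cfsg.Agent.KOdf59bde.k16 := by delta _root_.Cfsg.Agent.KOdf59bde.k16; rewrite [← Cfsg.Agent.KOdf59bde.e15]; rfl'
private noncomputable def _root_.Cfsg.Agent.KOdf59bde.k17.{ku0, ku1} : type_of% @List.map.{ku0, ku1} := @(fun x0 x1 x2 x3 => @List.rec.{(ku1+1), ku0} @x0 @(fun x4 => @List.{ku1} @x1) [] @(fun x4 x5 x6 => (@x2 @x4) :: @x6) @x3)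
private theorem _root_.Cfsg.Agent.KOdf59bde.e17.{ku0, ku1} : @List.map.{ku0, ku1} = @_root_.Cfsg.Agent.KOdf59bde.k17.{ku0, ku1} := by delta _root_.Cfsg.Agent.KOdf59bde.k17; funext a0 a1 a2 a3; refine (_root_.Cfsg.Agent.KOdf59bde.e0 (fun a3 => @List.map.{ku0, ku1} a0 a1 a2 a3) ?_ (fun c0 c1 => ?_) a3 :) <;> (rfl')
private theorem _root_.Cfsg.Agent.KOdf59bde.e18.{ku} {M : Nat → Sort ku} (φ : ∀ n, M n) {z : M Nat.zero} {s : ∀ n, M n → M (Nat.succ n)} (h0 : φ Nat.zero = z) (hs : ∀ n, φ (Nat.succ n) = s n (φ n)) (n : Nat) : φ n = @Nat.rec M z s n := Nat.rec h0 (fun n ih => (hs n).trans (congrArg (s n) ih)) n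
private noncomputable def _root_.Cfsg.Agent.KOdf59bde.k19 : type_of% @List.range.loop := @(fun x0 x1 => @Nat.rec.{1} @(fun x2 => (@List.{0} ℕ) → @List.{0} ℕ) @(fun x2 => @x2) @(fun x2 x3 x4 => @x3 (@x2 :: @x4)) @x0 @x1)
private theorem _root_.Cfsg.Agent.KOdf59bde.e19 : @List.range.loop = @_root_.Cfsg.Agent.KOdf59bde.k19 := by delta _root_.Cfsg.Agent.KOdf59bde.k19; funext a0 a1; refine (congrFun (_root_.Cfsg.Agent.KOdf59bde.e18 (fun a0 a1 => @List.range.loop a0 a1) ?_ (fun c0 => ?_) a0) a1 :) <;> (rfl')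
private noncomputable def _root_.Cfsg.Agent.KOdf59bde.k20 : type_of% @List.range := @(fun x0 => @Cfsg.Agent.KOdf59bde.k19 @x0 [])
private theorem _root_.Cfsg.Agent.KOdf59bde.e20 : @List.range = @_root_.Cfsg.Agent.KOdf59bde.k20 := by delta _root_.Cfsg.Agent.KOdf59bde.k20; rewrite [← Cfsg.Agent.KOdf59bde.e19]; rfl'
private noncomputable def _root_.Cfsg.Agent.KOdf59bde.k21 : type_of% @Int.decEq := @(fun x0 x1 => @Int.rec.{1} @(fun x2 => @Decidable (@Eq.{1} _ @x2 @x1)) @(fun x2 => @Int.rec.{1} @(fun x3 => @Decidable (@Eq.{1} _ (@Int.ofNat @x2) @x3)) @(fun x3 => @Decidable.rec.{1} _ @(fun x4 => @Decidable (@Eq.{1} _ (@Int.ofNat @x2) (@Int.ofNat @x3))) @(fun x4 => @Decidable.isFalse _ (@Int.decEq._proof_2 @x2 @x3 @x4)) @(fun x4 => @Decidable.isTrue _ (@Int.decEq._proof_1 @x2 @x3 @x4)) (@Cfsg.Agent.KOdf59bde.k15 @x2 @x3)) @(fun x3 => @Decidable.isFalse _ (@Int.decEq._proof_3 @x2 @x3)) @x1) @(fun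 x2 => @Int.rec.{1} @(fun x3 => @Decidable (@Eq.{1} _ (@Int.negSucc @x2) @x3)) @(fun x3 => @Decidable.isFalse _ (@Int.decEq._proof_4 @x2 @x3)) @(fun x3 => @Decidable.rec.{1} _ @(fun x4 => @Decidable (@Eq.{1} _ (@Int.negSucc @x2) (@Int.negSucc @x3))) @(fun x4 => @Decidable.isFalse _ (@Int.decEq._proof_6 @x2 @x3 @x4)) @(fun x4 => @Decidable.isTrue _ (@Int.decEq._proof_5 @x2 @x3 @x4)) (@Cfsg.Agent.KOdf59bde.k15 @x2 @x3)) @x1) @x0)
private theorem _root_.Cfsg.Agent.KOdf59bde.e21 : @Int.decEq = @_root_.Cfsg.Agent.KOdf59bde.k21 := by delta _root_.Cfsg.Agent.KOdf59bde.k21; rewrite [← Cfsg.Agent.KOdf59bde.e15]; rfl'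
private noncomputable def _root_.Cfsg.Agent.KOdf59bde.k22 : type_of% @Int.instDecidableEq := @Cfsg.Agent.KOdf59bde.k21
private theorem _root_.Cfsg.Agent.KOdf59bde.e22 : @Int.instDecidableEq = @_root_.Cfsg.Agent.KOdf59bde.k22 := by delta _root_.Cfsg.Agent.KOdf59bde.k22; rewrite [← Cfsg.Agent.KOdf59bde.e21]; rfl'
private noncomputable def _root_.Cfsg.Agent.KOdf59bde.k23 : (by first | exact type_of% @Cfsg.Lie.ChevalleyDatum.cartan | exact Unit : Sort _) := by first | (refine @Subtype.val _ (fun g => @Cfsg.Lie.ChevalleyDatum.cartan = @g) (@Subtype.mk _ _ (@(fun (x0 : @Cfsg.Lie.ChevalleyDatum) (x1 : @Nat) (x2 : @Nat) => @Decidable.rec.{1} (@LT.lt.{0} @Nat @instLTNat @x2 (@Array.size.{0} @Int (@Array.getD.{0} (@Array.{0} @Int) (@Cfsg.Lie.ChevalleyDatum.cartanSR @x0) @x1 (@List.toArray.{0} @Int (@List.nil.{0} @Int))))) @(fun (x3 : @Decidable (@LT.lt.{0} @Nat @instLTNat @x2 (@Array.size.{0} @Int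 (@Array.getD.{0} (@Array.{0} @Int) (@Cfsg.Lie.ChevalleyDatum.cartanSR @x0) @x1 (@List.toArray.{0} @Int (@List.nil.{0} @Int)))))) => @Int) @(fun (x3 : @Not (@LT.lt.{0} @Nat @instLTNat @x2 (@Array.size.{0} @Int (@Array.getD.{0} (@Array.{0} @Int) (@Cfsg.Lie.ChevalleyDatum.cartanSR @x0) @x1 (@List.toArray.{0} @Int (@List.nil.{0} @Int)))))) => @Int.ofNat (nat_lit 0)) @(fun (x3 : @LT.lt.{0} @Nat @instLTNat @x2 (@Array.size.{0} @Int (@Array.getD.{0} (@Array.{0} @Int) (@Cfsg.Lie.ChevalleyDatum.cartanSR @x0) @x1 (@List.toArray.{0} @Int (@List.nil.{0} @Int))))) => @List.get.{0} @Int (@Array.toList.{0} @Int (@Decidable.rec.{1} (@LT.lt.{0} @Nat @instLTNat @x1 (@Array.size.{0} (@Array.{0} @Int) (@Cfsg.Lie.ChevalleyDatum.cartanSR @x0))) @(fun (x4 : @Decidable (@LT.lt.{0} @Nat @instLTNat @x1 (@Array.size.{0} (@Array.{0} @Int) (@Cfsg.Lie.ChevalleyDatum.cartanSR @x0)))) => @Array.{0} @Int) @(fun (x4 : @Not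 (@LT.lt.{0} @Nat @instLTNat @x1 (@Array.size.{0} (@Array.{0} @Int) (@Cfsg.Lie.ChevalleyDatum.cartanSR @x0)))) => @Array.mk.{0} @Int (@List.nil.{0} @Int)) @(fun (x4 : @LT.lt.{0} @Nat @instLTNat @x1 (@Array.size.{0} (@Array.{0} @Int) (@Cfsg.Lie.ChevalleyDatum.cartanSR @x0))) => @List.get.{0} (@Array.{0} @Int) (@Array.toList.{0} (@Array.{0} @Int) (@Cfsg.Lie.ChevalleyDatum.cartanSR @x0)) (@Fin.mk (@List.length.{0} (@Array.{0} @Int) (@Array.toList.{0} (@Array.{0} @Int) (@Cfsg.Lie.ChevalleyDatum.cartanSR @x0))) @x1 @x4)) (@Nat.decLe (@Nat.succ @x1) (@List.length.{0} (@Array.{0} @Int) (@Array.toList.{0} (@Array.{0} @Int) (@Cfsg.Lie.ChevalleyDatum.cartanSR @x0)))))) (@Fin.mk (@List.length.{0} @Int (@Array.toList.{0} @Int (@Decidable.rec.{1} (@LT.lt.{0} @Nat @instLTNat @x1 (@Array.size.{0} (@Array.{0} @Int) (@Cfsg.Lie.ChevalleyDatum.cartanSR @x0))) @(fun (x4 : @Decidable (@LT.lt.{0} @Nat @instLTNat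 @x1 (@Array.size.{0} (@Array.{0} @Int) (@Cfsg.Lie.ChevalleyDatum.cartanSR @x0)))) => @Array.{0} @Int) @(fun (x4 : @Not (@LT.lt.{0} @Nat @instLTNat @x1 (@Array.size.{0} (@Array.{0} @Int) (@Cfsg.Lie.ChevalleyDatum.cartanSR @x0)))) => @Array.mk.{0} @Int (@List.nil.{0} @Int)) @(fun (x4 : @LT.lt.{0} @Nat @instLTNat @x1 (@Array.size.{0} (@Array.{0} @Int) (@Cfsg.Lie.ChevalleyDatum.cartanSR @x0))) => @List.get.{0} (@Array.{0} @Int) (@Array.toList.{0} (@Array.{0} @Int) (@Cfsg.Lie.ChevalleyDatum.cartanSR @x0)) (@Fin.mk (@List.length.{0} (@Array.{0} @Int) (@Array.toList.{0} (@Array.{0} @Int) (@Cfsg.Lie.ChevalleyDatum.cartanSR @x0))) @x1 @x4)) (@Nat.decLe (@Nat.succ @x1) (@List.length.{0} (@Array.{0} @Int) (@Array.toList.{0} (@Array.{0} @Int) (@Cfsg.Lie.ChevalleyDatum.cartanSR @x0))))))) @x2 @x3)) (@Nat.decLe (@Nat.succ @x2) (@List.length.{0} @Int (@Array.toList.{0} @Int (@Decidable.rec.{1} (@LT.lt.{0}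 @Nat @instLTNat @x1 (@Array.size.{0} (@Array.{0} @Int) (@Cfsg.Lie.ChevalleyDatum.cartanSR @x0))) @(fun (x3 : @Decidable (@LT.lt.{0} @Nat @instLTNat @x1 (@Array.size.{0} (@Array.{0} @Int) (@Cfsg.Lie.ChevalleyDatum.cartanSR @x0)))) => @Array.{0} @Int) @(fun (x3 : @Not (@LT.lt.{0} @Nat @instLTNat @x1 (@Array.size.{0} (@Array.{0} @Int) (@Cfsg.Lie.ChevalleyDatum.cartanSR @x0)))) => @Array.mk.{0} @Int (@List.nil.{0} @Int)) @(fun (x3 : @LT.lt.{0} @Nat @instLTNat @x1 (@Array.size.{0} (@Array.{0} @Int) (@Cfsg.Lie.ChevalleyDatum.cartanSR @x0))) => @List.get.{0} (@Array.{0} @Int) (@Array.toList.{0} (@Array.{0} @Int) (@Cfsg.Lie.ChevalleyDatum.cartanSR @x0)) (@Fin.mk (@List.length.{0} (@Array.{0} @Int) (@Array.toList.{0} (@Array.{0} @Int) (@Cfsg.Lie.ChevalleyDatum.cartanSR @x0))) @x1 @x3)) (@Nat.decLe (@Nat.succ @x1) (@List.length.{0} (@Array.{0} @Int) (@Array.toList.{0} (@Array.{0} @Int) (@Cfsg.Lie.ChevalleyDatum.cartanSR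 @x0)))))))))) ?_); rfl') | exact @Cfsg.Lie.ChevalleyDatum.cartan | exact ()
private theorem _root_.Cfsg.Agent.KOdf59bde.e23 : (by first | exact @Cfsg.Lie.ChevalleyDatum.cartan = @_root_.Cfsg.Agent.KOdf59bde.k23 | exact True : Prop) := by first | (delta _root_.Cfsg.Agent.KOdf59bde.k23; exact @Subtype.property _ (fun g => @Cfsg.Lie.ChevalleyDatum.cartan = @g) _) | rfl | trivial

theorem chk : (R2.all fun r => Nat.blt r 240 && (R1.all fun s => Nat.blt s 240 && !(Nat.beq s r) && !(Nat.beq s (chevE8.neg r)) &&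
    ((_root_.Cfsg.Agent.ChevalleyStructure.XColumns.row chevE8 r).all fun e => !(Nat.beq e.1 s))) && decide ((_root_.Cfsg.Agent.ChevalleyStructure.XColumns.row chevE8 r).map Prod.fst).Nodup &&
    ((List.range 4).all fun i => decide (chevE8.cartan i r = 0))) = true := by
  (first | (rewrite [Cfsg.Agent.KOdf59bde.e1.{0}, Cfsg.Agent.KOdf59bde.e2, Cfsg.Agent.KOdf59bde.e3, Cfsg.Agent.KOdf59bde.e9, Cfsg.Agent.KOdf59bde.e10, Cfsg.Agent.KOdf59bde.e11, Cfsg.Agent.KOdf59bde.e14.{0}, Cfsg.Agent.KOdf59bde.e16, Cfsg.Agent.KOdf59bde.e17.{0, 0}, Cfsg.Agent.KOdf59bde.e20, Cfsg.Agent.KOdf59bde.e22, Cfsg.Agent.KOdf59bde.e23]; decide +kernel) | decide +kernel)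

theorem lt1 : ∀ k : Fin 20, R1.getD k 0 < chevE8.nroots := by
  intro k
  show _ < 240
  revert k
  decide

theorem inj1 : ∀ k l : Fin 20, R1.getD k 0 = R1.getD l 0 → k = l := by decide +kernel

/-- the 24 basis vectors -/
def f24 : Fin 4 ⊕ Fin 20 → chevE8.Idx
  | Sum.inl i => Sum.inl ⟨i.1, by have := i.2; show i.1 < 8; omega⟩
  | Sum.inr k => Sum.inr ⟨R1.getD k 0, lt1 k⟩

theorem f24_inj : Function.Injective f24 := by
  rintro (i | k) (i' | k') h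
  · have h1 := congrArg Fin.val (Sum.inl_injective h)
    exact congrArg Sum.inl (Fin.ext h1)
  · cases h
  · cases h
  · have h1 := congrArg Fin.val (Sum.inr_injective h)
    exact congrArg Sum.inr (inj1 _ _ h1)

/-- the 24-dimensional subspace -/
def S24 (F : Type*) [Field F] : Submodule F (chevE8.Idx → F) :=
  Submodule.span F (Set.range fun k => (Pi.single (f24 k) 1 : chevE8.Idx → F))

theorem finrank_S24 (F : Type*) [Field F] : finrank F (S24 F) = 24 := by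
  unfold S24
  have h1 : LinearIndependent F (fun k => (Pi.single (f24 k) 1 : chevE8.Idx → F)) := by
    have h2 := (Pi.basisFun F chevE8.Idx).linearIndependent.comp f24 f24_inj
    have h3 : (fun k => (Pi.single (f24 k) 1 : chevE8.Idx → F)) = (Pi.basisFun F chevE8.Idx) ∘ f24 := by
      funext k
      rw [Function.comp_apply, Pi.basisFun_apply]
    rw [h3]
    exact h2
  rw [finrank_span_eq_card h1]
  rfl

theorem x_fix {F : Type*} [Field F] {r : ℕ} (hr : r ∈ R2) (t : F) {v : chevE8.Idx → F} (hv : v ∈ S24 F) :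
    chevE8.x F r t *ᵥ v = v := by
  have hc := chk
  rw [List.all_eq_true] at hc
  have h1 := hc r hr
  simp only [Bool.and_eq_true, List.all_eq_true, decide_eq_true_eq, Bool.not_eq_true'] at h1
  obtain ⟨⟨⟨hr240, h2⟩, h3⟩, h4⟩ := h1
  have hrlt : r < chevE8.nroots := by
    rw [Nat.blt_eq] at hr240
    exact hr240
  unfold S24 at hv
  induction hv using Submodule.span_induction with
  | mem w hw =>
    obtain ⟨k, rfl⟩ := hw
    rcases k with i | k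
    · have h5 : (Pi.single (f24 (Sum.inl i)) 1 : chevE8.Idx → F) = hv chevE8 F i.1 := by
        funext a
        rcases a with a | a
        · rw [hv_inl]
          by_cases h : a.1 = i.1
          · have : a = ⟨i.1, by have := i.2; show i.1 < 8; omega⟩ := Fin.ext h
            rw [if_pos h, this]
            exact Pi.single_eq_same _ _
          · rw [if_neg h]
            refine Pi.single_eq_of_ne ?_ _
            intro h'
            exact h (congrArg Fin.val (Sum.inl_injective h'))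
        · rw [hv_inr]
          refine Pi.single_eq_of_ne ?_ _
          intro h'
          cases h'
      have hi : i.1 < chevE8.rank := by have := i.2; show i.1 < 8; omega
      have h6 := h4 i.1 (List.mem_range.2 i.2)
      show chevE8.x F r t *ᵥ (Pi.single (f24 (Sum.inl i)) 1 : chevE8.Idx → F) = _
      rw [h5, x_mulVec_hv hrlt hi, h6, Int.cast_zero, zero_mul, zero_smul, sub_zero]
      exact h5.symm
    · have h5 : (Pi.single (f24 (Sum.inr k)) 1 : chevE8.Idx → F) = ev chevE8 F (R1.getD k 0) :=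
        (ev_eq_single (lt1 k)).symm
      have hmem : R1.getD k 0 ∈ R1 := by
        rw [List.getD_eq_getElem _ _ k.2]
        exact List.getElem_mem _
      obtain ⟨⟨⟨-, h6⟩, h7⟩, h8⟩ := h2 _ hmem
      show chevE8.x F r t *ᵥ (Pi.single (f24 (Sum.inr k)) 1 : chevE8.Idx → F) = _
      rw [h5, x_mulVec_ev hrlt (lt1 k) (fun h => by rw [h, Nat.beq_refl] at h6; cases h6)
        (fun h => by rw [h, Nat.beq_refl] at h7; cases h7) h3]
      rcases Cfsg.Agent.H736.Co3.Tb.chainEntry_cases chevE8 r (R1.getD k 0) with ⟨e, he, he1, -⟩ | ⟨-, h9⟩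
      · exfalso
        have := h8 e he
        rw [he1, Nat.beq_refl] at this
        cases this
      · rw [h9, List.zipIdx_nil, List.map_nil, List.sum_nil, add_zero]
        exact h5.symm
  | zero => rw [Matrix.mulVec_zero]
  | add a b _ _ ha hb => rw [Matrix.mulVec_add, ha, hb]
  | smul c a _ ha => rw [Matrix.mulVec_smul, ha]

/-- the subgroup generated by the root elements of `E₂` -/
def E2 (F : Type*) [Field F] (hE : InList chevE8) : Subgroup (GL chevE8.Idx F) :=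
  Subgroup.closure {g | ∃ r ∈ R2, ∃ t : F, g = xG hE r t}

theorem E2_fix {F : Type*} [Field F] {hE : InList chevE8} {g : GL chevE8.Idx F} (hg : g ∈ E2 F hE) {v : chevE8.Idx → F}
    (hv : v ∈ S24 F) : (g : Matrix chevE8.Idx chevE8.Idx F) *ᵥ v = v := by
  unfold E2 at hg
  induction hg using Subgroup.closure_induction with
  | mem g hg =>
    obtain ⟨r, hr, t, rfl⟩ := hg
    rw [coe_xG]
    exact x_fix hr t hv
  | one => rw [Units.val_one, Matrix.one_mulVec]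
  | mul a b _ _ ha hb => rw [Units.val_mul, ← Matrix.mulVec_mulVec, hb, ha]
  | inv a _ ha =>
    have h1 : ((a⁻¹ : GL chevE8.Idx F) : Matrix chevE8.Idx chevE8.Idx F) *ᵥ ((a : Matrix chevE8.Idx chevE8.Idx F) *ᵥ v) = v := by
      rw [Matrix.mulVec_mulVec, ← Units.val_mul, inv_mul_cancel, Units.val_one, Matrix.one_mulVec]
    rwa [ha] at h1

/-- **24 dimensions fixed by `E₂`** -/
theorem h24 {hE : InList chevE8} {x y : ↥(chevE8.group (ZMod 3))} (hx : (x : GL chevE8.Idx (ZMod 3)) ∈ E2 (ZMod 3) hE)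
    (hy : (y : GL chevE8.Idx (ZMod 3)) ∈ E2 (ZMod 3) hE) :
    24 ≤ finrank (ZMod 3) ↥(LinearMap.ker (adjR x - 1) ⊓ LinearMap.ker (adjR y - 1)) := by
  rw [← finrank_S24 (ZMod 3)]
  refine Submodule.finrank_mono fun v hv => ?_
  rw [Submodule.mem_inf, LinearMap.mem_ker, LinearMap.mem_ker, LinearMap.sub_apply, LinearMap.sub_apply,
    Module.End.one_apply, adjR_apply, adjR_apply, E2_fix hx hv, E2_fix hy hv, sub_self]
  exact ⟨rfl, rfl⟩

end Cfsg.Agent.H627.E8L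
end
end
end
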